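import Cfsg.Agent.RFS.Inv

/-!
Essential subgroups neither in `Q` nor in `R` do not exist.
Read `RFS/Es` (structure `Es`, `Ch.*`, `Es.c1 c2 c3 chain cj count cenV`, commutator table) and the signatures of `RFS/Inv`.
Coordinates: `simp only [mem_X, cm, UE, h..] <;> grind`, `have := congrArg U.x5 e; simp only [UE, ..] at this; grind`.
`Finite (U K)` comes from `card_U`/`Finite.of_injective`; `V = VV E`, `I = II E`.

-/

set_option autoImplicit false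
set_option linter.unusedSectionVars false
set_option linter.unusedSimpArgs false
set_option maxRecDepth 20000

namespace Cfsg.Agent.RFS

open Subgroup Cfsg.Agent.Oct Cfsg.Agent.S2F Cfsg.Agent.Fus

variable {K : Type*} [Field K] [Tw K] [Finite K] {E : Subgroup (U K)}

namespace AN

theorem ch_of {L M P N : Subgroup (U K)} (hL : Ch E L) (hM : Ch E M) (hP : Ch E P) (hLE : L ≤ E)
    (e : ∀ y, y ∈ N ↔ y ∈ P ∧ ∀ g ∈ L, cm y g ∈ M) : Ch E N := fun α y hy h =>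
  (e _).2 ⟨hP α y hy ((e y).1 h).1, fun g hg => by
    have h1 := afn_mem α⁻¹ (hLE hg)
    rw [← afn_afn_inv α (hLE hg), ← afn_cm α hy h1]
    exact hM α _ (cm_mem hy h1) (((e y).1 h).2 _ (hL α⁻¹ g (hLE hg) hg))⟩

theorem cX4 {z : U K} (hz : z ∈ Zs) (g : U K) : g * z = z * g := by
  rw [mem_Zs] at hz
  ext <;> simp only [UE, hz] <;> grind

theorem v_Z4 {c v : U K} (c1 : c.x1 ≠ 0) (cQ : c ∉ Qs) (h2 : v * v = 1) (e : c * v = v * c) : v ∈ Z4 := by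
  rw [mem_Qs] at cQ
  have y8 := inv_y8 h2
  have e2 := congrArg U.y2 e
  have e6 := congrArg U.y6 e
  have e3 := congrArg U.x3 e
  have e5 := congrArg U.x5 e
  have x1 : v.x1 = 0 := by
    by_contra k
    have x8 := inv_x8 h2 k
    simp only [UE, y8, x8] at e2 e6
    have : c.y8 = 0 := by grind
    simp only [UE, this] at e6
    exact cQ ⟨this, by grind⟩
  have y2 := (inv_P0 h2 x1).2.1
  have x8 : v.x8 = 0 := by
    simp only [UE, y8, x1, y2] at e6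
    grind
  have s1 : σ c.x1 ≠ 0 := fun k => c1 (σ_eq_zero.1 k)
  rcases inv_AF h2 x1 x8 with k | k
  · rw [mem_As] at k
    simp only [UE, k] at e3 e5
    refine ⟨x1, y2, ?_, k.2.2⟩
    by_contra n
    have : c.y8 = 0 := by grind
    simp only [UE, this] at e5
    exact cQ ⟨this, by grind⟩
  · rw [mem_F5] at k
    simp only [UE, k] at e3
    exact ⟨x1, y2, k.2.2.1, k.2.2.2.1, k.2.2.2.2.1, by grind, k.2.2.2.2.2⟩

theorem g_Z5 {c y : U K} (c1 : c.x1 ≠ 0) (cQ : c ∉ Qs) (h2 : y * y = 1) (e : cm y c * cm y c = 1) :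
    y ∈ Z5 := by
  rw [mem_Qs] at cQ
  have y8 := inv_y8 h2
  have k1 : (cm y c).x1 = 0 := (cm_T_T y c).1
  have k2 := (inv_P0 e k1).2.1
  have k8 : (cm y c).x8 = 0 := by simp only [cm, UE, y8]; grind
  have k6 := (inv_Z5 e k1 k8).2.2.2.1
  have x1 : y.x1 = 0 := by
    by_contra k
    have x8 := inv_x8 h2 k
    simp only [cm, UE, y8, x8] at k2 k6
    have : c.y8 = 0 := by grind
    simp only [UE, this] at k6
    exact cQ ⟨this, by grind⟩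
  have y2 := (inv_P0 h2 x1).2.1
  refine inv_Z5 h2 x1 ?_
  simp only [cm, UE, y8, x1, y2] at k6
  grind

theorem Z4_As : (Z4 : Subgroup (U K)) ≤ As := fun _ h => ⟨h.1, h.2.1, h.2.2.2⟩

theorem Z5_P7 : (Z5 : Subgroup (U K)) ≤ P7 := fun _ h => ⟨h.1, h.2.1, h.2.2.2⟩

theorem c24 (s : K) : cm (X2 s) (X7 1) = X4 s := by ext <;> simp only [cm, UE]

theorem c46 (s : K) : cm (Y4 s) (X7 1) = X6 s := by ext <;> simp only [cm, UE] <;> grind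

theorem iZ4 (y : U K) : y ∈ Z4 ↔ y ∈ Z5 ∧ ∀ g ∈ (Z5 : Subgroup (U K)), cm y g ∈ (⊥ : Subgroup (U K)) := by
  refine ⟨fun h => ⟨⟨h.1, h.2.1, h.2.2.2.1, h.2.2.2.2.1, h.2.2.2.2.2.2⟩, fun g hg =>
    mem_bot.2 (cm_eq_one.2 (com_Z4_P7 h (Z5_P7 hg)))⟩, fun ⟨h, k⟩ => ?_⟩
  have a := congrArg U.x4 (mem_bot.1 (k (X7 1) (by simp only [mem_Z5, UE, and_self])))
  have b := congrArg U.x4 (mem_bot.1 (k (X2 1) (by simp only [mem_Z5, UE, and_self])))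
  rw [mem_Z5] at h
  simp only [cm, UE, h] at a b
  exact ⟨h.1, h.2.1, by grind, h.2.2.1, h.2.2.2.1, by grind, h.2.2.2.2⟩

theorem iP7 (y : U K) : y ∈ P7 ↔ y ∈ (⊤ : Subgroup (U K)) ∧
    ∀ g ∈ (Z4 : Subgroup (U K)), cm y g ∈ (⊥ : Subgroup (U K)) := by
  refine ⟨fun h => ⟨trivial, fun g hg => mem_bot.2 (cm_eq_one.2 (com_Z4_P7 hg h).symm)⟩, fun ⟨_, k⟩ => ?_⟩
  have a := cm_eq_one.1 (mem_bot.1 (k (X6 1) (by simp only [mem_Z4, UE, and_self])))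
  have b := cm_eq_one.1 (mem_bot.1 (k (X5 1) (by simp only [mem_Z4, UE, and_self])))
  have c := cm_eq_one.1 (mem_bot.1 (k (X3 1) (by simp only [mem_Z4, UE, and_self])))
  have a4 := congrArg U.x4 a
  have b4 := congrArg U.x4 b
  have b6 := congrArg U.x6 b
  have c4 := congrArg U.x4 c
  have c6 := congrArg U.x6 c
  simp only [UE] at a4 b6
  have x1 : y.x1 = 0 := by grind
  have y8 : y.y8 = 0 := by grind
  simp only [UE, x1, y8] at b4 c4 c6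
  exact ⟨x1, by grind, by grind, y8, by grind⟩

theorem iZ6 (y : U K) : y ∈ Z6 ↔ y ∈ (⊤ : Subgroup (U K)) ∧
    ∀ g ∈ (Z5 : Subgroup (U K)), cm y g ∈ (Ws : Subgroup (U K)) := by
  refine ⟨fun h => ⟨trivial, fun g hg => ?_⟩, fun ⟨_, k⟩ => ?_⟩
  · rw [mem_Z6] at h
    rw [mem_Z5] at hg
    simp only [mem_Ws, cm, UE, h, hg] <;> grind
  have a := k (X2 1) (by simp only [mem_Z5, UE, and_self])
  have b := k (X7 1) (by simp only [mem_Z5, UE, and_self])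
  have a3 := a.2.2.2.1
  have b3 := b.2.2.2.1
  have a5 := a.2.2.2.2.2.1
  have b5 := b.2.2.2.2.2.1
  simp only [cm, UE] at a3 b3
  have y8 : y.y8 = 0 := by grind
  have x1 : y.x1 = 0 := σ_eq_zero.1 (by grind)
  simp only [cm, UE, y8, x1] at a5 b5
  exact ⟨x1, σ_eq_zero.1 (by grind), y8, by grind⟩

theorem iYs (y : U K) : y ∈ Ys ↔ y ∈ Z6 ∧ ∀ g ∈ (Z6 : Subgroup (U K)), cm y g ∈ (⊥ : Subgroup (U K)) := by
  refine ⟨fun h => ⟨⟨h.1, h.2.1, h.2.2.2.2.2.2.2⟩, fun g hg =>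
    mem_bot.2 (cm_eq_one.2 (com_Ys_P0 h ⟨hg.1, hg.2.1, hg.2.2.1⟩))⟩, fun ⟨h, k⟩ => ?_⟩
  have a := cm_eq_one.1 (mem_bot.1 (k (X7 1) (by simp only [mem_Z6, UE, and_self])))
  have b := cm_eq_one.1 (mem_bot.1 (k (X2 1) (by simp only [mem_Z6, UE, and_self])))
  have c := cm_eq_one.1 (mem_bot.1 (k (Y6 1) (by simp only [mem_Z6, UE, and_self])))
  have d := cm_eq_one.1 (mem_bot.1 (k (Y4 1) (by simp only [mem_Z6, UE, and_self])))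
  have a4 := congrArg U.x4 a
  have b4 := congrArg U.x4 b
  have c4 := congrArg U.x4 c
  have c5 := congrArg U.x5 c
  have d5 := congrArg U.x5 d
  rw [mem_Z6] at h
  simp only [UE, h] at a4 b4 c4 c5 d5
  exact ⟨h.1, h.2.1, by grind, by grind, by grind, by grind, by grind, h.2.2⟩

theorem iZ7 (y : U K) : y ∈ Z7 ↔ y ∈ (⊤ : Subgroup (U K)) ∧
    ∀ g ∈ (Z6 : Subgroup (U K)), cm y g ∈ (Z4 : Subgroup (U K)) := by
  refine ⟨fun h => ⟨trivial, fun g hg => ?_⟩, fun ⟨_, k⟩ => ?_⟩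
  · rw [mem_Z7] at h
    rw [mem_Z6] at hg
    simp only [mem_Z4, cm, UE, h, hg] <;> grind
  have a := (k (Y4 1) (by simp only [mem_Z6, UE, and_self])).2.2.1
  have b := (k (Y6 1) (by simp only [mem_Z6, UE, and_self])).2.2.2.2.2.1
  simp only [cm, UE] at a b
  exact ⟨by grind, by grind⟩

theorem cP7 {a b : U K} (ha : a ∈ P7) (hb : b ∈ Z5) : cm a b ∈ (Ws : Subgroup (U K)) := by
  rw [mem_P7] at ha
  rw [mem_Z5] at hb
  simp only [mem_Ws, cm, UE, ha, hb] <;> grind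

theorem c64 {a b : U K} (ha : a ∈ Z6) (hb : b ∈ Z4) : cm a b ∈ (Zs : Subgroup (U K)) := by
  rw [mem_Z6] at ha
  rw [mem_Z4] at hb
  simp only [mem_Zs, cm, UE, ha, hb] <;> grind

/-- steps 1 - 4 -/
theorem five (h : Es E) {c : U K} (hc : c ∈ E) (c1 : c.x1 ≠ 0) (cQ : c ∉ Qs) : Z5 ≤ E ∧ Ch E Z5 := by
  let N : Subgroup (U K) := closure {y | y ∈ E ∧ (y * y = 1 ∧ ∀ g ∈ E, cm y g * cm y g = 1)}
  have hN : Ch E N := Ch.closure _ fun α y hy ⟨a, b⟩ => ⟨afn_sq α hy a, fun g hg => by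
    have h1 := afn_mem α⁻¹ hg
    rw [← afn_afn_inv α hg, ← afn_cm α hy h1]
    exact afn_sq α (cm_mem hy h1) (b _ h1)⟩
  have N5 : N ≤ Z5 := (closure_le _).2 fun y hy => g_Z5 c1 cQ hy.2.1 (hy.2.2 c hc)
  have gen : ∀ y ∈ E, y ∈ Z5 → y * y = 1 → y ∈ N := fun y hy h5 h2 =>
    subset_closure ⟨hy, h2, fun g _ => sq_As (Z4_As (cm_Z5_T h5 g))⟩
  have ZV : ∀ z ∈ (Zs : Subgroup (U K)), z ∈ VV E := fun z hz => h.mem_VV_of_comm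
    (sq_As ⟨hz.1, hz.2.1, hz.2.2.2.2.1, hz.2.2.2.2.2.2.1, hz.2.2.2.2.2.2.2.2⟩) fun g _ => cX4 hz g
  have step : ∀ x ∈ (Z5 : Subgroup (U K)), (∀ y ∈ E, cm x y ∈ E) → x ∈ E := fun x hx k =>
    h.c2 (Ch.VV E) hN (nm_of_cm k)
      (fun y _ hy => (com_Z4_P7 (v_Z4 c1 cQ hy.2.1 (hy.2.2 c hc)) (Z5_P7 hx)).symm)
      (fun y _ hy => ZV _ (cm_Z5_Z5 hx (N5 hy))) fun y hy =>
        gen _ (k y hy) ((iZ4 _).1 (cm_Z5_T hx y)).1 (sq_As (Z4_As (cm_Z5_T hx y)))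
  have eW : Ws ≤ E := fun x hx => step x
    ⟨hx.1, hx.2.1, hx.2.2.2.2.1, hx.2.2.2.2.2.2.1, hx.2.2.2.2.2.2.2.2⟩ fun y _ => (ZV _ (cm_Ws_T hx y)).1
  have eY : Ys ≤ E := fun x hx => step x
    ⟨hx.1, hx.2.1, hx.2.2.2.2.1, hx.2.2.2.2.2.1, hx.2.2.2.2.2.2.2⟩ fun y _ => eW (cm_Ys_T hx y)
  have e4 : Z4 ≤ E := fun x hx => step x ((iZ4 x).1 hx).1 fun y _ => eY (cm_Z4_T hx y)
  have e5 : Z5 ≤ E := fun x hx => step x hx fun y _ => e4 (cm_Z5_T hx y)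
  refine ⟨e5, hN.congr fun y _ => ⟨fun k => N5 k, fun k => ?_⟩⟩
  have a : X7 y.x7 ∈ (Z5 : Subgroup (U K)) := by simp only [mem_Z5, UE, and_self]
  have b := mul_mem k (inv_mem a)
  have := mul_mem (gen _ (e5 b) b (sq_As (by rw [mem_Z5] at k; simp only [mem_As, UE, k, and_self])))
    (gen _ (e5 a) a (sq_F5 (by simp only [mem_F5, UE, and_self])))
  rwa [inv_mul_cancel_right] at this

end AN

open AN in
/-- PROOF.  There is `c ∈ E` with `c.x1 ≠ 0` and `c ∉ Qs` (one of `a, b, a b`).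
1. `V ≤ Z4`: `v ∈ V` is an involution with `c v = v c`; `v.y8 = 0`.  If `v.x1 ≠ 0`: `v.x8 = 0` (`inv_x8`), coordinate y2 gives
 `c.y8 = 0`, then y6 gives `c.x8 * v.x1 = 0`, absurd.  So `v ∈ P0` (`inv_P0`), y6 gives `v.x8 * c.x1 = 0`, so `v ∈ As ∨ v ∈ F5`
 (`inv_AF`).  `v ∈ F5`: x3 gives `v.x7 * σ c.x1 = 0`.  `v ∈ As`, `v.x2 ≠ 0`: x3 gives `c.y8 = 0`, x5 gives `c.x8 = 0`, absurd.
2. `N = closure {y | y ∈ E ∧ (y * y = 1 ∧ ∀ g ∈ E, cm y g * cm y g = 1)}` is `Ch` (`Ch.closure`, `afn_cm`, `afn_sq`, write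
 `g = afn α (afn α⁻¹ g)`), and `N ≤ Z5`: for a generator `y` put `k = cm y c` (an involution or 1, `k.x1 = 0`).  `y.x1 ≠ 0`: `y ∈ Qs`;
 if `c.y8 ≠ 0` then `k.y2 = y.x1 c.y8 ≠ 0` against `inv_P0`; else `k.x8 = 0`, `k.y6 = y.x1 c.x8 ≠ 0` against `inv_Z5`.
 So `y ∈ P0`; if `y.x8 ≠ 0` then `k.x8 = 0`, `k.y6 = y.x8 c.x1 ≠ 0` against `inv_Z5`; so `inv_Z5` applies to `y`.
 Every `y ∈ E` with `y ∈ As ∨ y ∈ F5` is a generator (`cm y g ∈ Z4 ≤ As`, `sq_As`).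
3. `Zs ≤ V` (`cen`, `comm_X4`).  Successively `Ws, Ys, Z4, Z5 ≤ E`: for `x` in the next term `Nm E x` (`nm_of_cm`), and `c2` with
 `V, N`: `x` centralises `V ≤ Z4` (`com_Z4_P7`), `cm x N ≤ Zs ≤ V` (`cm_Z5_Z5`), `cm x E ≤ Z4 ∩ E ≤ N`.
4. Now `Z5 = N` on `E` (`Z5 ∋ y = (As-part) * X7 _`), so `Ch E Z5`; `Zs = [Z5,Z5]` (`Ch.of_comm`, `cm (X2 s) (X7 1) = X4 s`);
 `Z4 = Z5 ⊓ C(Z5)` (`Ch.of_cen`, `Ch.inf`, `Ch.congr`).
5. `Z6 ≤ E`: `c3` with `Zs, Z4, Z5` (`cm Z6 Z4 ≤ Zs`, `cm Z6 Z5 ≤ Z4`, `cm_Z6_T`).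
6. `Ch`: `P7 = C(Z4)` (test X3 1, X5 1, X6 1), `Ws = [P7,Z5]` (`cm (Y4 s) (X7 1) = X6 s`), `Z6 = {g | [g,Z5] ≤ Ws}` (`Ch.of_cm`;
 test X2 1, X7 1, X3 1), `Ys = Z6 ⊓ C(Z6)`.
7. `Z7 ≤ E`: `chain [Zs, Ws, Ys, Z4, Z5, Z6]` with the `cm_Zi_T`, `cm_T_Zi`.  `Ch E Z7`: `Z7 = {g | [g,Z6] ≤ Z4}` (test Y4 1, Y6 1).
8. Every `x` lies in `E`: `chain [Zs, Ws, Ys, Z4, Z5, Z6, Z7]`; this contradicts `h.ne`. -/
theorem caseN (h : Es E) (hR : ¬ E ≤ Rs) (hQ : ¬ E ≤ Qs) : False := by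
  obtain ⟨c, hc, c1, cQ⟩ : ∃ c ∈ E, c.x1 ≠ 0 ∧ c ∉ Qs := by
    obtain ⟨a, ha, na⟩ := SetLike.not_le_iff_exists.1 hR
    obtain ⟨b, hb, nb⟩ := SetLike.not_le_iff_exists.1 hQ
    by_cases h1 : a ∈ Qs
    swap
    · exact ⟨a, ha, na, h1⟩
    by_cases h2 : b ∈ Rs
    swap
    · exact ⟨b, hb, h2, nb⟩
    exact ⟨a * b, mul_mem ha hb, fun k => na ((mul_mem_cancel_right h2).1 k),
      fun k => nb ((mul_mem_cancel_left h1).1 k)⟩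
  obtain ⟨e5, h5⟩ := five h hc c1 cQ
  have m2 : ∀ s : K, X2 s ∈ (Z5 : Subgroup (U K)) := fun s => by simp only [mem_Z5, UE, and_self]
  have m7 : X7 1 ∈ (Z5 : Subgroup (U K)) := by simp only [mem_Z5, UE, and_self]
  have h1 : Ch E Zs := h5.of_comm h5 (fun _ _ a _ _ b => cm_Z5_Z5 a b) fun T k u hu => by
    have := k _ (e5 (m2 u.x4)) (m2 _) _ (e5 m7) m7
    rw [c24] at this
    rw [mem_Zs] at hu
    rwa [show u = X4 u.x4 by ext <;> simp only [UE, hu]]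
  have h4 : Ch E Z4 := ch_of h5 Ch.bot h5 e5 iZ4
  have e4 : Z4 ≤ E := fun x hx => e5 ((iZ4 x).1 hx).1
  have e6 : Z6 ≤ E := fun x hx => h.c3 h1 h4 h5 (nm_of_cm fun y _ => e5 (cm_Z6_T hx y))
    (fun _ _ k => cX4 k x) (fun _ _ k => c64 hx k) (fun _ _ k => cm_T_Z5 x k) fun y _ => cm_Z6_T hx y
  have h7 : Ch E P7 := ch_of h4 Ch.bot Ch.top e4 iP7
  have h2 : Ch E Ws := h7.of_comm h5 (fun _ _ a _ _ b => cP7 a b) fun T k u hu => by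
    have a := k _ (e5 (m2 u.x4)) (Z5_P7 (m2 _)) _ (e5 m7) m7
    have b := k (Y4 u.x6) (e6 (by simp only [mem_Z6, UE, and_self]))
      (by simp only [mem_P7, UE, and_self]) _ (e5 m7) m7
    rw [c24] at a
    rw [c46] at b
    rw [mem_Ws] at hu
    rw [show u = X4 u.x4 * X6 u.x6 by ext <;> simp only [UE, hu]]
    exact mul_mem a b
  have h6 : Ch E Z6 := ch_of h5 h2 Ch.top e5 iZ6
  have h3 : Ch E Ys := ch_of h6 Ch.bot h6 e6 iYs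
  have h8 : Ch E Z7 := ch_of h6 h4 Ch.top e6 iZ7
  have z : ∀ x, ∀ y ∈ E, y ∈ (Zs : Subgroup (U K)) → cm x y ∈ (⊥ : Subgroup (U K)) :=
    fun x _ _ k => mem_bot.2 (cm_eq_one.2 (cX4 k x))
  have e7 : Z7 ≤ E := fun x hx => h.chain [Zs, Ws, Ys, Z4, Z5, Z6] x
    (nm_of_cm fun y _ => e6 (cm_Z7_T hx y)) ⟨h1, z x, h2, fun _ _ => cm_T_Ws x, h3, fun _ _ => cm_T_Ys x,
      h4, fun _ _ => cm_T_Z4 x, h5, fun _ _ => cm_T_Z5 x, h6, fun _ _ => cm_T_Z6 x, fun y _ => cm_Z7_T hx y⟩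
  exact h.ne (eq_top_iff.2 fun x _ => h.chain [Zs, Ws, Ys, Z4, Z5, Z6, Z7] x
    (nm_of_cm fun y _ => e7 (cm_T_T x y)) ⟨h1, z x, h2, fun _ _ => cm_T_Ws x, h3, fun _ _ => cm_T_Ys x,
      h4, fun _ _ => cm_T_Z4 x, h5, fun _ _ => cm_T_Z5 x, h6, fun _ _ => cm_T_Z6 x, h8,
      fun _ _ => cm_T_Z7 x, fun y _ => cm_T_T x y⟩)

end Cfsg.Agent.RFS
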