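import Cfsg.Agent.RFS.Inv

/-!
An essential subgroup inside `Q` contains `As`.
Read `RFS/Es` (structure `Es`, `Ch.*`, `Es.c1 c2 c3 chain cj count cenV`, commutator table) and the signatures of `RFS/Inv`.
Coordinates: `simp only [mem_X, cm, UE, h..] <;> grind`, `have := congrArg U.x5 e; simp only [UE, ..] at this; grind`.
`Finite (U K)` comes from `card_U`/`Finite.of_injective`; `V = VV E`, `I = II E`.

-/

set_option autoImplicit false
set_option linter.unusedSectionVars false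
set_option linter.unusedSimpArgs false
set_option maxRecDepth 20000

namespace Cfsg.Agent.RFS

open Subgroup Cfsg.Agent.Oct Cfsg.Agent.S2F Cfsg.Agent.Fus

variable {K : Type*} [Field K] [Tw K] [Finite K] {E : Subgroup (U K)}

namespace AQ1

/-- The elementary abelian group `X₁X₂X₃X₄X₅`. -/
def F1 : Subgroup (U K) where
  carrier := {u | u.y2 = 0 ∧ u.y4 = 0 ∧ u.y6 = 0 ∧ u.x6 = 0 ∧ u.x7 = 0 ∧ u.y8 = 0 ∧ u.x8 = 0}
  mul_mem' := fun {a b} ⟨h0, h1, h2, h3, h4, h5, h6⟩ ⟨k0, k1, k2, k3, k4, k5, k6⟩ => by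
    simp only [Set.mem_ofPred_eq, UE, h0, h1, h2, h3, h4, h5, h6, k0, k1, k2, k3, k4, k5, k6, and_self]
  one_mem' := by simp only [Set.mem_ofPred_eq, UE, and_self]
  inv_mem' := fun {a} ⟨h0, h1, h2, h3, h4, h5, h6⟩ => by
    simp only [Set.mem_ofPred_eq, UE, h0, h1, h2, h3, h4, h5, h6, and_self]

theorem mem_F1 {u : U K} :
    u ∈ F1 ↔ u.y2 = 0 ∧ u.y4 = 0 ∧ u.y6 = 0 ∧ u.x6 = 0 ∧ u.x7 = 0 ∧ u.y8 = 0 ∧ u.x8 = 0 := Iff.rfl

theorem com_F1 {a : U K} (ha : a ∈ F1) {b : U K} (hb : b ∈ F1) : a * b = b * a := by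
  rw [mem_F1] at ha
  rw [mem_F1] at hb
  ext <;> simp only [UE, ha, hb] <;> grind

theorem sq_F1 {a : U K} (ha : a ∈ F1) : a * a = 1 := by
  rw [mem_F1] at ha
  ext <;> simp only [UE, ha] <;> grind

theorem com_Zs {a : U K} (ha : a ∈ Zs) (b : U K) : b * a = a * b := by
  rw [mem_Zs] at ha
  ext <;> simp only [UE, ha] <;> grind

theorem sq_Zs {a : U K} (ha : a ∈ Zs) : a * a = 1 := by
  rw [mem_Zs] at ha
  ext <;> simp only [UE, ha] <;> grind

theorem Zs_le (h : Es E) : Zs ≤ VV E := fun _ hz => h.mem_VV_of_comm (sq_Zs hz) fun g _ => com_Zs hz g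

theorem cjV (h : Es E) (hQ : E ≤ Qs) {v : U K} (hv : v ∈ VV E) (g : U K) :
    ∃ E' : Subgroup (U K), Es E' ∧ E' ≤ Qs ∧ g * v * g⁻¹ ∈ VV E' := by
  obtain ⟨E', h1, h2⟩ := h.cj g
  refine ⟨E', h1, fun x hx => ?_, (h2 _).2 (by simpa [mul_assoc] using hv.1), ?_, fun x hx => ?_⟩
  · simpa [mul_assoc] using nor_Qs.conj_mem _ (hQ ((h2 x).1 hx)) g
  · calc _ = g * (v * v) * g⁻¹ := by group
      _ = 1 := by rw [hv.2.1]; simp
  · calc _ = g * (g⁻¹ * x * g * v) * g⁻¹ := by group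
      _ = _ := by rw [hv.2.2 _ ((h2 x).1 hx)]; group

theorem cen1 {g : U K} (hg : g ∈ Qs) {d : K} (hd : d ≠ 0) (e : g * X1 d = X1 d * g) :
    g.y4 = 0 ∧ g.y6 = 0 ∧ g.x6 = 0 ∧ g.x7 = 0 ∧ g.y8 = 0 ∧ g.x8 = 0 := by
  obtain ⟨y8, x8⟩ := hg
  have e5 := congrArg U.x5 e
  simp only [UE, y8, x8] at e5
  have x7 : g.x7 = 0 := σ_eq_zero.1 (by grind)
  have e3 := congrArg U.x3 e
  simp only [UE, y8, x8, x7] at e3
  have y6 : g.y6 = 0 := σ_eq_zero.1 (by grind)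
  have e2 := congrArg U.x2 e
  simp only [UE, y8, x8, x7, y6] at e2
  have y4 : g.y4 = 0 := by grind
  have e4 := congrArg U.x4 e
  simp only [UE, y8, x8, x7, y6, y4] at e4
  exact ⟨y4, y6, by grind, x7, y8, x8⟩

theorem cen7 {g : U K} (hg : g ∈ Qs) {d : K} (hd : d ≠ 0) (e : g * X7 d = X7 d * g) :
    g.x1 = 0 ∧ g.y2 = 0 ∧ g.x2 = 0 ∧ g.y4 = 0 ∧ g.y8 = 0 ∧ g.x8 = 0 := by
  obtain ⟨y8, x8⟩ := hg
  have e3 := congrArg U.x3 e
  simp only [UE, y8, x8] at e3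
  have x1 : g.x1 = 0 := σ_eq_zero.1 (by grind)
  have e5 := congrArg U.x5 e
  simp only [UE, y8, x8, x1] at e5
  have y2 : g.y2 = 0 := σ_eq_zero.1 (by grind)
  have e6 := congrArg U.x6 e
  simp only [UE, y8, x8, x1, y2] at e6
  have y4 : g.y4 = 0 := by grind
  have e4 := congrArg U.x4 e
  simp only [UE, y8, x8, x1, y2, y4] at e4
  exact ⟨x1, y2, by grind, y4, y8, x8⟩

theorem caseA (h : Es E) (hQ : E ≤ Qs) {d : K} (hd : d ≠ 0) (hv : X1 d ∈ VV E) : False := by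
  have hc := fun g (hg : g ∈ E) => cen1 (hQ hg) hd (hv.2.2 g hg)
  have hZ := Zs_le h
  have hI : ∀ y ∈ E, y * y = 1 → y ∈ F1 := fun y hy e => by
    have k := hc y hy
    have e2 := congrArg U.x2 e
    simp only [UE, k] at e2
    exact ⟨mul_σ_eq_zero e2, k⟩
  have hcm : ∀ a ∈ (F1 : Subgroup (U K)), ∀ b ∈ E, cm a b ∈ (Zs : Subgroup (U K)) := fun a ha b hb => by
    have k := hc b hb
    rw [mem_F1] at ha
    simp only [mem_Zs, cm, UE, ha, k] <;> grind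
  have hF : F1 ≤ E := fun u hu => h.c1 (Ch.VV E) (nm_of_cm fun y hy => (hZ (hcm u hu y hy)).1)
    (fun y hy hy' => com_F1 hu (hI y hy hy'.2.1)) fun y hy => hZ (hcm u hu y hy)
  have h6 : (X6 1 : U K) ∈ Ws := by simp only [mem_Ws, UE, and_self]
  have n6 : Nm E (X6 1) := nm_of_cm fun y _ => (hZ (cm_Ws_T h6 y)).1
  have m6 : X6 1 ∉ E := fun k => by simpa only [UE, one_ne_zero] using (hc _ k).2.2.1
  by_cases hy : ∃ g ∈ E, g.y2 ≠ 0
  · obtain ⟨g, hg, hg2⟩ := hy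
    have c1 : Ch E F1 := (Ch.II E).congr fun y hy => ⟨fun k => II_le hI k, fun k => mem_II hy (sq_F1 k)⟩
    have c2 : Ch E Zs := Ch.of_comm c1 Ch.top (fun a _ ha b hb _ => hcm a ha b hb) fun T hT z hz => by
      obtain ⟨s, hs⟩ : ∃ s, s * g.y2 = z.x4 := ⟨z.x4 / g.y2, div_mul_cancel₀ _ hg2⟩
      have m5 : (X5 s : U K) ∈ F1 := by simp only [mem_F1, UE, and_self]
      have := hT _ (hF m5) m5 g hg trivial
      have k := hc g hg
      rw [mem_Zs] at hz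
      rwa [show cm (X5 s) g = z by ext <;> simp only [cm, UE, k, hz] <;> grind] at this
    exact m6 (h.c1 c2 n6 (fun y _ hy => com_Zs hy _) fun y _ => cm_Ws_T h6 y)
  · push Not at hy
    have hE : E ≤ F1 := fun g hg => ⟨hy g hg, hc g hg⟩
    have m2 : (X2 1 : U K) ∈ F1 := by simp only [mem_F1, UE, and_self]
    have := h.count Ch.top (fun y hy _ g hg => com_F1 (hE hg) (hE hy)) (x := X6 1) (x' := X7 1) n6
      (fun y hy => hF (by
        have k := mem_F1.1 (hE hy)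
        simp only [mem_F1, UE, k] <;> grind)) m6
      (fun k => by simpa only [UE, one_ne_zero] using (hc _ k).2.2.2.1)
      (by rw [show (X6 1 * X6 1 : U K) = 1 by ext <;> simp only [UE] <;> grind]; exact one_mem _)
      (by rw [show (X7 1 * X7 1 : U K) = 1 by ext <;> simp only [UE] <;> grind]; exact one_mem _)
      (fun y hy _ e => by
        have k := mem_F1.1 (hE hy)
        have x1 := (cen7 (hQ hy) one_ne_zero e.symm).1
        ext <;> simp only [UE, k, x1] <;> grind)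
      (X2 1) (hF m2) trivial (by ext <;> simp only [UE] <;> grind)
    simpa only [UE, one_ne_zero] using (cen7 (hQ (hF m2)) one_ne_zero this.symm).2.2.1

theorem caseB (h : Es E) (hQ : E ≤ Qs) {d : K} (hd : d ≠ 0) (hv : X7 d ∈ VV E) : False := by
  have hc := fun g (hg : g ∈ E) => cen7 (hQ hg) hd (hv.2.2 g hg)
  have hZ := Zs_le h
  have hI : ∀ y ∈ E, y * y = 1 → y ∈ F5 := fun y hy e => by
    have k := hc y hy
    have e2 := congrArg U.x6 e
    simp only [UE, k] at e2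
    exact ⟨k.1, k.2.1, k.2.2.1, k.2.2.2.1, mul_σ_eq_zero e2, k.2.2.2.2⟩
  have hcm : ∀ a ∈ (F5 : Subgroup (U K)), ∀ b ∈ E, cm a b ∈ (Zs : Subgroup (U K)) := fun a ha b hb => by
    have k := hc b hb
    rw [mem_F5] at ha
    simp only [mem_Zs, cm, UE, ha, k] <;> grind
  have hF : F5 ≤ E := fun u hu => h.c1 (Ch.VV E) (nm_of_cm fun y hy => (hZ (hcm u hu y hy)).1)
    (fun y hy hy' => com_F5_F5 hu (hI y hy hy'.2.1)) fun y hy => hZ (hcm u hu y hy)
  have h2 : (X2 1 : U K) ∈ As := by simp only [mem_As, UE, and_self]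
  have n2 : Nm E (X2 1) := nm_of_cm fun y hy => (hZ (cm_As_Qs h2 (hQ hy))).1
  have m2 : X2 1 ∉ E := fun k => by simpa only [UE, one_ne_zero] using (hc _ k).2.2.1
  by_cases hy : ∃ g ∈ E, g.y6 ≠ 0
  · obtain ⟨g, hg, hg2⟩ := hy
    have c1 : Ch E F5 := (Ch.II E).congr fun y hy => ⟨fun k => II_le hI k, fun k => mem_II hy (sq_F5 k)⟩
    have c2 : Ch E Zs := Ch.of_comm c1 Ch.top (fun a _ ha b hb _ => hcm a ha b hb) fun T hT z hz => by
      obtain ⟨s, hs⟩ : ∃ s, s * g.y6 = z.x4 := ⟨z.x4 / g.y6, div_mul_cancel₀ _ hg2⟩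
      have m5 : (X3 s : U K) ∈ F5 := by simp only [mem_F5, UE, and_self]
      have := hT _ (hF m5) m5 g hg trivial
      have k := hc g hg
      rw [mem_Zs] at hz
      rwa [show cm (X3 s) g = z by ext <;> simp only [cm, UE, k, hz] <;> grind] at this
    exact m2 (h.c1 c2 n2 (fun y _ hy => com_Zs hy _) fun y hy => cm_As_Qs h2 (hQ hy))
  · push Not at hy
    have hE : E ≤ F5 := fun g hg =>
      have k := hc g hg
      ⟨k.1, k.2.1, k.2.2.1, k.2.2.2.1, hy g hg, k.2.2.2.2⟩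
    have m6 : (X6 1 : U K) ∈ F5 := by simp only [mem_F5, UE, and_self]
    have := h.count Ch.top (fun y hy _ g hg => com_F5_F5 (hE hg) (hE hy)) (x := X2 1) (x' := X1 1) n2
      (fun y hy => hF (nor_F5.conj_mem _ (hE hy) _)) m2
      (fun k => by simpa only [UE, one_ne_zero] using (hc _ k).1)
      (by rw [show (X2 1 * X2 1 : U K) = 1 by ext <;> simp only [UE] <;> grind]; exact one_mem _)
      (by rw [show (X1 1 * X1 1 : U K) = 1 by ext <;> simp only [UE] <;> grind]; exact one_mem _)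
      (fun y hy _ e => by
        have k := mem_F5.1 (hE hy)
        have x7 := (cen1 (hQ hy) one_ne_zero e.symm).2.2.2.1
        ext <;> simp only [UE, k, x7] <;> grind)
      (X6 1) (hF m6) trivial (by ext <;> simp only [UE] <;> grind)
    simpa only [UE, one_ne_zero] using (cen1 (hQ (hF m6)) one_ne_zero this.symm).2.2.1

end AQ1

/-- PROOF.  `Zs ≤ V`.  If `V ≤ Ps`: for `x ∈ As`, `c1` with `V` (`com_As_Ps`, `cm_As_Qs`).  Otherwise take `v ∈ V`, `v ∉ Ps`;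
we derive `False`.  By `nf1` (if `v.x1 ≠ 0`) or `inv_AF` + `nf7` (if `v.x1 = 0`; `As ≤ Ps`) and `Es.cj` (the conjugate `E'` is again
in the normal subgroup `Qs`, and the conjugate of `v` is in `VV E'`) it suffices to refute
(a) `X1 d ∈ V`, `d ≠ 0`: every `g ∈ E` commutes with `X1 d`: x5 gives `g.x7 = 0`, x3 `g.y6 = 0`, x2 `g.y4 = 0`, x4 `g.x6 = 0`.
 Let `F1 = {y2 = y4 = y6 = x6 = x7 = y8 = x8 = 0}` (elementary abelian).  `X1 s, X2 s, X3 s, X4 s ∈ E` by `cen`.  An involution of `E`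
 has `y2 = 0` (coordinate x2 of the square is `y2 σ y2`), so `V, I ≤ F1`; `X5 s ∈ E` by `c1` with `V` (`cm (X5 s) g ∈ Zs`).  So
 `F1 ≤ E` and `I = F1` on `E`.  If some `g ∈ E` has `g.y2 ≠ 0`: `Zs = [I, E]` (`Ch.of_comm` with `⊤`; `cm (X5 s) g = X4 (s g.y2)`),
 so `X6 1 ∈ E` by `c1` with `Zs`, absurd.  Otherwise `E = F1` is abelian: `Es.count` with `L = ⊤`, `x = X6 1`, `x' = X7 1`
 (`C(X7 1) = {x1 = x2 = 0} ≤ C(X6 1) = {x1 = 0}` in `F1`) makes `X7 1` commute with `X2 1`, absurd.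
(b) `X7 f ∈ V`, `f ≠ 0`: mirror image (indices `i ↦ 8 - i`): `g ∈ E` has `x1 = y2 = y4 = x2 = 0`; `F5 ≤ E` (`X3 s` by `c1`);
 `g.y6 ≠ 0` gives `Zs = [I,E]` and `X2 1 ∈ E`; `E = F5`: `count` with `x = X2 1`, `x' = X1 1`, witness `X6 1`. -/
theorem As_le (h : Es E) (hQ : E ≤ Qs) : As ≤ E := by
  have hZ := AQ1.Zs_le h
  by_cases hV : VV E ≤ Ps
  · exact fun x hx => h.c1 (Ch.VV E) (nm_of_cm fun y hy => (hZ (cm_As_Qs hx (hQ hy))).1)
      (fun y _ hy => com_As_Ps hx (hV hy)) fun y hy => hZ (cm_As_Qs hx (hQ hy))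
  exfalso
  obtain ⟨v, hv, hP⟩ := SetLike.not_le_iff_exists.1 hV
  by_cases h1 : v.x1 = 0
  · rcases inv_AF hv.2.1 h1 (hQ hv.1).2 with k | k
    · exact hP ⟨k.1, k.2.1, k.2.2.2⟩
    · have h7 : v.x7 ≠ 0 := fun e => hP ⟨k.1, k.2.1, k.2.2.2.2.1, e, k.2.2.2.2.2⟩
      obtain ⟨g, -, e⟩ := nf7 k h7
      obtain ⟨E', a1, a2, a3⟩ := AQ1.cjV h hQ hv g
      exact AQ1.caseB a1 a2 h7 (e ▸ a3)
  · obtain ⟨g, e⟩ := nf1 hv.2.1 h1
    obtain ⟨E', a1, a2, a3⟩ := AQ1.cjV h hQ hv g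
    exact AQ1.caseA a1 a2 h1 (e ▸ a3)

end Cfsg.Agent.RFS
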