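import Cfsg.Agent.RFS.Inv

/-!
An essential subgroup between `As` and `Q` is `Q`.
Read `RFS/Es` (structure `Es`, `Ch.*`, `Es.c1 c2 c3 chain cj count cenV`, commutator table) and the signatures of `RFS/Inv`.
Coordinates: `simp only [mem_X, cm, UE, h..] <;> grind`, `have := congrArg U.x5 e; simp only [UE, ..] at this; grind`.
`Finite (U K)` comes from `card_U`/`Finite.of_injective`; `V = VV E`, `I = II E`.

-/

set_option autoImplicit false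
set_option linter.unusedSectionVars false
set_option linter.unusedSimpArgs false
set_option maxRecDepth 20000

namespace Cfsg.Agent.RFS

open Subgroup Cfsg.Agent.Oct Cfsg.Agent.S2F Cfsg.Agent.Fus

variable {K : Type*} [Field K] [Tw K] [Finite K] {E : Subgroup (U K)}

namespace AQ2

omit [Finite K] in
theorem sq_Qs {x : U K} (hx : x ∈ Qs) : x * x ∈ (As : Subgroup (U K)) := by
  rw [mem_Qs] at hx
  simp only [mem_As, UE, hx] <;> grind

omit [Finite K] in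
theorem ZA {x : U K} (hx : x ∈ Zs) : x ∈ (As : Subgroup (U K)) := by
  rw [mem_Zs] at hx
  simp only [mem_As, hx, and_self]

omit [Finite K] in
theorem PQ {x : U K} (hx : x ∈ Ps) : x ∈ (Qs : Subgroup (U K)) := ⟨hx.2.2.2.2.1, hx.2.2.2.2.2⟩

omit [Finite K] in
theorem com_Zs {z : U K} (hz : z ∈ Zs) (x : U K) : x * z = z * x := by
  rw [eq_X4 hz, comm_X4]

omit [Finite K] in
theorem inv_Ps {y : U K} (hy : y ∈ Ps) (h : y * y = 1) : y ∈ (As : Subgroup (U K)) := by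
  obtain ⟨a1, a2, a6, a7, a8, a9⟩ := hy
  have e := congrArg U.x4 h
  simp only [UE, a1, a2, a6, a7, a8, a9] at e
  exact ⟨a1, a2, mul_σ_eq_zero (by grind), a6, a7, a8, a9⟩

omit [Finite K] in
theorem cm_conj {Ω : Type*} [Group Ω] (k a b : Ω) : cm (k * a * k⁻¹) (k * b * k⁻¹) = k * cm a b * k⁻¹ := by
  simp only [cm]; group

omit [Finite K] in
theorem sq_conj {Ω : Type*} [Group Ω] (k a : Ω) : k * a * k⁻¹ * (k * a * k⁻¹) = k * (a * a) * k⁻¹ := by group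

omit [Finite K] in
theorem cm_pr {v g : U K} (hv : v ∈ As) (hg : g ∈ Qs) : cm v g = X4 (pr g v) := by
  rw [mem_As] at hv
  rw [mem_Qs] at hg
  ext <;> simp only [cm, pr, UE, hv, hg] <;> grind

omit [Finite K] in
theorem X4_eq_one {c : K} (h : X4 c = 1) : c = 0 := congrArg U.x4 h

omit [Finite K] in
theorem com_pr {v g : U K} (hv : v ∈ As) (hg : g ∈ Qs) : g * v = v * g ↔ pr g v = 0 := by
  rw [eq_comm, ← cm_eq_one, cm_pr hv hg]
  exact ⟨X4_eq_one, fun h => by rw [h, X4_zero]⟩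

omit [Finite K] in
theorem surj_pr {g : U K} (hg : g ∈ Qs) (h : g ∉ Ps) (c : K) : ∃ v ∈ As, cm v g = X4 c := by
  have key : ∀ v ∈ As, pr g v = c → ∃ v ∈ As, cm v g = X4 c := fun v hv e => ⟨v, hv, by rw [cm_pr hv hg, e]⟩
  by_cases h1 : g.x1 = 0
  · by_cases h2 : g.y2 = 0
    · by_cases h6 : g.y6 = 0
      · have h7 : g.x7 ≠ 0 := fun h7 => h ⟨h1, h2, h6, h7, hg.1, hg.2⟩
        exact key (X2 (c / g.x7)) (by simp only [mem_As, UE, and_self]) (by simp only [pr, UE]; grind)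
      · exact key (X3 (c / g.y6)) (by simp only [mem_As, UE, and_self]) (by simp only [pr, UE]; grind)
    · exact key (X5 (c / g.y2)) (by simp only [mem_As, UE, and_self]) (by simp only [pr, UE]; grind)
  · exact key (X6 (c / g.x1)) (by simp only [mem_As, UE, and_self]) (by simp only [pr, UE]; grind)

omit [Finite K] in
theorem PsM {y g : U K} (hy : y ∈ Ps) (hg : g ∈ Qs) (h : g ∉ Ps) (e : cm y g ∈ Zs) : y ∈ (As : Subgroup (U K)) := by
  obtain ⟨a1, a2, a6, a7, a8, a9⟩ := hy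
  refine ⟨a1, a2, ?_, a6, a7, a8, a9⟩
  by_contra h4
  simp only [mem_Zs, cm, UE, a1, a2, a6, a7, a8, a9, hg.1, hg.2] at e
  exact h ⟨by grind, by grind, by grind, by grind, hg.1, hg.2⟩

omit [Finite K] in
theorem mem_Ps_of {y : U K} (hy : y ∈ Qs) (e : cm y (Y4 1) ∈ Zs) : y ∈ (Ps : Subgroup (U K)) := by
  simp only [mem_Zs, cm, UE, hy.1, hy.2] at e
  exact ⟨by grind, by grind, by grind, by grind, hy.1, hy.2⟩

/-- The symplectic form on `Q / Ps`. -/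
def β (g h : U K) : K := g.x1 * h.x7 + g.x7 * h.x1 + g.y2 * h.y6 + g.y6 * h.y2

omit [Finite K] in
theorem cm3 {p g h : U K} (hp : p ∈ Ps) (hg : g ∈ Qs) (hh : h ∈ Qs) : cm (cm p g) h = X4 (p.y4 * β g h) := by
  rw [cm_pr (cm_Qs_Qs (PQ hp) hg) hh]
  rw [mem_Ps] at hp
  rw [mem_Qs] at hg
  simp only [pr, β, cm, UE, hp, hg]
  congr 1
  grind

omit [Finite K] in
theorem nm (hQ : E ≤ Qs) (hA : As ≤ E) {x : U K} (hx : x ∈ Qs) : Nm E x :=
  nm_of_cm fun _ hy => hA (cm_Qs_Qs hx (hQ hy))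

omit [Finite K] in
theorem key (h : Es E) (hQ : E ≤ Qs) (hA : As ≤ E) (hZ : Ch E Zs) (hC : Ch E As) : E = Qs :=
  le_antisymm hQ fun _ hx => h.c2 hZ hC (nm hQ hA hx) (fun _ _ hy => com_Zs hy _)
    (fun _ _ hy => cm_Qs_As hx hy) fun _ hy => cm_Qs_Qs hx (hQ hy)

omit [Finite K] in
theorem key2 (h : Es E) (hQ : E ≤ Qs) (hA : As ≤ E) (hZ : Ch E Zs)
    (hM : ∀ y ∈ E, (∀ g ∈ E, cm y g ∈ Zs) → y ∈ As) : E = Qs :=
  key h hQ hA hZ (Ch.of_cm Ch.top hZ fun y hy =>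
    ⟨fun hy' _ hg _ => cm_As_Qs hy' (hQ hg), fun e => hM y hy fun g hg => e g hg trivial⟩)

theorem step0 (h : Es E) (hQ : E ≤ Qs) (hA : As ≤ E) : ¬ E ≤ Ps := fun hP => by
  have hC : Ch E As := (Ch.VV E).congr fun y hy => ⟨fun hv => inv_Ps (hP hy) hv.2.1,
    fun hv => ⟨hy, sq_As hv, fun g hg => (com_As_Ps hv (hP hg)).symm⟩⟩
  have hPE : Ps ≤ E := fun x hx => h.c1 hC (nm hQ hA (PQ hx)) (fun y _ hy => (com_As_Ps hy hx).symm)
    fun y hy => ZA (cm_Ps_Ps hx (hP hy))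
  have hZ : Ch E Zs := Ch.of_sq Ch.top (fun a ha _ => by
      have := hP ha
      rw [mem_Ps] at this
      simp only [mem_Zs, UE, this] <;> grind)
    fun T hT z hz => by
      rw [eq_X4 hz]
      by_cases hc : z.x4 = 0
      · rw [hc, X4_zero]; exact one_mem _
      · obtain ⟨κ, hκ⟩ := exists_l2 hc
        have := hT (Y4 (κ : K)) (hPE (by simp only [mem_Ps, UE, and_self])) trivial
        rwa [show (Y4 (κ : K) * Y4 (κ : K) : U K) = X4 z.x4 by ext <;> simp only [UE] <;> grind] at this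
  have := hP ((key h hQ hA hZ hC).ge (show X7 1 ∈ Qs by simp only [mem_Qs, UE, and_self]))
  exact one_ne_zero this.2.2.2.1

omit [Finite K] in
theorem V_le (hQ : E ≤ Qs) (hA : As ≤ E) {v : U K} (hv : v ∈ VV E) : v ∈ (As : Subgroup (U K)) := by
  have hq := hQ hv.1
  have t : ∀ w ∈ As, pr v w = 0 := fun w hw => (com_pr hw hq).1 (hv.2.2 w (hA hw)).symm
  have t2 := t (X2 1) (by simp only [mem_As, UE, and_self])
  have t3 := t (X3 1) (by simp only [mem_As, UE, and_self])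
  have t5 := t (X5 1) (by simp only [mem_As, UE, and_self])
  have t6 := t (X6 1) (by simp only [mem_As, UE, and_self])
  simp only [pr, UE] at t2 t3 t5 t6
  exact inv_Ps ⟨t6, t5, t3, t2, hq.1, hq.2⟩ hv.2.1

theorem V_eq (h : Es E) (hQ : E ≤ Qs) (hA : As ≤ E) (hP : ¬ Ps ≤ E) {v : U K} (hv : v ∈ VV E) :
    v ∈ (Zs : Subgroup (U K)) := by
  have : Finite (U K) := Finite.of_equiv _ U.equiv.symm
  obtain ⟨x, hx, hxE⟩ := SetLike.not_le_iff_exists.1 hP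
  have ha := V_le hQ hA hv
  have t : ∀ q ∈ Qs, pr q v = 0 := fun q hq => by
    refine (com_pr ha hq).1 ?_
    by_cases hqE : q ∈ E
    · exact hv.2.2 q hqE
    · exact h.cenV (nm hQ hA (PQ hx)) (nm hQ hA hq) hxE hqE (hA (sq_Qs (PQ hx))) (hA (sq_Qs hq))
        (fun w hw => (com_As_Ps (V_le hQ hA hw) hx).symm) v hv
  have t1 := t (X1 1) (by simp only [mem_Qs, UE, and_self])
  have t2 := t (Y2 1) (by simp only [mem_Qs, UE, and_self])
  have t6 := t (Y6 1) (by simp only [mem_Qs, UE, and_self])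
  have t7 := t (X7 1) (by simp only [mem_Qs, UE, and_self])
  simp only [pr, UE] at t1 t2 t6 t7
  rw [mem_As] at ha
  simp only [mem_Zs, ha, t1, t2, t6, t7, and_self]

omit [Finite K] in
theorem c1a {y : U K} (hy : y ∈ Qs) (h1 : y.x1 ≠ 0) (h2 : y.y2 = 0) (h7 : y.x7 = 0) (e : y * y ∈ Zs) {g : U K}
    (hg : g ∈ Qs) (e' : cm y g ∈ Zs) : g.x7 = 0 := by
  simp only [mem_Zs, UE, hy.1, hy.2, h2, h7] at e
  have y6 : y.y6 = 0 := σ_eq_zero.1 (by grind)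
  simp only [UE, y6] at e
  have y4 : y.y4 = 0 := by grind
  simp only [mem_Zs, cm, UE, hy.1, hy.2, h2, h7, y6, y4, hg.1, hg.2] at e'
  exact σ_eq_zero.1 (by grind)

omit [Finite K] in
theorem c1b {y : U K} (hy : y ∈ Qs) (h1 : y.x1 = 0) (hP : y ∉ Ps) (e : y * y ∈ Zs) {g : U K}
    (hg : g ∈ Qs) (e' : cm y g ∈ Zs) : g.x1 = 0 := by
  simp only [mem_Zs, UE, hy.1, hy.2, h1] at e
  have y2 : y.y2 = 0 := mul_σ_eq_zero (by grind)
  simp only [UE, y2] at e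
  have y6 : y.y6 = 0 := by
    by_contra h6
    have y4 : y.y4 = 0 := by grind
    simp only [UE, y4] at e
    exact h6 (mul_σ_eq_zero (by grind))
  have x7 : y.x7 ≠ 0 := fun h7 => hP ⟨h1, y2, y6, h7, hy.1, hy.2⟩
  simp only [UE, y6] at e
  have y4 : y.y4 = 0 := by grind
  simp only [mem_Zs, cm, UE, hy.1, hy.2, h1, y2, y6, y4, hg.1, hg.2] at e'
  exact σ_eq_zero.1 (by grind)

theorem case1 (h : Es E) (hQ : E ≤ Qs) (hA : As ≤ E) (hP : ¬ Ps ≤ E) : E = Qs := by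
  obtain ⟨g₀, hg₀, hg₀P⟩ := SetLike.not_le_iff_exists.1 (step0 h hQ hA)
  have hV : ∀ v, v * v = 1 → (∀ g ∈ E, g * v = v * g) → v ∈ Zs := fun v h1 h2 =>
    V_eq h hQ hA hP (h.mem_VV_of_comm h1 h2)
  have hZ : Ch E Zs := (Ch.VV E).congr fun y hy => ⟨V_eq h hQ hA hP,
    fun hz => ⟨hy, sq_As (ZA hz), fun g _ => com_Zs hz g⟩⟩
  refine key2 h hQ hA hZ fun y hy hM => ?_
  by_cases hyP : y ∈ Ps
  · exact PsM hyP (hQ hg₀) hg₀P (hM g₀ hg₀)
  exfalso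
  have hq := hQ hy
  have h2 : y * y ∈ Zs := hV _ (sq_As (sq_Qs hq)) fun g hg => by
    have a1 := hM g hg
    have a2 := sq_As (ZA a1)
    have a3 := com_Zs a1 y
    have a4 : y * g = cm y g * (g * y) := by simp only [cm]; group
    calc g * (y * y) = cm y g * cm y g * (g * y) * y := by rw [a2]; group
      _ = cm y g * (cm y g * (g * y)) * y := by group
      _ = cm y g * y * (g * y) := by rw [← a4]; group
      _ = y * (cm y g * (g * y)) := by rw [← a3]; group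
      _ = y * y * g := by rw [← a4]; group
  by_cases h1 : y.x1 = 0
  · have h6 : X6 1 ∈ (As : Subgroup (U K)) := by simp only [mem_As, UE, and_self]
    have := hV (X6 1) (sq_As h6) fun g hg => (com_pr h6 (hQ hg)).2 (by
      simp only [pr, UE, c1b hq h1 hyP h2 (hQ hg) (hM g hg)])
    exact one_ne_zero this.2.2.2.2.2.2.2.1
  · obtain ⟨k, k1, k2, k7⟩ := nf18 hq h1
    have hX : X2 1 ∈ (As : Subgroup (U K)) := by simp only [mem_As, UE, and_self]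
    have hk : k⁻¹ * X2 1 * k⁻¹⁻¹ ∈ (As : Subgroup (U K)) := nor_As.conj_mem _ hX _
    have := hV _ (sq_As hk) fun g hg => by
      have a1 := nor_Qs.conj_mem _ (hQ hg) k
      have a2 := c1a (nor_Qs.conj_mem _ hq k) (k1 ▸ h1) k2 k7 (by rw [sq_conj]; exact nor_Zs.conj_mem _ h2 k) a1
        (by rw [cm_conj]; exact nor_Zs.conj_mem _ (hM g hg) k)
      have a3 := (com_pr hX a1).2 (by simp only [pr, a2, mul_zero, zero_mul, add_zero, X2])
      calc g * (k⁻¹ * X2 1 * k⁻¹⁻¹) = k⁻¹ * (k * g * k⁻¹ * X2 1) * k := by group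
        _ = _ := by rw [a3]; group
    have a4 := nor_Zs.conj_mem _ this k
    rw [show k * (k⁻¹ * X2 1 * k⁻¹⁻¹) * k⁻¹ = X2 1 by group] at a4
    exact one_ne_zero a4.2.2.1

omit [Finite K] in
theorem c2a {a : U K} (ha : a ∈ Qs) (h : a * a = 1) (h7 : a.x7 = 0) : a.y2 = 0 ∧ a.y4 = 0 ∧ a.y6 = 0 := by
  have e2 := congrArg U.x2 h
  have e3 := congrArg U.x3 h
  have e4 := congrArg U.x4 h
  have e6 := congrArg U.x6 h
  simp only [UE, ha.1, ha.2, h7] at e2 e3 e4 e6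
  have y6 : a.y6 = 0 := mul_σ_eq_zero (by grind)
  simp only [UE, y6] at e2 e3 e4
  have y2 : a.y2 = 0 := by
    by_contra h2
    have y4 : a.y4 = 0 := by grind
    simp only [UE, y4] at e2
    exact h2 (mul_σ_eq_zero (by grind))
  simp only [UE, y2] at e2 e4
  refine ⟨y2, ?_, y6⟩
  by_contra h4
  have x1 : a.x1 = 0 := by grind
  simp only [UE, x1] at e4
  exact h4 (mul_σ_eq_zero (by grind))

omit [Finite K] in
theorem c2b {a b : U K} (ha : a ∈ Qs) (h : a * a = 1) (h7 : a.x7 = 0) (hb : b ∈ Qs) (h' : b * b = 1)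
    (h7' : b.x7 = 0) : cm a b ∈ (Zs : Subgroup (U K)) := by
  have a1 := c2a ha h h7
  have a2 := c2a hb h' h7'
  simp only [mem_Zs, cm, UE, ha.1, ha.2, hb.1, hb.2, h7, h7', a1, a2] <;> grind

theorem chZ (hQ : E ≤ Qs) (hA : As ≤ E) (hP : Ps ≤ E) {g₀ : U K} (hg₀ : g₀ ∈ E) (hg₀P : g₀ ∉ Ps) : Ch E Zs := by
  have hY : ∀ s : K, Y4 s ∈ (Ps : Subgroup (U K)) := fun s => by simp only [mem_Ps, UE, and_self]
  by_cases hβ : ∃ g ∈ E, ∃ h ∈ E, β g h ≠ 0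
  · obtain ⟨g, hg, g', hg', hβ⟩ := hβ
    refine Ch.of_gen (fun c => ∃ a ∈ E, ∃ b ∈ E, ∃ d ∈ E, c = cm (cm a b) d) ?_ ?_ fun T hT z hz => ?_
    · rintro α _ - ⟨a, ha, b, hb, d, hd, rfl⟩
      exact ⟨_, afn_mem α ha, _, afn_mem α hb, _, afn_mem α hd, by rw [afn_cm α (cm_mem ha hb) hd, afn_cm α ha hb]⟩
    · rintro _ - ⟨a, ha, b, hb, d, hd, rfl⟩
      exact cm_As_Qs (cm_Qs_Qs (hQ ha) (hQ hb)) (hQ hd)
    · refine hT z (hA (ZA hz)) ⟨_, hP (hY (z.x4 / β g g')), g, hg, g', hg', ?_⟩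
      rw [cm3 (hY _) (hQ hg) (hQ hg'), show (Y4 (z.x4 / β g g')).y4 * β g g' = z.x4 from div_mul_cancel₀ _ hβ]
      exact eq_X4 hz
  push Not at hβ
  by_cases hI : ∀ y ∈ E, y * y = 1 → y ∈ As
  · have hC : Ch E As := (Ch.II E).congr fun y hy => ⟨fun hv => II_le hI hv, fun hv => mem_II hy (sq_As hv)⟩
    refine Ch.of_comm hC Ch.top (fun a _ ha b hb _ => cm_As_Qs ha (hQ hb)) fun T hT z hz => ?_
    obtain ⟨v, hv, e⟩ := surj_pr (hQ hg₀) hg₀P z.x4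
    rw [eq_X4 hz, ← e]
    exact hT v (hA hv) hv g₀ hg₀ trivial
  push Not at hI
  obtain ⟨y, hy, hyy, hyA⟩ := hI
  have hq := hQ hy
  refine Ch.of_gen (fun c => ∃ a ∈ E, ∃ b ∈ E, a * a = 1 ∧ b * b = 1 ∧ c = cm a b) ?_ ?_ fun T hT z hz => ?_
  · rintro α _ - ⟨a, ha, b, hb, h1, h2, rfl⟩
    exact ⟨_, afn_mem α ha, _, afn_mem α hb, afn_sq α ha h1, afn_sq α hb h2, afn_cm α ha hb⟩
  · rintro _ - ⟨a, ha, b, hb, h1, h2, rfl⟩
    by_cases x1 : y.x1 = 0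
    · have hF := (inv_AF hyy x1 hq.2).resolve_left hyA
      have x7 : y.x7 ≠ 0 := fun h7 => hyA ⟨x1, hF.2.1, hF.2.2.2.1, hF.2.2.2.2.1, h7, hq⟩
      have t : ∀ g ∈ E, g.x1 = 0 := fun g hg => by
        have := hβ y hy g hg
        simp only [β, x1, hF.2.1, hF.2.2.2.2.1] at this
        grind
      exact cm_Z5_Z5 (inv_Z5 h1 (t a ha) (hQ ha).2) (inv_Z5 h2 (t b hb) (hQ hb).2)
    · obtain ⟨k, hk⟩ := nf1 hyy x1
      have t : ∀ g ∈ E, (k * g * k⁻¹).x7 = 0 := fun g hg => by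
        have a1 := nor_Qs.conj_mem _ (hQ hg) k
        have a2 := cm3 (nor_Ps.conj_mem _ (hY 1) k⁻¹) hq (hQ hg)
        rw [hβ y hy g hg, mul_zero, X4_zero] at a2
        have a3 := cm3 (hY 1) (nor_Qs.conj_mem _ hq k) a1
        rw [show Y4 1 = k * (k⁻¹ * Y4 1 * k⁻¹⁻¹) * k⁻¹ by group, cm_conj, cm_conj, a2, mul_one, mul_inv_cancel,
          show k * (k⁻¹ * Y4 1 * k⁻¹⁻¹) * k⁻¹ = Y4 1 by group, hk] at a3
        have a4 := X4_eq_one a3.symm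
        generalize k * g * k⁻¹ = g' at a4 ⊢
        simp only [β, UE] at a4
        grind
      have s : ∀ g, g * g = 1 → k * g * k⁻¹ * (k * g * k⁻¹) = 1 := fun g hg => by
        rw [sq_conj, hg, mul_one, mul_inv_cancel]
      have := c2b (nor_Qs.conj_mem _ (hQ ha) k) (s a h1) (t a ha) (nor_Qs.conj_mem _ (hQ hb) k) (s b h2) (t b hb)
      rw [cm_conj] at this
      have a4 := nor_Zs.conj_mem _ this k⁻¹
      rwa [show k⁻¹ * (k * cm a b * k⁻¹) * k⁻¹⁻¹ = cm a b by group] at a4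
  · obtain ⟨v, hv, e⟩ := surj_pr hq (fun hP => hyA (inv_Ps hP hyy)) z.x4
    exact hT z (hA (ZA hz)) ⟨v, hA hv, y, hy, sq_As hv, hyy, by rw [e]; exact eq_X4 hz⟩

end AQ2

/-- PROOF.  Every `x ∈ Qs` normalises `E` and has `x * x ∈ As ≤ E` (`cm_Qs_Qs`).  `V ≤ As` (commuting with `X2 1, X3 1, X5 1, X6 1`
gives `v ∈ Ps`, an involution of `Ps` has `y4 = 0`); for `v ∈ As`: `v ∈ V ↔ ∀ g ∈ E, pr g v = 0` (`comm_pr`).
KEY: if `Ch E Zs` and `Ch E As` then `Qs ≤ E` (`c2` with `Zs, As`).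
0. `¬ E ≤ Ps`: else `V = As` on `E`, `Ps ≤ E` by `c1` with `V` (`cm_Ps_Ps`), `Zs` is generated by the squares (`Ch.of_sq` with `⊤`;
 `Y4 s * Y4 s = X4 (s σ s)`, `exists_l2`), KEY gives `X7 1 ∈ Ps`.  Fix `g₀ ∈ E \ Ps`.
For `g ∈ Qs`, `p ∈ Ps`: `cm p g` has `(x2,x3,x5,x6) = p.y4 * (g.x1, g.y2, g.y6, g.x7)`.  `M = {y | ∀ g ∈ E, cm y g ∈ Zs}` (`Ch.of_cm`).
1. Case `¬ Ps ≤ E`, `x ∈ Ps \ E`.  Suppose `E ≠ Qs`.  `x` centralises `V`, so (`cenV`) every `x' ∈ Qs \ E` does, hence every element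
 of `Qs` does (`q ∈ E`: `q = (q x') x'⁻¹`), so `V = Zs` (test X1 1, Y2 1, Y6 1, X7 1) and `Ch E Zs`.  Claim `y ∈ E ∩ M → y ∈ As`.
 `y ∈ Ps`: `cm y g₀ ∈ Zs` forces `y.y4 = 0`.  `y ∉ Ps`: `y * y ∈ As` commutes with `E` (`cm y g` is a central involution), so
 `y * y ∈ V = Zs`.  If `y.x1 ≠ 0` take `k` from `nf18`, `y' = k y k⁻¹`: x3 of `y'²` gives `y6 = 0`, x2 gives `y4 = 0`; for `g ∈ E`,
 `g' = k g k⁻¹`, x5 of `cm y' g' ∈ Zs` gives `g'.x7 = 0`, so `k⁻¹ X2 1 k ∈ V = Zs`, absurd.  If `y.x1 = 0`: x2 of `y²` gives `y2 = 0`,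
 x5 and x6 give `y6 = 0`, so `x7 ≠ 0`, `y4 = 0`; x3 (or x5) of `cm y g` gives `g.x1 = 0` for all `g ∈ E`, so `X6 1 ∈ V`, absurd.
2. Case `Ps ≤ E`.  `Ch E Zs`: put `β g h = g.x1 h.x7 + g.x7 h.x1 + g.y2 h.y6 + g.y6 h.y2`, `cm (cm (Y4 s) g) h = X4 (s β g h)`.
 (i) `β g h ≠ 0` for some `g h ∈ E`: `Ch.of_gen` with `P c = ∃ a b d ∈ E, c = cm (cm a b) d`.
 (ii) all involutions of `E` lie in `As`: `Zs = [I,E]` (`cm v g₀ = X4 (pr g₀ v)` takes all values).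
 (iii) `β = 0` on `E`, `y₀ ∈ E \ As` an involution: `Ch.of_gen` with `P c = ∃ a b ∈ E, a² = 1, b² = 1, c = cm a b` (`cm v y₀` takes all
 values in `Zs`; `y₀ ∉ Ps`).  For `cm a b ∈ Zs`: if `y₀.x1 = 0` then `y₀ ∈ F5`, `x7 ≠ 0`, so `g.x1 = 0` on `E`, `inv_Z5`, `cm_Z5_Z5`.
 If `y₀.x1 ≠ 0`, `k y₀ k⁻¹ = X1 d` (`nf1`); `β` is invariant under conjugation by `k` (compute, or use the formula for
 `cm (cm (Y4 s) g) h` inside the conjugate `E'` from `Es.cj`), so `g' = k g k⁻¹` has `x7 = 0`; an involution of `Qs` with `x7 = 0`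
 has `y6 = 0` (x6), `y2 = 0` (x2, x3), `y4 = 0` (x2, x4), and two such have their commutator in `Zs`.
 Then `E ∩ M = As`: `cm y (Y4 1) ∈ Zs` gives `y ∈ Ps`, `cm y g₀ ∈ Zs` gives `y4 = 0`.  KEY. -/
theorem caseQ (h : Es E) (hQ : E ≤ Qs) (hA : As ≤ E) : E = Qs := by
  by_cases hP : Ps ≤ E
  · obtain ⟨g₀, hg₀, hg₀P⟩ := SetLike.not_le_iff_exists.1 (AQ2.step0 h hQ hA)
    exact AQ2.key2 h hQ hA (AQ2.chZ hQ hA hP hg₀ hg₀P) fun y hy hM => AQ2.PsM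
      (AQ2.mem_Ps_of (hQ hy) (hM _ (hP (by simp only [mem_Ps, UE, and_self])))) (hQ hg₀) hg₀P (hM g₀ hg₀)
  · exact AQ2.case1 h hQ hA hP

end Cfsg.Agent.RFS
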