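import Cfsg.Agent.RFS.ARD

/-!
An essential subgroup inside `R` and not inside `Q` is `R`.
Read `RFS/Es` (structure `Es`, `Ch.*`, `Es.c1 c2 c3 chain cj count cenV`, commutator table) and the signatures of `RFS/Inv`.
Coordinates: `simp only [mem_X, cm, UE, h..] <;> grind`, `have := congrArg U.x5 e; simp only [UE, ..] at this; grind`.
`Finite (U K)` comes from `card_U`/`Finite.of_injective`; `V = VV E`, `I = II E`.

-/

set_option autoImplicit false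
set_option linter.unusedSectionVars false
set_option linter.unusedSimpArgs false
set_option maxRecDepth 20000

namespace Cfsg.Agent.RFS

open Subgroup Cfsg.Agent.Oct Cfsg.Agent.S2F Cfsg.Agent.Fus

variable {K : Type*} [Field K] [Tw K] [Finite K] {E : Subgroup (U K)}

namespace AR

theorem W_Y {u : U K} (h : u ∈ Ws) : u ∈ Ys := by rw [mem_Ws] at h; simp only [mem_Ys, h, and_self]

theorem Y_F {u : U K} (h : u ∈ Ys) : u ∈ F5 := by rw [mem_Ys] at h; simp only [mem_F5, h, and_self]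

theorem Y_B {u : U K} (h : u ∈ Ys) : u ∈ Bs := by rw [mem_Ys] at h; simp only [mem_Bs, h, and_self]

theorem x2_zero {v b : U K} (hv : v ∈ As) (hb : b ∈ Rs) (hQ : b ∉ Qs) (h : cm v b ∈ Ws) : v ∈ F5 := by
  rw [mem_As] at hv
  rw [mem_Rs] at hb
  have : v.x2 = 0 := by
    by_contra k
    have e3 := h.2.2.2.1
    have e5 := h.2.2.2.2.2.1
    simp only [cm, UE, hv, hb] at e3
    have y8 : b.y8 = 0 := by grind
    simp only [cm, UE, hv, hb, y8] at e5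
    exact hQ ⟨y8, by grind⟩
  simp only [mem_F5, hv, this, and_self]

theorem x3_zero {v b : U K} (hv : v ∈ F5) (hb : b ∈ Rs) (hQ : b ∉ Qs) (h7 : v.x7 = 0 ∨ b.y2 = 0 ∧ b.y4 = 0)
    (h : b * v = v * b) : v.x3 = 0 := by
  rw [mem_F5] at hv
  rw [mem_Rs] at hb
  by_contra k
  have e5 := congrArg U.x5 h
  have e6 := congrArg U.x6 h
  rcases h7 with h7 | h7 <;> simp only [UE, hv, hb, h7] at e5 <;>
    have y8 : b.y8 = 0 := σ_eq_zero.1 (by grind) <;>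
    simp only [UE, hv, hb, h7, y8] at e6 <;> exact hQ ⟨y8, by grind⟩

theorem D3_of8 {c s : K} (hc : c ≠ 0) {g : U K} (hg : g ∈ Rs) (h : cm (X8 c * X4 s) g ∈ Ws) : g ∈ D3 := by
  rw [mem_Rs] at hg
  have e7 := h.2.2.2.2.2.2.2.1
  have e5 := h.2.2.2.2.2.1
  simp only [cm, UE, hg] at e7
  have y2 : g.y2 = 0 := by grind
  simp only [cm, UE, hg, y2] at e5
  exact ⟨hg, y2, by grind⟩

theorem cj (h : Es E) (hR : E ≤ Rs) (g : U K) : ∃ E' : Subgroup (U K), Es E' ∧ E' ≤ Rs ∧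
    (∀ x, x ∈ E' ↔ g⁻¹ * x * g ∈ E) ∧ (∀ x, x ∈ VV E' ↔ g⁻¹ * x * g ∈ VV E) ∧ (E' ≤ Qs → E ≤ Qs) := by
  obtain ⟨E', h1, h2⟩ := h.cj g
  refine ⟨E', h1, fun x hx => ?_, h2, fun x => ?_, fun k x hx => ?_⟩
  · simpa [mul_assoc] using nor_Rs.conj_mem _ (hR ((h2 x).1 hx)) g
  · rw [mem_VV, mem_VV, h2]
    refine and_congr_right fun _ => and_congr ?_ ⟨fun k y hy => ?_, fun k y hy => ?_⟩
    · rw [show g⁻¹ * x * g * (g⁻¹ * x * g) = g⁻¹ * (x * x) * g by group, mul_assoc, inv_mul_eq_one,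
        right_eq_mul]
    · have := k (g * y * g⁻¹) ((h2 _).2 (by simpa [mul_assoc] using hy))
      calc _ = g⁻¹ * (g * y * g⁻¹ * x) * g := by group
        _ = _ := by rw [this]; group
    · have := k _ ((h2 y).1 hy)
      calc _ = g * (g⁻¹ * y * g * (g⁻¹ * x * g)) * g⁻¹ := by group
        _ = _ := by rw [this]; group
  · simpa [mul_assoc] using nor_Qs.conj_mem _ (k ((h2 (g * x * g⁻¹)).2 (by simpa [mul_assoc] using hx))) g⁻¹

theorem V8 (h : Es E) (hR : E ≤ Rs) {v : U K} (hv : v ∈ VV E) : v.x8 = 0 := by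
  by_contra k
  obtain ⟨g, s, e⟩ := nf8 hv.2.1 k
  obtain ⟨E', h1, h2, -, h4, -⟩ := cj h hR g
  have h5 : X8 v.x8 * X4 s ∈ VV E' := (h4 _).2 (by rw [← e]; simpa [mul_assoc] using hv)
  have hD : E' ≤ D3 := fun x hx => D3_of8 k (h2 hx) (by rw [cm_eq_one.2 (h5.2.2 x hx).symm]; exact one_mem _)
  refine caseD h1 hD fun w hw => (inv_BF hw.2.1 (hD hw.1)).elim id fun hF => ?_
  have e6 := congrArg U.x6 (h5.2.2 w hw.1)
  rw [mem_F5] at hF
  simp only [UE, hF] at e6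
  have : w.x3 = 0 := by grind
  simp only [mem_Bs, hF, this, and_self]

theorem VF (h : Es E) (hR : E ≤ Rs) (hQ : ¬ E ≤ Qs) : VV E ≤ F5 := fun v hv => by
  obtain ⟨b, hb, hb'⟩ := SetLike.not_le_iff_exists.1 hQ
  exact (inv_AF hv.2.1 (hR hv.1) (V8 h hR hv)).elim (fun k => x2_zero k (hR hb) hb'
    (by rw [cm_eq_one.2 (hv.2.2 b hb).symm]; exact one_mem _)) id

theorem VY (h : Es E) (hR : E ≤ Rs) (hQ : ¬ E ≤ Qs) : VV E ≤ Ys := fun v hv => by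
  have hF := VF h hR hQ hv
  have h7 : v.x7 = 0 := by
    by_contra k
    obtain ⟨g, -, e⟩ := nf7 hF k
    obtain ⟨E', h1, h2, -, h4, h5⟩ := cj h hR g
    have h6 : X7 v.x7 ∈ VV E' := (h4 _).2 (by rw [← e]; simpa [mul_assoc] using hv)
    have hD : ∀ x ∈ E', x.y2 = 0 ∧ x.y4 = 0 ∧ x.x2 = 0 := fun x hx => by
      have x1 : x.x1 = 0 := h2 hx
      have e5 := congrArg U.x5 (h6.2.2 x hx)
      have e6 := congrArg U.x6 (h6.2.2 x hx)
      have e4 := congrArg U.x4 (h6.2.2 x hx)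
      simp only [UE, x1] at e5
      have y2 : x.y2 = 0 := σ_eq_zero.1 (by grind)
      simp only [UE, x1, y2] at e6 e4
      exact ⟨y2, by grind, by grind⟩
    obtain ⟨b, hb, hb'⟩ := SetLike.not_le_iff_exists.1 (mt h5 hQ)
    refine caseD h1 (fun x hx => ⟨h2 hx, (hD x hx).1, (hD x hx).2.2⟩) fun w hw => ?_
    have hF := VF h1 h2 (mt h5 hQ) hw
    have := x3_zero hF (h2 hb) hb' (.inr ⟨(hD b hb).1, (hD b hb).2.1⟩) (hw.2.2 b hb)
    rw [mem_F5] at hF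
    simp only [mem_Bs, hF, this, and_self]
  obtain ⟨b, hb, hb'⟩ := SetLike.not_le_iff_exists.1 hQ
  have := x3_zero hF (hR hb) hb' (.inl h7) (hv.2.2 b hb)
  rw [mem_F5] at hF
  simp only [mem_Ys, hF, this, h7, and_self]

theorem J8 (h : Es E) (hR : E ≤ Rs) (hV : VV E ≤ Ws) {y : U K} (h2 : y * y = 1)
    (hy : ∀ g ∈ E, cm y g ∈ Ws) : y.x8 = 0 := by
  by_contra k
  obtain ⟨g, s, e⟩ := nf8 h2 k
  obtain ⟨E', h1, h2, h3, h4, -⟩ := cj h hR g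
  refine caseD h1 (fun x hx => D3_of8 (s := s) k (h2 hx) ?_) fun w hw => Y_B (W_Y ?_)
  · have := nor_Ws.conj_mem _ (hy _ ((h3 x).1 hx)) g
    rw [← e]
    convert this using 1
    simp only [cm]; group
  · simpa [mul_assoc] using nor_Ws.conj_mem _ (hV ((h4 w).1 hw)) g

theorem nP0 (h : Es E) : E ≠ P0 := by
  rintro rfl
  obtain ⟨α, e, he, k⟩ := h.conj (X1 1) (Y2 1) (fun y hy => nor_P0.conj_mem y hy _)
    (fun y hy => nor_P0.conj_mem y hy _) (by simp [mem_P0, UE]) (by simp [mem_P0, UE])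
    (by simp only [mem_P0, UE]; grind) (by simp only [mem_P0, UE]; grind)
  have hy : X8 (1 : K) ∈ P0 := by simp only [mem_P0, UE, and_self]
  have h1 := nor_P0.conj_mem _ hy (X1 1)
  have hc : cm (X1 1) (X8 1) ∈ (P0 : Subgroup (U K)) := mul_mem h1 (inv_mem hy)
  have h2 : afn α (cm (X1 1) (X8 1)) ∈ F5 := by
    rw [cm, homOn_afn α _ h1 _ (inv_mem hy), (homOn_afn α).map_inv hy, k _ hy]
    exact cm_Rs_P0 (mul_mem (by simp only [mem_Rs, UE]) he.1) (afn_mem α hy)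
  have h3 := sq_F5 h2
  rw [← homOn_afn α _ hc _ hc, ← (homOn_afn α).map_one] at h3
  have h4 := (inv_Z5 (afn_injOn α (mul_mem hc hc) (one_mem _) h3) hc.1
    (by simp only [cm, UE])).2.2.2.1
  simp only [cm, UE] at h4
  grind

theorem P0_of {y : U K} (hy : y ∈ Rs) (h : y * X5 1 = X5 1 * y) : y ∈ P0 := by
  rw [mem_Rs] at hy
  have e4 := congrArg U.x4 h
  have e6 := congrArg U.x6 h
  simp only [UE, hy] at e4 e6
  exact ⟨hy, by grind, by grind⟩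

theorem Ys_of {y : U K} (hy : y ∈ P0) (h7 : y * X7 1 = X7 1 * y) (h3 : y * X3 1 = X3 1 * y)
    (h2 : y * X2 1 = X2 1 * y) (h8 : y * X8 1 = X8 1 * y) : y ∈ Ys := by
  rw [mem_P0] at hy
  have a4 := congrArg U.x4 h7
  have a6 := congrArg U.x6 h7
  have b4 := congrArg U.x4 h3
  have b6 := congrArg U.x6 h3
  have c4 := congrArg U.x4 h2
  have d6 := congrArg U.x6 h8
  simp only [UE, hy] at a4 a6 b4 b6
  have x2 : y.x2 = 0 := by grind
  have x8 : y.x8 = 0 := by grind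
  simp only [UE, hy, x2, x8] at c4 d6
  exact ⟨hy.1, hy.2.1, x2, by grind, by grind, by grind, by grind, hy.2.2, x8⟩

theorem F5_of {y : U K} (hy : y ∈ P0) (h : ∀ g ∈ P0, cm y g ∈ Ws) : y ∈ F5 := by
  have a := (h (X8 1) (by simp only [mem_P0, UE, and_self])).2.2.2.2.2.1
  have b := (h (X2 1) (by simp only [mem_P0, UE, and_self])).2.2.2.2.2.1
  have c := (h (Y4 1) (by simp only [mem_P0, UE, and_self])).2.2.2.2.2.1
  have d := (h (Y6 1) (by simp only [mem_P0, UE, and_self])).2.2.2.2.2.1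
  rw [mem_P0] at hy
  simp only [cm, UE, hy] at a b c d
  exact ⟨hy.1, hy.2.1, by grind, by grind, by grind, hy.2.2, by grind⟩

theorem ch_cm {L M : Subgroup (U K)} (hL : Ch E L) (hM : Ch E M) (α : MulAut E) {y : U K} (hy : y ∈ E)
    (h : ∀ g ∈ E, g ∈ L → cm y g ∈ M) : ∀ g ∈ E, g ∈ L → cm (afn α y) g ∈ M := fun g hg hgL => by
  have h1 := afn_mem α⁻¹ hg
  rw [← afn_afn_inv α hg, ← afn_cm α hy h1]
  exact hM α _ (cm_mem hy h1) (h _ h1 (hL α⁻¹ g hg hgL))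

end AR

open AR

/-- PROOF.  Fix `b ∈ E \ Qs`.  All hypotheses are invariant under conjugation (`Es.cj`; `Rs`, `Qs`, `Ws`, `F5` are normal).
1. `Ws ≤ V` (`com_Ws_Rs`), `V, I ≤ P0` (`inv_P0`), `Ys ≤ E` (`c1` with `V`; `com_Ys_P0`, `cm_Ys_T`), so `Ys ≤ I`.
2. No `v ∈ V` has `x8 ≠ 0`: conjugate (`nf8`) to `v = X8 c * X4 s`; then `g ∈ E` has `y2 = 0` (x7), `x2 = 0` (x5), `x3 = 0` (x6), so
 `E ≤ D3`, `V ≤ Bs` (`inv_BF` and `x3 = 0`), `caseD`.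
3. So `v ∈ As ∨ v ∈ F5` (`inv_AF`); `v ∈ As`, `v.x2 ≠ 0` is impossible (commute with `b`: x3 gives `b.y8 = 0`, x5 `b.x8 = 0`): `V ≤ F5`.
4. No `v ∈ V` has `x7 ≠ 0`: conjugate (`nf7`) to `X7 f`; `g ∈ E` has `y2 = 0` (x5), `y4 = 0` (x6), `x2 = 0` (x4), so `E ≤ D3`; by 3 (for the
 conjugate) `v' ∈ V` is in `F5`, and `v'.x3 ≠ 0` is impossible (commute with `b`: x5 gives `b.y8 = 0`, x6 `b.x8 = 0`); `caseD`.
5. So `V ≤ Z4`, and `x3 = 0` as in 4: `V ≤ Ys`.  `F5 ≤ E`: `c2` with `V, I` (`com_F5_F5`, `cm_F5_P0`, `cm_F5_Rs`).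
6. `¬ E ≤ P0`: else `Ys ≤ V`, `P0 ≤ E` by `c1` (`cm_P0_P0`).  `h.conj` with `x = X1 1`, `x' = Y2 1` gives `α, e`; for `y = X8 1`:
 `afn α (cm x y) = cm (x' e) (afn α y) ∈ F5` (`cm_Rs_P0`), so `afn α (cm x y * cm x y) = 1` and `cm x y` is an involution; but
 `(cm (X1 1) (X8 1)).y6 = 1`, against `inv_Z5`.
7. Take `g₁ ∈ E \ P0`; commuting with it forces `x5 = 0` on `V ≤ Ys`: `V = Ws` on `E`.
 `J = closure {y | y ∈ E ∧ (y * y = 1 ∧ ∀ g ∈ E, cm y g ∈ V)}` is `Ch`, `Ys ≤ J`, and `J ≤ F5`: a generator `y ∈ P0` with `x8 = 0` is in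
 `F5`, or in `As` where `x2 ≠ 0` is impossible (`cm y b ∈ Ws`: x3, x5); with `x8 ≠ 0` conjugate to `X8 c * X4 s`: `cm y g ∈ Ws` gives
 `g.y2 = 0` (x7), `g.x2 = 0` (x5), so `E ≤ D3`, `V = Ws ≤ Bs`, `caseD`.
8. `P0 ≤ E`: `c3` with `V, J, I` (`cm_P0_F5`, `cm_P0_P0`, `cm_P0_Rs`).
9. `Ch`: `Ys = C(I)` on `E` (test X5 1, then X7 1, X3 1, X2 1, X8 1), `P0 = C(Ys)`, `F5 = P0 ⊓ {y | [y,P0] ≤ Ws}` (x5 with X8 1, X2 1,
 Y4 1, Y6 1).  `chain [V, Ys, F5, P0]` gives `Rs ≤ E`. -/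
theorem caseR (h : Es E) (hR : E ≤ Rs) (hQ : ¬ E ≤ Qs) : E = Rs := by
  have hW : Ws ≤ VV E := fun w hw => h.mem_VV_of_comm (sq_F5 (Y_F (W_Y hw)))
    fun g hg => (com_Ws_Rs hw (hR hg)).symm
  have hIP : II E ≤ P0 := II_le fun y hy h2 => inv_P0 h2 (hR hy)
  have hVY := VY h hR hQ
  have FP : ∀ {u : U K}, u ∈ F5 → u ∈ P0 := fun hu => inv_P0 (sq_F5 hu) hu.1
  have hY : Ys ≤ E := fun x hx => h.c1 (Ch.VV E) (nm_of_cm fun y _ => (hW (cm_Ys_T hx y)).1)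
    (fun y _ hv => com_Ys_P0 hx (FP (Y_F (hVY hv)))) fun y _ => hW (cm_Ys_T hx y)
  have hF : F5 ≤ E := fun x hx => h.c2 (Ch.VV E) (Ch.II E) (nm_of_cm fun y hy => hY (cm_F5_Rs hx (hR hy)))
    (fun y _ hv => com_F5_F5 hx (Y_F (hVY hv))) (fun y _ hv => hW (cm_F5_P0 hx (hIP hv)))
    fun y hy => mem_II (hY (cm_F5_Rs hx (hR hy))) (sq_F5 (Y_F (cm_F5_Rs hx (hR hy))))
  have hnP : ¬ E ≤ P0 := fun k => nP0 h (le_antisymm k fun x hx => h.c1 (Ch.VV E)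
    (nm_of_cm fun y hy => hY (cm_P0_P0 hx (k hy))) (fun y _ hv => (com_Ys_P0 (hVY hv) hx).symm)
    fun y hy => h.mem_VV_of_comm (sq_F5 (Y_F (cm_P0_P0 hx (k hy))))
      fun g hg => (com_Ys_P0 (cm_P0_P0 hx (k hy)) (k hg)).symm)
  obtain ⟨g, hg, hg'⟩ := SetLike.not_le_iff_exists.1 hnP
  obtain ⟨b, hb, hb'⟩ := SetLike.not_le_iff_exists.1 hQ
  have hVW : VV E ≤ Ws := fun v hv => by
    have k := hVY hv
    have g1 : g.x1 = 0 := hR hg
    have e4 := congrArg U.x4 (hv.2.2 g hg)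
    have e6 := congrArg U.x6 (hv.2.2 g hg)
    rw [mem_Ys] at k
    simp only [UE, k, g1] at e4 e6
    have : v.x5 = 0 := by
      by_contra k5
      exact hg' ⟨g1, by grind, by grind⟩
    simp only [mem_Ws, k, this, and_self]
  have cJ := Ch.closure (E := E) (fun y => y * y = 1 ∧ ∀ g ∈ E, g ∈ (⊤ : Subgroup (U K)) → cm y g ∈ VV E)
    fun α y hy k => ⟨afn_sq α hy k.1, ch_cm Ch.top (Ch.VV E) α hy k.2⟩
  have hJ : closure {y | y ∈ E ∧ y * y = 1 ∧ ∀ g ∈ E, g ∈ (⊤ : Subgroup (U K)) → cm y g ∈ VV E} ≤ F5 :=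
    (closure_le _).2 fun y ⟨k1, k2, k3⟩ => (inv_AF k2 (hR k1) (J8 h hR hVW k2 fun g hg =>
      hVW (k3 g hg trivial))).elim (fun k => x2_zero k (hR hb) hb' (hVW (k3 b hb trivial))) id
  have hP : P0 ≤ E := fun x hx => h.c3 (Ch.VV E) cJ (Ch.II E) (nm_of_cm fun y hy => hF (cm_P0_Rs hx (hR hy)))
    (fun y _ hv => (com_Ws_Rs (hVW hv) hx.1).symm) (fun y _ hv => hW (cm_P0_F5 hx (hJ hv)))
    (fun y _ hv => subset_closure ⟨hY (cm_P0_P0 hx (hIP hv)), sq_F5 (Y_F (cm_P0_P0 hx (hIP hv))),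
      fun g _ _ => hW (cm_Ys_T (cm_P0_P0 hx (hIP hv)) g)⟩)
    fun y hy => mem_II (hF (cm_P0_Rs hx (hR hy))) (sq_F5 (cm_P0_Rs hx (hR hy)))
  have cY : Ch E Ys := (Ch.II E).of_cen fun y hy => ⟨fun k g _ hg => com_Ys_P0 k (hIP hg), fun k => by
    have t : ∀ g ∈ P0, g * g = 1 → y * g = g * y := fun g a a' => k g (hP a) (mem_II (hP a) a')
    refine Ys_of (P0_of (hR hy) (t _ ?_ ?_)) (t _ ?_ ?_) (t _ ?_ ?_) (t _ ?_ ?_) (t _ ?_ ?_) <;>
      first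
        | simp only [mem_P0, UE, and_self]
        | (ext <;> simp only [UE])⟩
  have cP : Ch E P0 := cY.of_cen fun y hy => ⟨fun k g _ hg => (com_Ys_P0 hg k).symm, fun k => by
    have : X5 (1 : K) ∈ Ys := by simp only [mem_Ys, UE, and_self]
    exact P0_of (hR hy) (k _ (hY this) this)⟩
  have cF : Ch E F5 := Ch.of_pred (fun y => y ∈ P0 ∧ ∀ g ∈ E, g ∈ P0 → cm y g ∈ VV E)
    (fun α y hy k => ⟨cP α y hy k.1, ch_cm cP (Ch.VV E) α hy k.2⟩) fun y _ =>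
    ⟨fun k => ⟨FP k, fun g _ hg => hW (cm_F5_P0 k hg)⟩, fun k => F5_of k.1 fun g hg => hVW (k.2 g (hP hg) hg)⟩
  exact le_antisymm hR fun x hx => h.chain [VV E, Ys, F5, P0] x (nm_of_cm fun y hy => hP (cm_Rs_Rs hx (hR hy)))
    ⟨Ch.VV E, fun y _ hv => mem_bot.2 (cm_eq_one.2 (com_Ws_Rs (hVW hv) hx).symm), cY,
      fun y _ hv => hW (cm_T_Ys x hv), cF, fun y _ hv => cm_Rs_F5 hx hv, cP, fun y _ hv => cm_Rs_P0 hx hv,
      fun y hy => cm_Rs_Rs hx (hR hy)⟩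

end Cfsg.Agent.RFS
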