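import Cfsg.Agent.RFS.Inv

/-!
Essential subgroups inside `D3 = U₃ ⋯ U₈`.
Read `RFS/Es` (structure `Es`, `Ch.*`, `Es.c1 c2 c3 chain cj count cenV`, commutator table) and the signatures of `RFS/Inv`.
Coordinates: `simp only [mem_X, cm, UE, h..] <;> grind`, `have := congrArg U.x5 e; simp only [UE, ..] at this; grind`.
`Finite (U K)` comes from `card_U`/`Finite.of_injective`; `V = VV E`, `I = II E`.

-/

set_option autoImplicit false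
set_option linter.unusedSectionVars false
set_option linter.unusedSimpArgs false
set_option maxRecDepth 20000

namespace Cfsg.Agent.RFS

open Subgroup Cfsg.Agent.Oct Cfsg.Agent.S2F Cfsg.Agent.Fus

variable {K : Type*} [Field K] [Tw K] [Finite K] {E : Subgroup (U K)}

namespace ARD

/-- `Bs Y₆`. -/
def P6 : Subgroup (U K) where
  carrier := {u | u.x1 = 0 ∧ u.y2 = 0 ∧ u.x2 = 0 ∧ u.x3 = 0 ∧ u.y4 = 0 ∧ u.y8 = 0}
  mul_mem' := fun {a b} ⟨h0, h1, h2, h3, h4, h5⟩ ⟨k0, k1, k2, k3, k4, k5⟩ => by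
    simp only [Set.mem_ofPred_eq, UE, h0, h1, h2, h3, h4, h5, k0, k1, k2, k3, k4, k5, and_self]
  one_mem' := by simp only [Set.mem_ofPred_eq, UE, and_self]
  inv_mem' := fun {a} ⟨h0, h1, h2, h3, h4, h5⟩ => by
    simp only [Set.mem_ofPred_eq, UE, h0, h1, h2, h3, h4, h5, and_self]

theorem mem_P6 {u : U K} : u ∈ P6 ↔ u.x1 = 0 ∧ u.y2 = 0 ∧ u.x2 = 0 ∧ u.x3 = 0 ∧ u.y4 = 0 ∧ u.y8 = 0 := Iff.rfl

/-- `X₄X₅X₆X₇`. -/
def Z4' : Subgroup (U K) where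
  carrier := {u | u.x1 = 0 ∧ u.y2 = 0 ∧ u.x2 = 0 ∧ u.x3 = 0 ∧ u.y4 = 0 ∧ u.y6 = 0 ∧ u.y8 = 0 ∧ u.x8 = 0}
  mul_mem' := fun {a b} ⟨h0, h1, h2, h3, h4, h5, h6, h7⟩ ⟨k0, k1, k2, k3, k4, k5, k6, k7⟩ => by
    simp only [Set.mem_ofPred_eq, UE, h0, h1, h2, h3, h4, h5, h6, h7, k0, k1, k2, k3, k4, k5, k6, k7, and_self]
  one_mem' := by simp only [Set.mem_ofPred_eq, UE, and_self]
  inv_mem' := fun {a} ⟨h0, h1, h2, h3, h4, h5, h6, h7⟩ => by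
    simp only [Set.mem_ofPred_eq, UE, h0, h1, h2, h3, h4, h5, h6, h7, and_self]

theorem mem_Z4' {u : U K} : u ∈ Z4' ↔ u.x1 = 0 ∧ u.y2 = 0 ∧ u.x2 = 0 ∧ u.x3 = 0 ∧ u.y4 = 0 ∧ u.y6 = 0 ∧ u.y8 = 0 ∧ u.x8 = 0 := Iff.rfl

/-- `Bs X₃`. -/
def Z5' : Subgroup (U K) where
  carrier := {u | u.x1 = 0 ∧ u.y2 = 0 ∧ u.x2 = 0 ∧ u.y4 = 0 ∧ u.y6 = 0 ∧ u.y8 = 0}
  mul_mem' := fun {a b} ⟨h0, h1, h2, h3, h4, h5⟩ ⟨k0, k1, k2, k3, k4, k5⟩ => by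
    simp only [Set.mem_ofPred_eq, UE, h0, h1, h2, h3, h4, h5, k0, k1, k2, k3, k4, k5, and_self]
  one_mem' := by simp only [Set.mem_ofPred_eq, UE, and_self]
  inv_mem' := fun {a} ⟨h0, h1, h2, h3, h4, h5⟩ => by
    simp only [Set.mem_ofPred_eq, UE, h0, h1, h2, h3, h4, h5, and_self]

theorem mem_Z5' {u : U K} : u ∈ Z5' ↔ u.x1 = 0 ∧ u.y2 = 0 ∧ u.x2 = 0 ∧ u.y4 = 0 ∧ u.y6 = 0 ∧ u.y8 = 0 := Iff.rfl

/-- `P6 X₃`. -/
def P3 : Subgroup (U K) where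
  carrier := {u | u.x1 = 0 ∧ u.y2 = 0 ∧ u.x2 = 0 ∧ u.y4 = 0 ∧ u.y8 = 0}
  mul_mem' := fun {a b} ⟨h0, h1, h2, h3, h4⟩ ⟨k0, k1, k2, k3, k4⟩ => by
    simp only [Set.mem_ofPred_eq, UE, h0, h1, h2, h3, h4, k0, k1, k2, k3, k4, and_self]
  one_mem' := by simp only [Set.mem_ofPred_eq, UE, and_self]
  inv_mem' := fun {a} ⟨h0, h1, h2, h3, h4⟩ => by
    simp only [Set.mem_ofPred_eq, UE, h0, h1, h2, h3, h4, and_self]

theorem mem_P3 {u : U K} : u ∈ P3 ↔ u.x1 = 0 ∧ u.y2 = 0 ∧ u.x2 = 0 ∧ u.y4 = 0 ∧ u.y8 = 0 := Iff.rfl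

theorem cm_D3_D3 {a : U K} (ha : a ∈ D3) {b : U K} (hb : b ∈ D3) : cm a b ∈ (Bs : Subgroup (U K)) := by
  rw [mem_D3] at ha
  rw [mem_D3] at hb
  simp only [mem_Bs, cm, UE, ha, hb] <;> grind

theorem cm_Z5_Z5 {a : U K} (ha : a ∈ Z5') {b : U K} (hb : b ∈ Z5') : cm a b ∈ (V6 : Subgroup (U K)) := by
  rw [mem_Z5'] at ha
  rw [mem_Z5'] at hb
  simp only [mem_V6, cm, UE, ha, hb] <;> grind

theorem cm_P3_Z5 {a : U K} (ha : a ∈ P3) {b : U K} (hb : b ∈ Z5') : cm a b ∈ (Ws : Subgroup (U K)) := by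
  rw [mem_P3] at ha
  rw [mem_Z5'] at hb
  simp only [mem_Ws, cm, UE, ha, hb] <;> grind

theorem cm_P6_Z5 {a : U K} (ha : a ∈ P6) {b : U K} (hb : b ∈ Z5') : cm a b ∈ (Z4' : Subgroup (U K)) := by
  rw [mem_P6] at ha
  rw [mem_Z5'] at hb
  simp only [mem_Z4', cm, UE, ha, hb] <;> grind

theorem com_P6_Bs {a : U K} (ha : a ∈ P6) {b : U K} (hb : b ∈ Bs) : a * b = b * a := by
  rw [mem_P6] at ha
  rw [mem_Bs] at hb
  ext <;> simp only [UE, ha, hb] <;> grind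

theorem com_D3_V6 {a : U K} (ha : a ∈ D3) {b : U K} (hb : b ∈ V6) : a * b = b * a := by
  rw [mem_D3] at ha
  rw [mem_V6] at hb
  ext <;> simp only [UE, ha, hb] <;> grind

theorem com_P3_Z4 {a : U K} (ha : a ∈ P3) {b : U K} (hb : b ∈ Z4') : a * b = b * a := by
  rw [mem_P3] at ha
  rw [mem_Z4'] at hb
  ext <;> simp only [UE, ha, hb] <;> grind

theorem V6_le_Ws : (V6 : Subgroup (U K)) ≤ Ws := fun a ha => by
  rw [mem_V6] at ha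
  simp only [mem_Ws, ha, and_self]

theorem Ws_le_Bs : (Ws : Subgroup (U K)) ≤ Bs := fun a ha => by
  rw [mem_Ws] at ha
  simp only [mem_Bs, ha, and_self]

theorem D3_le_Rs : (D3 : Subgroup (U K)) ≤ Rs := fun a ha => by
  rw [mem_D3] at ha
  simp only [mem_Rs, ha, and_self]

theorem Bs_le_Z5' : (Bs : Subgroup (U K)) ≤ Z5' := fun a ha => by
  rw [mem_Bs] at ha
  simp only [mem_Z5', ha, and_self]

theorem F5_le_Z5' : (F5 : Subgroup (U K)) ≤ Z5' := fun a ha => by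
  rw [mem_F5] at ha
  simp only [mem_Z5', ha, and_self]

theorem Z5'_le_D3 : (Z5' : Subgroup (U K)) ≤ D3 := fun a ha => by
  rw [mem_Z5'] at ha
  simp only [mem_D3, ha, and_self]

theorem P6_le_D3 : (P6 : Subgroup (U K)) ≤ D3 := fun a ha => by
  rw [mem_P6] at ha
  simp only [mem_D3, ha, and_self]

theorem Z4'_le_Bs : (Z4' : Subgroup (U K)) ≤ Bs := fun a ha => by
  rw [mem_Z4'] at ha
  simp only [mem_Bs, ha, and_self]

theorem Z5'_le_P3 : (Z5' : Subgroup (U K)) ≤ P3 := fun a ha => by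
  rw [mem_Z5'] at ha
  simp only [mem_P3, ha, and_self]

theorem P6_le_P3 : (P6 : Subgroup (U K)) ≤ P3 := fun a ha => by
  rw [mem_P6] at ha
  simp only [mem_P3, ha, and_self]

theorem sq_P6 {a : U K} (ha : a ∈ P6) : a * a ∈ (V6 : Subgroup (U K)) := by
  rw [mem_P6] at ha
  simp only [mem_V6, UE, ha] <;> grind

theorem cm_eq {v g : U K} (hv : v ∈ Bs) (hg : g ∈ D3) :
    cm v g = X6 (g.x3 * v.x8 + g.y8 * v.x5 + g.y4 * v.x7) := by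
  rw [mem_Bs] at hv
  rw [mem_D3] at hg
  ext <;> simp only [cm, UE, hv, hg] <;> grind

theorem eq_X6 {v : U K} (hv : v ∈ V6) : v = X6 v.x6 := by
  rw [mem_V6] at hv
  ext <;> simp only [UE, hv]

theorem eq_X46 {v : U K} (hv : v ∈ Ws) : v = cm (Y6 v.x4) (X3 1) * cm (X8 v.x6) (X3 1) := by
  rw [mem_Ws] at hv
  ext <;> simp only [cm, UE, hv] <;> grind

theorem X3_mul {v : U K} (hv : v ∈ Z5') : (X3 v.x3)⁻¹ * v ∈ (Bs : Subgroup (U K)) := by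
  rw [mem_Z5'] at hv
  simp only [mem_Bs, UE, hv] <;> grind

theorem sq_X3 (s : K) : X3 s * X3 s = 1 := by ext <;> simp only [UE] <;> grind

theorem sq_Y6 (s : K) : Y6 s * Y6 s = X6 (s * σ s) := by ext <;> simp only [UE] <;> grind

theorem X3_Z5 (s : K) : X3 s ∈ (Z5' : Subgroup (U K)) := by simp only [mem_Z5', UE, and_self]
theorem Y6_P6 (s : K) : Y6 s ∈ (P6 : Subgroup (U K)) := by simp only [mem_P6, UE, and_self]
theorem X8_Bs (s : K) : X8 s ∈ (Bs : Subgroup (U K)) := by simp only [mem_Bs, UE, and_self]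
theorem X5_Z4 (s : K) : X5 s ∈ (Z4' : Subgroup (U K)) := by simp only [mem_Z4', UE, and_self]
theorem X7_Z4 (s : K) : X7 s ∈ (Z4' : Subgroup (U K)) := by simp only [mem_Z4', UE, and_self]

theorem cen_P3 {y : U K} (hy : y ∈ D3) (h5 : y * X5 1 = X5 1 * y) (h7 : y * X7 1 = X7 1 * y) : y ∈ P3 := by
  rw [mem_D3] at hy
  have e5 := congrArg U.x6 h5
  have e7 := congrArg U.x6 h7
  simp only [UE, hy] at e5 e7
  exact ⟨hy.1, hy.2.1, hy.2.2, by grind, by grind⟩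

theorem cen_Z4 {y : U K} (hy : y ∈ P3) (h3 : y * X3 1 = X3 1 * y) (h8 : y * X8 1 = X8 1 * y) : y ∈ Z4' := by
  rw [mem_P3] at hy
  have e4 := congrArg U.x4 h3
  have e6 := congrArg U.x6 h3
  have e8 := congrArg U.x6 h8
  simp only [UE, hy] at e4 e6 e8
  exact ⟨hy.1, hy.2.1, hy.2.2.1, by grind, hy.2.2.2.1, by grind, hy.2.2.2.2, by grind⟩

theorem X2_Ws {y : U K} (hy : y ∈ Ws) : X2 1 * y = y * X2 1 := by
  rw [mem_Ws] at hy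
  ext <;> simp only [UE, hy] <;> grind

theorem X2_Z4 {y : U K} (hy : y ∈ Z4') : cm (X2 1) y ∈ (Ws : Subgroup (U K)) := by
  rw [mem_Z4'] at hy
  simp only [mem_Ws, cm, UE, hy] <;> grind

theorem X2_Z5 {y : U K} (hy : y ∈ Z5') : cm (X2 1) y ∈ (Z4' : Subgroup (U K)) := by
  rw [mem_Z5'] at hy
  simp only [mem_Z4', cm, UE, hy] <;> grind

theorem X2_D3 {y : U K} (hy : y ∈ D3) : cm (X2 1) y ∈ (Z5' : Subgroup (U K)) := by
  rw [mem_D3] at hy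
  simp only [mem_Z5', cm, UE, hy] <;> grind

theorem V6_le {T : Subgroup (U K)} {g : U K} (hg : g ∈ D3) (hn : g ∉ P6) (h : ∀ a ∈ Bs, cm a g ∈ T) :
    V6 ≤ T := fun v hv => by
  rw [eq_X6 hv]
  by_cases h3 : g.x3 = 0
  · by_cases h8 : g.y8 = 0
    · have h4 : g.y4 ≠ 0 := fun h4 => hn ⟨hg.1, hg.2.1, hg.2.2, h3, h4, h8⟩
      have := h _ (Z4'_le_Bs (X7_Z4 (v.x6 / g.y4)))
      rw [cm_eq (Z4'_le_Bs (X7_Z4 _)) hg] at this
      convert this using 2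
      simp only [UE]; field_simp
    · have := h _ (Z4'_le_Bs (X5_Z4 (v.x6 / g.y8)))
      rw [cm_eq (Z4'_le_Bs (X5_Z4 _)) hg] at this
      convert this using 2
      simp only [UE]; field_simp
  · have := h _ (X8_Bs (v.x6 / g.x3))
    rw [cm_eq (X8_Bs _) hg] at this
    convert this using 2
    simp only [UE]; field_simp

theorem step2 (h : Es E) (hD : E ≤ D3) (hV : VV E ≤ Bs) (hB : Bs ≤ E) : ∃ y ∈ E, y * y = 1 ∧ y ∉ Bs := by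
  by_contra! hI
  have cB : Ch E Bs := (Ch.II E).congr fun y hy => ⟨fun r => II_le hI r, fun r => mem_II hy (sq_Bs r)⟩
  have nm : ∀ x ∈ D3, Nm E x := fun x hx => nm_of_cm fun y hy => hB (cm_D3_D3 hx (hD hy))
  have c6 : Ch E V6 := by
    by_cases hP : E ≤ P6
    · have hP' : P6 ≤ E := fun x hx => h.c1 (Ch.VV E) (nm x (P6_le_D3 hx))
        (fun y _ hy => com_P6_Bs hx (hV hy)) fun y hy => by
          have := cm_D3_D3 (P6_le_D3 hx) (hD hy)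
          exact ⟨hB this, sq_Bs this, fun g hg => com_P6_Bs (hP hg) this⟩
      refine Ch.top.of_sq (fun a ha _ => sq_P6 (hP ha)) fun T hT v hv => ?_
      rw [eq_X6 hv]
      by_cases h0 : v.x6 = 0
      · rw [h0, X6_zero]; exact one_mem _
      · obtain ⟨κ, e⟩ := exists_l2 h0
        rw [← e, ← sq_Y6]
        exact hT _ (hP' (Y6_P6 _)) trivial
    · obtain ⟨g, hg, hn⟩ := SetLike.not_le_iff_exists.1 hP
      exact cB.of_comm Ch.top (fun a _ ha b hb _ => cm_Bs_D3 ha (hD hb)) fun T hT =>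
        V6_le (hD hg) hn fun a ha => hT a (hB ha) ha g hg trivial
  have d3 := Z5'_le_D3 (X3_Z5 (1 : K))
  have := hI _ (h.c2 c6 cB (nm _ d3) (fun y _ hy => com_D3_V6 d3 hy) (fun y _ hy => cm_D3_Bs d3 hy)
    fun y hy => cm_D3_D3 d3 (hD hy)) (sq_X3 1)
  exact one_ne_zero this.2.2.2.1

end ARD

open ARD in
/-- PROOF (mirror image, `i ↦ 10 - i`, of the analysis in `Q ∩ R`).  Define the subgroups `P6 = Bs Y6 = {x1=y2=x2=x3=y4=y8=0}`,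
`Z4' = X4X5X6X7 = {u ∈ Bs | x8 = 0}`, `Z5' = Bs X3 = {x1=y2=x2=y4=y6=y8=0}`, `P3 = P6 X3 = {x1=y2=x2=y4=y8=0}` (copy the pattern of
`Z4` in `RFS/Es`).  In `D3`: `[D3,D3] ≤ Bs`, `[Bs,D3] ≤ V6`, `[Z5',Z5'] ≤ V6`, `[P6,P6] ≤ V6`, `Bs` commutes with `P6`; for `v ∈ Bs`,
`g ∈ D3`: `cm v g = X6 (g.x3 v.x8 + g.y8 v.x5 + g.y4 v.x7)`; involutions lie in `Bs ∪ F5 ⊆ Z5'` (`inv_BF`).
1. `Ws ≤ V` (`com_Ws_Rs`, `mem_VV_of_comm`); `Bs ≤ E` by `c1` with `V`.  So every `x ∈ D3` normalises `E`.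
2. Suppose all involutions of `E` lie in `Bs`, i.e. `I = Bs` on `E`.  `Ch E V6`: if some `g ∈ E` is not in `P6`, `V6 = [I,E]`
 (`Ch.of_comm`); otherwise `V = Bs` on `E`, `P6 ≤ E` by `c1`, and `V6` is generated by the squares (`Y6 s * Y6 s = X6 (s σ s)`,
 `exists_l2`).  Then `c2` with `V6, I` gives `X3 1 ∈ E`, an involution outside `Bs`.  Absurd.
3. So there is an involution `y₀ ∈ E` with `x3 ≠ 0`; `Bs ≤ I ≤ Z5'`; `V6 = [I,I]` (`cm (X8 s) y₀ = X6 (s y₀.x3)`); `X3 s ∈ E` by `c2`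
 with `V6, I`; so `I = Z5'` on `E`, and `Z4' = I ⊓ C(I)` is `Ch`.
4. `Y4 s, Y6 s ∈ E` by `c3` with `V6, Z4', I`.
5. `P3 = C(Z4')` on `E` (test X5 1, X7 1) and `Ws = [P3, I]` (`cm (X3 1) (Y6 s) = X4 s`, `cm (X3 1) (X8 s) = X6 s`) are `Ch`.
6. `X2 1` normalises `E` (`cm (X2 1) D3 ≤ Z5' ≤ E`) and `c3` with `Ws, Z4', I` gives `X2 1 ∈ E ≤ D3`, absurd. -/
theorem caseD (h : Es E) (hD : E ≤ D3) (hV : VV E ≤ Bs) : False := by
  have hW : Ws ≤ VV E := fun w hw => h.mem_VV_of_comm (sq_Bs (Ws_le_Bs hw)) fun g hg =>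
    (com_Ws_Rs hw (D3_le_Rs (hD hg))).symm
  have hB : Bs ≤ E := fun x hx => h.c1 (Ch.VV E)
    (nm_of_cm fun y hy => (hW (V6_le_Ws (cm_Bs_D3 hx (hD hy)))).1) (fun y _ hy => com_Bs_Bs hx (hV hy))
    fun y hy => hW (V6_le_Ws (cm_Bs_D3 hx (hD hy)))
  have nm : ∀ x ∈ D3, Nm E x := fun x hx => nm_of_cm fun y hy => hB (cm_D3_D3 hx (hD hy))
  obtain ⟨y₀, hy₀, s₀, n₀⟩ := step2 h hD hV hB
  have IZ : II E ≤ Z5' := II_le fun y hy e => (inv_BF e (hD hy)).elim (fun r => Bs_le_Z5' r) fun r => F5_le_Z5' r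
  have BI : Bs ≤ II E := fun y hy => mem_II (hB hy) (sq_Bs hy)
  have n6 : y₀ ∉ P6 := fun r => n₀ (by
    have := IZ (mem_II hy₀ s₀)
    exact ⟨r.1, r.2.1, r.2.2.1, r.2.2.2.1, r.2.2.2.2.1, this.2.2.2.2.1, r.2.2.2.2.2⟩)
  have c6 : Ch E V6 := (Ch.II E).of_comm (Ch.II E) (fun a _ ha b _ hb => ARD.cm_Z5_Z5 (IZ ha) (IZ hb))
    fun T hT => V6_le (hD hy₀) n6 fun a ha => hT a (hB ha) (BI ha) y₀ hy₀ (mem_II hy₀ s₀)
  have h3 : ∀ s, X3 s ∈ E := fun s => by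
    have d3 := Z5'_le_D3 (X3_Z5 s)
    exact h.c2 c6 (Ch.II E) (nm _ d3) (fun y _ hy => com_D3_V6 d3 hy)
      (fun y _ hy => ARD.cm_Z5_Z5 (X3_Z5 s) (IZ hy)) fun y hy => BI (cm_D3_D3 d3 (hD hy))
  have ZI : Z5' ≤ II E := fun y hy => by
    simpa using mul_mem (mem_II (h3 y.x3) (sq_X3 _)) (BI (X3_mul hy))
  have ZE : Z5' ≤ E := ZI.trans (II_le fun _ hy _ => hy)
  have c5 : Ch E Z5' := (Ch.II E).congr fun y _ => ⟨fun r => IZ r, fun r => ZI r⟩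
  have c4 : Ch E Z4' := c5.of_cen fun y hy => ⟨fun r g _ hg => (com_P3_Z4 (Z5'_le_P3 hg) r).symm, fun r => by
    have t : ∀ g ∈ Z5', y * g = g * y := fun g hg => r g (ZE hg) hg
    exact cen_Z4 (cen_P3 (hD hy) (t _ (Bs_le_Z5' (Z4'_le_Bs (X5_Z4 1)))) (t _ (Bs_le_Z5' (Z4'_le_Bs (X7_Z4 1)))))
      (t _ (X3_Z5 1)) (t _ (Bs_le_Z5' (X8_Bs 1)))⟩
  have h6 : ∀ s, Y6 s ∈ E := fun s => by
    have d3 := P6_le_D3 (Y6_P6 s)
    exact h.c3 c6 c4 c5 (nm _ d3) (fun y _ hy => com_D3_V6 d3 hy) (fun y _ hy => cm_D3_Bs d3 (Z4'_le_Bs hy))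
      (fun y _ hy => cm_P6_Z5 (Y6_P6 s) hy) fun y hy => Bs_le_Z5' (cm_D3_D3 d3 (hD hy))
  have c3 : Ch E P3 := c4.of_cen fun y hy => ⟨fun r g _ hg => com_P3_Z4 r hg, fun r =>
    cen_P3 (hD hy) (r _ (hB (Z4'_le_Bs (X5_Z4 1))) (X5_Z4 1)) (r _ (hB (Z4'_le_Bs (X7_Z4 1))) (X7_Z4 1))⟩
  have cW : Ch E Ws := c3.of_comm c5 (fun a _ ha b _ hb => cm_P3_Z5 ha hb) fun T hT v hv => by
    rw [eq_X46 hv]
    exact mul_mem (hT _ (h6 _) (P6_le_P3 (Y6_P6 _)) _ (h3 1) (X3_Z5 1))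
      (hT _ (hB (X8_Bs _)) (Z5'_le_P3 (Bs_le_Z5' (X8_Bs _))) _ (h3 1) (X3_Z5 1))
  have := hD (h.c3 cW c4 c5 (x := X2 1) (nm_of_cm fun y hy => ZE (X2_D3 (hD hy))) (fun y _ hy => X2_Ws hy)
    (fun y _ hy => X2_Z4 hy) (fun y _ hy => X2_Z5 hy) fun y hy => X2_D3 (hD hy))
  exact one_ne_zero this.2.2

end Cfsg.Agent.RFS
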