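import Cfsg.Agent.RFS.OvQ

/-!
Automorphisms of `Q` fixing two points of the ovoid.
Read `RFS/Def` (and the commutator table at the top of `RFS/Es`, the signatures of `RFS/Inv`, `RFS/Ker`).  Coordinates:
`simp only [mem_X, cm, UE, h..] <;> grind`; `afn_cm`, `homOn_afn`, `afn_res`, `afn_cQ`, `afn_cR`, `mem_OQ`, `mem_OR`, `decomp`.

-/

set_option autoImplicit false
set_option linter.unusedSectionVars false
set_option linter.unusedSimpArgs false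
set_option maxRecDepth 20000

namespace Cfsg.Agent.RFS

open Subgroup Cfsg.Agent.Oct Cfsg.Agent.S2F Cfsg.Agent.Fus

variable {K : Type*} [Field K] [Tw K] [Finite K] {A₀ : Subgroup (MulAut (U K))}
  {A : Subgroup (MulAut (Qs : Subgroup (U K)))} {B : Subgroup (MulAut (Rs : Subgroup (U K)))}

theorem aq_X4 (α : MulAut (Qs : Subgroup (U K))) {g v : U K} (hg : g ∈ Qs) (hv : v ∈ As) :
    afn α (X4 (pr g v)) = X4 (pr (afn α g) (afn α v)) := by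
  have hv' : v ∈ Qs := ⟨hv.2.2.2.2.2.1, hv.2.2.2.2.2.2⟩
  have h := (homOn_afn α).map_conj hg hv'
  rw [comm_pr hg hv, comm_pr (afn_mem α hg) (chQ_As α v hv' hv), homOn_afn α _ hv' _ ⟨rfl, rfl⟩] at h
  exact mul_left_cancel h

theorem aq_flag {α : MulAut (Qs : Subgroup (U K))} (h1 : ∀ x ∈ P1, afn α x ∈ P1) {x : U K} (hx : x ∈ Qs)
    (h7 : x.x7 = 0) : (afn α x).x7 = 0 ∧ (x.y6 = 0 → (afn α x).y6 = 0) := by
  have e : ∀ y ∈ Qs, afn (ωQ K * α * ωQ K) y = ω (afn α (ω y)) := fun y hy => by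
    rw [afn_mul _ _ hy, afn_ωQ hy, afn_mul _ _ (ω_mem y), afn_ωQ (afn_mem α (ω_mem y))]
  obtain ⟨a, b⟩ := flagQ (α := ωQ K * α * ωQ K) fun y hy => by
    rw [e y ⟨hy.2.2.2.1, hy.2.2.2.2⟩]
    have := h1 (ω y) ⟨hy.2.2.1, hy.2.1, hy.1, rfl, rfl⟩
    exact ⟨this.2.2.1, this.2.1, this.1, rfl, rfl⟩
  have a' := a (ω x) ⟨h7, rfl, rfl⟩
  rw [e _ (ω_mem x), ω_ω hx] at a'
  refine ⟨a'.1, fun h6 => ?_⟩
  have b' := b (ω x) ⟨h7, h6, rfl, rfl⟩
  rw [e _ (ω_mem x), ω_ω hx] at b'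
  exact b'.2.1

theorem aq_num {l1 l2 l6 l7 : K} (n1 : l1 ≠ 0) (n2 : l2 ≠ 0) (n7 : l7 ≠ 0)
    (e1 : l7 * (l2 * σ l2) = l6 * (σ l1 * l7)) (e2 : l7 * (l2 * σ l2) = l2 * (l1 * σ l7)) :
    l6 = l1 * (l2 / l1) * σ (l2 / l1) ∧ l7 = l1 * (l2 / l1) ^ 2 * σ (l2 / l1) := by
  have s1 : σ l1 ≠ 0 := mt σ_eq_zero.1 n1
  have s2 : σ l2 ≠ 0 := mt σ_eq_zero.1 n2
  rw [map_div₀]
  constructor
  · field_simp
    exact mul_left_cancel₀ n7 (by linear_combination -e1)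
  · have h : l7 * l1 * σ l1 / (l2 ^ 2 * σ l2) = 1 := by
      by_contra h
      refine σ_ne_self (by positivity) h ?_
      simp only [map_div₀, map_mul, map_pow, σσ]
      field_simp
      exact mul_left_cancel₀ n2 (by linear_combination -e2)
    field_simp at h ⊢
    linear_combination h

/-- An automorphism of `Q` fixing the points `0` and `∞` acts on `Q / Ps` as an element of `H Φ`. -/
theorem autQ {α : MulAut (Qs : Subgroup (U K))} (h7 : ∀ x ∈ P7, afn α x ∈ P7) (h1 : ∀ x ∈ P1, afn α x ∈ P1) :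
    ∃ (a b : Kˣ) (f : K ≃+* K), (rQ (tf a b f))⁻¹ * α ∈ OQ K := by
  obtain ⟨d2, z6⟩ := flagQ h7
  have H := homOn_afn α
  obtain ⟨c, hc⟩ : ∃ c : K → K, ∀ t, c t = (afn α (X4 t)).x4 := ⟨_, fun _ => rfl⟩
  have key : ∀ g ∈ Qs, ∀ v ∈ As, c (pr g v) = pr (afn α g) (afn α v) := fun g hg v hv => by
    rw [hc, aq_X4 α hg hv]; rfl
  have a6 : ∀ t : K, X6 t ∈ As := fun t => by simp only [mem_As, UE, and_self]
  have a2 : ∀ t : K, X2 t ∈ As := fun t => by simp only [mem_As, UE, and_self]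
  have a5 : ∀ t : K, X5 t ∈ As := fun t => by simp only [mem_As, UE, and_self]
  have a3 : ∀ t : K, X3 t ∈ As := fun t => by simp only [mem_As, UE, and_self]
  have c4 : ∀ t, afn α (X4 t) = X4 (c t) := fun t => by
    have := aq_X4 α (g := X1 t) ⟨rfl, rfl⟩ (a6 1)
    rw [← key _ ⟨rfl, rfl⟩ _ (a6 1)] at this
    simpa only [pr, UE] using this
  have cadd : ∀ s t, c (s + t) = c s + c t := fun s t => by
    have := H (X4 s) ⟨rfl, rfl⟩ (X4 t) ⟨rfl, rfl⟩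
    rw [c4, c4, show X4 s * X4 t = X4 (s + t) by ext <;> simp only [UE], c4] at this
    simpa only [UE] using congrArg U.x4 this
  have c1 : c 1 ≠ 0 := fun e => by
    have := afn_inv_afn α (x := X4 1) ⟨rfl, rfl⟩
    rw [c4, e, show X4 (0 : K) = 1 from rfl, (homOn_afn α⁻¹).map_one] at this
    exact zero_ne_one (congrArg U.x4 this)
  have u1 := fun d : K => h1 (X1 d) ⟨rfl, rfl, rfl, rfl, rfl⟩
  have u7 := h7 (X7 1) ⟨rfl, rfl, rfl, rfl, rfl⟩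
  have u2 := d2 (Y2 1) ⟨rfl, rfl, rfl⟩
  have u2' := aq_flag h1 (x := Y2 1) ⟨rfl, rfl⟩ rfl
  have u6 := z6 (Y6 1) ⟨rfl, rfl, rfl, rfl⟩
  have u6' := aq_flag h1 (x := Y6 1) ⟨rfl, rfl⟩ rfl
  have k6 : ∀ d, ∀ v ∈ As, c (d * v.x6) = (afn α (X1 d)).x1 * (afn α v).x6 := fun d v hv => by
    simpa only [pr, UE, (u1 d).1, (u1 d).2.1, (u1 d).2.2.1] using key (X1 d) ⟨rfl, rfl⟩ v hv
  have k6' : ∀ v ∈ As, c v.x6 = (afn α (X1 1)).x1 * (afn α v).x6 := fun v hv => by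
    simpa only [one_mul] using k6 1 v hv
  have k2 : ∀ v ∈ As, c v.x2 = (afn α (X7 1)).x7 * (afn α v).x2 := fun v hv => by
    simpa only [pr, UE, u7.1, u7.2.1, u7.2.2.1] using key (X7 1) ⟨rfl, rfl⟩ v hv
  have k5 : ∀ v ∈ As, c v.x5 = (afn α (Y2 1)).y2 * (afn α v).x5 := fun v hv => by
    simpa only [pr, UE, u2.1, u2'.1, u2'.2 rfl] using key (Y2 1) ⟨rfl, rfl⟩ v hv
  have k3 : ∀ v ∈ As, c v.x3 = (afn α (Y6 1)).y6 * (afn α v).x3 := fun v hv => by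
    simpa only [pr, UE, u6.1, u6.2.1, u6'.1] using key (Y6 1) ⟨rfl, rfl⟩ v hv
  have e6 := k6' _ (a6 1)
  have e2 := k2 _ (a2 1)
  have e5 := k5 _ (a5 1)
  have e3 := k3 _ (a3 1)
  simp only [UE] at e6 e2 e5 e3
  have n6 := mul_ne_zero_iff.1 (e6 ▸ c1)
  have n2 := mul_ne_zero_iff.1 (e2 ▸ c1)
  have n5 := mul_ne_zero_iff.1 (e5 ▸ c1)
  have n3 := mul_ne_zero_iff.1 (e3 ▸ c1)
  obtain ⟨φ, -, -, hφ⟩ := isot (f := fun d => (afn α (X1 d)).x1) (g := fun e => (afn α (X6 e)).x6) cadd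
    n6.1 n6.2 fun d e => k6 d _ (a6 e)
  replace hφ : ∀ t, c t = c 1 * φ t := fun t => by rw [hφ t, e6]
  have c0 : c 0 = 0 := by rw [hφ, map_zero, mul_zero]
  have z6 : ∀ v ∈ As, v.x6 = 0 → (afn α v).x6 = 0 := fun v hv h =>
    (mul_eq_zero.1 (by rw [← k6' v hv, h, c0])).resolve_left n6.1
  have z2 : ∀ v ∈ As, v.x2 = 0 → (afn α v).x2 = 0 := fun v hv h =>
    (mul_eq_zero.1 (by rw [← k2 v hv, h, c0])).resolve_left n2.1
  have z5 : ∀ v ∈ As, v.x5 = 0 → (afn α v).x5 = 0 := fun v hv h =>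
    (mul_eq_zero.1 (by rw [← k5 v hv, h, c0])).resolve_left n5.1
  have z3 : ∀ v ∈ As, v.x3 = 0 → (afn α v).x3 = 0 := fun v hv h =>
    (mul_eq_zero.1 (by rw [← k3 v hv, h, c0])).resolve_left n3.1
  have f1 : ∀ x ∈ Qs, (afn α x).x1 = (afn α (X1 1)).x1 * φ x.x1 := fun x hx => by
    have := key x hx _ (a6 1)
    simp only [pr, UE, z2 _ (a6 1) rfl, z5 _ (a6 1) rfl, z3 _ (a6 1) rfl] at this
    exact mul_left_cancel₀ n6.2 (by rw [hφ, e6] at this; linear_combination -this)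
  have f7 : ∀ x ∈ Qs, (afn α x).x7 = (afn α (X7 1)).x7 * φ x.x7 := fun x hx => by
    have := key x hx _ (a2 1)
    simp only [pr, UE, z6 _ (a2 1) rfl, z5 _ (a2 1) rfl, z3 _ (a2 1) rfl] at this
    exact mul_left_cancel₀ n2.2 (by rw [hφ, e2] at this; linear_combination -this)
  have f2 : ∀ x ∈ Qs, (afn α x).y2 = (afn α (Y2 1)).y2 * φ x.y2 := fun x hx => by
    have := key x hx _ (a5 1)
    simp only [pr, UE, z6 _ (a5 1) rfl, z2 _ (a5 1) rfl, z3 _ (a5 1) rfl] at this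
    exact mul_left_cancel₀ n5.2 (by rw [hφ, e5] at this; linear_combination -this)
  have f6 : ∀ x ∈ Qs, (afn α x).y6 = (afn α (Y6 1)).y6 * φ x.y6 := fun x hx => by
    have := key x hx _ (a3 1)
    simp only [pr, UE, z6 _ (a3 1) rfl, z2 _ (a3 1) rfl, z5 _ (a3 1) rfl] at this
    exact mul_left_cancel₀ n3.2 (by rw [hφ, e3] at this; linear_combination -this)
  have r2 : (afn α (X2 1)).x2 = (afn α (Y2 1)).y2 * σ (afn α (Y2 1)).y2 := by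
    rw [show X2 (1 : K) = Y2 1 * Y2 1 by ext <;> simp only [UE] <;> grind, H _ ⟨rfl, rfl⟩ _ ⟨rfl, rfl⟩]
    simp only [UE, u2.1, u2.2.1, u2.2.2]
  have hv : cm (X1 (1 : K)) (X7 1) ∈ As := by simp only [mem_As, cm, UE]; grind
  have r3 := k3 _ hv
  have r5 := k5 _ hv
  rw [afn_cm α ⟨rfl, rfl⟩ ⟨rfl, rfl⟩] at r3 r5
  have r3' : c 1 = (afn α (Y6 1)).y6 * (σ (afn α (X1 1)).x1 * (afn α (X7 1)).x7) := by
    convert r3 using 2 <;> simp only [cm, UE, mem_P1.1 (u1 1), mem_P7.1 u7] <;> grind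
  have r5' : c 1 = (afn α (Y2 1)).y2 * ((afn α (X1 1)).x1 * σ (afn α (X7 1)).x7) := by
    convert r5 using 2 <;> simp only [cm, UE, mem_P1.1 (u1 1), mem_P7.1 u7] <;> grind
  rw [r2] at e2
  obtain ⟨q6, q7⟩ := aq_num n6.1 n5.1 n2.1 (e2.symm.trans r3') (e2.symm.trans r5')
  refine ⟨Units.mk0 _ n6.1, Units.mk0 _ (div_ne_zero n5.1 n6.1), φ, mem_OQ.2 fun x hx => ?_⟩
  have hy := afn_mem α hx
  have e := afn_afn_inv (rQ (tf (Units.mk0 _ n6.1) (Units.mk0 _ (div_ne_zero n5.1 n6.1)) φ)) hy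
  rw [afn_res _ (afn_mem _ hy), tf_apply, ← afn_mul _ _ hx] at e
  refine ⟨φ.injective (mul_left_cancel₀ n6.1 ?_), φ.injective (mul_left_cancel₀ n5.1 ?_),
    φ.injective (mul_left_cancel₀ n3.1 ?_), φ.injective (mul_left_cancel₀ n2.1 ?_)⟩
  · rw [← f1 x hx, ← e]; rfl
  · rw [← f2 x hx, ← e]; simp only [tfn, Units.val_mk0, mul_div_cancel₀ _ n6.1]
  · rw [← f6 x hx, ← e, q6]; rfl
  · rw [← f7 x hx, ← e, q7]; rfl

end Cfsg.Agent.RFS
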