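import Cfsg.Agent.Fus.SylIn
import Cfsg.Agent.Solv.Coprime2

/-!
Three lemmas on coprime action.  Tools: `Solv.exists_conj_mem_of_coprime` (`Solv/Glauberman`), `Solv.coprime_fixed_coset'`
(`Solv/Coprime2`), `Subgroup.exists_right_complement'_of_coprime`, `SylIn.*`; a finite `2`-group is nilpotent, so solvable.
-/

set_option autoImplicit false
set_option linter.unusedSectionVars false
set_option linter.unusedSimpArgs false
set_option maxRecDepth 20000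

namespace Cfsg.Agent.RFS

open Subgroup Cfsg.Agent.Fus

variable {X : Type*} [Group X] [Finite X]

namespace GT

theorem solv {O : Subgroup X} (hO : IsPGroup 2 O) : Group.IsSolvable O :=
  have : Fact (Nat.Prime 2) := ⟨Nat.prime_two⟩
  haveI := hO.isNilpotent
  inferInstance

theorem cop {O : Subgroup X} (hO : IsPGroup 2 O) {m : ℕ} (hm : Odd m) : m.Coprime (Nat.card O) := by
  have : Fact (Nat.Prime 2) := ⟨Nat.prime_two⟩
  obtain ⟨k, hk⟩ := IsPGroup.iff_card.1 hO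
  rw [hk]
  exact (Nat.coprime_two_right.2 hm).pow_right k

omit [Finite X] in
theorem odd_zpowers {ρ : X} {r : ℕ} (hr : Odd r) (h : ρ ^ r = 1) : Odd (Nat.card (zpowers ρ)) := by
  rw [Nat.card_zpowers]
  exact hr.of_dvd_nat (orderOf_dvd_of_pow_eq_one h)

end GT

open _root_.Cfsg.Agent.RFS.GT Cfsg.Agent.Solv

/-- PROOF.  Schur-Zassenhaus in `A` gives a complement `K₀` to `N` (index odd by `hs.not_dvd_relIndex`), `A = N K₀`, `|K₀|` odd.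
`exists_conj_mem_of_coprime K₀ O T` gives `k ∈ O` with `k⁻¹ K₀ k ≤ T`; `γ = k⁻¹`; `N` is normal. -/
theorem sz {O T A N : Subgroup X} [O.Normal] [N.Normal] (hO : IsPGroup 2 O) (hX : ∀ x, ∃ o ∈ O, ∃ t ∈ T, x = o * t)
    (hN : N ≤ A) (hs : SylIn 2 N A) : ∃ γ, ∀ a ∈ A, ∃ n ∈ N, ∃ t ∈ T, γ * a * γ⁻¹ = n * t := by
  have : Fact (Nat.Prime 2) := ⟨Nat.prime_two⟩
  have ho : Odd (N.subgroupOf A).index := by
    have := hs.not_dvd_relIndex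
    rw [relIndex] at this
    exact Nat.odd_iff.2 (by omega)
  obtain ⟨K, hK⟩ := exists_right_complement'_of_coprime (N := N.subgroupOf A)
    (cop (isPGroup_subgroupOf A (hs.isPGroup hN)) ho).symm
  have hc : Odd (Nat.card (K.map A.subtype)) := by
    rwa [card_map_of_injective A.subtype_injective, ← hK.symm.index_eq_card]
  obtain ⟨k, -, hk⟩ := exists_conj_mem_of_coprime (K.map A.subtype) O T
    (le_normalizer_of_normal) (cop hO hc) (Or.inr (solv hO)) fun a _ => by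
      obtain ⟨o, ho, t, ht, rfl⟩ := hX a
      exact ⟨o, ho, by rwa [inv_mul_cancel_left]⟩
  refine ⟨k⁻¹, fun a ha => ?_⟩
  obtain ⟨⟨n, h⟩, e⟩ := (hK.existsUnique ⟨a, ha⟩).exists
  have e' : ((n : A) : X) * ((h : A) : X) = a := congrArg Subtype.val e
  refine ⟨k⁻¹ * ((n : A) : X) * k⁻¹⁻¹, ‹N.Normal›.conj_mem _ n.2 _, _, hk _ ⟨h, h.2, rfl⟩, ?_⟩
  rw [← e', coe_subtype]; group

/-- PROOF.  `a = w o`.  For `h ∈ H`: `a h a⁻¹ (w h w⁻¹)⁻¹ ∈ A ∩ O ≤ N`, so `o h o⁻¹ h⁻¹ ∈ N` and the coset `o N` is `H`-invariant;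
`coprime_fixed_coset'` gives `n ∈ N` with `o n` centralising `H`, so `o n = 1`, `o ∈ N ≤ A`, `w = a o⁻¹ ∈ A`. -/
theorem fc {O N H A : Subgroup X} [O.Normal] [N.Normal] (hO : IsPGroup 2 O) (hNO : N ≤ O) (hNA : N ≤ A)
    (hH : Odd (Nat.card H)) (hHA : H ≤ A) (hAO : ∀ a ∈ A, a ∈ O → a ∈ N) {w : X} (hw : ∀ h ∈ H, w * h * w⁻¹ ∈ H)
    (hc : ∀ o ∈ O, (∀ h ∈ H, o * h = h * o) → o = 1) (ha : ∃ a ∈ A, w⁻¹ * a ∈ O) : w ∈ A := by
  obtain ⟨a, ha, ho⟩ := ha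
  obtain ⟨n, hn, h⟩ := coprime_fixed_coset' H N le_normalizer_of_normal (cop (hO.to_le hNO) hH)
    (Or.inr (solv (hO.to_le hNO))) (w⁻¹ * a) fun h hh => by
      have e : a * h * a⁻¹ * (w * h * w⁻¹)⁻¹ = w * (w⁻¹ * a * (h * (w⁻¹ * a)⁻¹ * h⁻¹)) * w⁻¹ := by group
      have h1 := hAO _ (mul_mem (mul_mem (mul_mem ha (hHA hh)) (inv_mem ha)) (inv_mem (hHA (hw h hh))))
        (e ▸ ‹O.Normal›.conj_mem _ (mul_mem ho (‹O.Normal›.conj_mem _ (inv_mem ho) h)) w)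
      have h2 := ‹N.Normal›.conj_mem _ (inv_mem h1) a⁻¹
      convert h2 using 1
      group
  have h1 := hc _ (mul_mem ho (hNO hn)) fun g hg => (h g hg).symm
  have h2 : w = a * n := by
    rw [mul_assoc, inv_mul_eq_one] at h1; exact h1
  rw [h2]; exact mul_mem ha (hNA hn)

/-- PROOF.  `a ≡ ρ` modulo `O`, so `a ^ r ∈ O`, `(a ^ r) ^ 2 ^ k = 1`.  Choose `m` with `2 ^ k ∣ m`, `m ≡ 1 mod r`; `ρ' = a ^ m ∈ A` has
`ρ' ^ r = 1` and `ρ' ≡ ρ`.  `exists_conj_mem_of_coprime (zpowers ρ') O (zpowers ρ)` gives `x ∈ O` with `x⁻¹ ρ' x = ρ ^ i ≡ ρ`; an element of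
`O ∩ zpowers ρ` is trivial, so `x ρ x⁻¹ = ρ'`.  `t ρ' t⁻¹ (ρ' ^ j)⁻¹ ∈ A ∩ O ≤ N`, so `o = t⁻¹ x⁻¹ t x ∈ O` has `o ρ o⁻¹ ρ⁻¹ ∈ N`; the coset
`o N` is invariant under `zpowers ρ`; `coprime_fixed_coset'` gives `n` with `c = o n` centralising `ρ`. -/
theorem gt {O N A : Subgroup X} [O.Normal] [N.Normal] (hO : IsPGroup 2 O) (hNO : N ≤ O)
    (hAO : ∀ a ∈ A, a ∈ O → a ∈ N) {ρ t : X} {r j : ℕ} (hr : Odd r) (h1 : ρ ^ r = 1) (h2 : t * ρ * t⁻¹ = ρ ^ j)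
    (ht : t ∈ A) (ha : ∃ a ∈ A, ρ⁻¹ * a ∈ O) :
    ∃ x ∈ O, x * ρ * x⁻¹ ∈ A ∧ ∃ c ∈ O, c * ρ = ρ * c ∧ ∃ n ∈ N, x⁻¹ * t * x = t * c * n := by
  obtain ⟨a, ha, ho⟩ := ha
  let π := QuotientGroup.mk' O
  have hπ : ∀ g, π g = 1 ↔ g ∈ O := fun g => QuotientGroup.eq_one_iff g
  have e1 : π a = π ρ := (QuotientGroup.eq.2 ho).symm
  obtain ⟨k, hk⟩ := hO ⟨a ^ r, (hπ _).1 (by rw [map_pow, e1, ← map_pow, h1, map_one])⟩
  have hk' : (a ^ r) ^ 2 ^ k = 1 := congrArg Subtype.val hk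
  obtain ⟨m, hm0, hm1⟩ := Nat.chineseRemainder ((Nat.coprime_two_left.2 hr).pow_left k) 0 1
  have e2 : (a ^ m) ^ r = 1 := by
    rw [← pow_mul, mul_comm, pow_mul, pow_eq_pow_of_modEq hm0 hk', pow_zero]
  have e3 : π (a ^ m) = π ρ := by
    rw [map_pow, e1, ← map_pow, pow_eq_pow_of_modEq hm1 h1, pow_one]
  have e4 : a ^ m ∈ A := pow_mem ha m
  generalize a ^ m = ρ' at e2 e3 e4
  obtain ⟨x, hx, h⟩ := exists_conj_mem_of_coprime (zpowers ρ') O (zpowers ρ) le_normalizer_of_normal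
    (cop hO (odd_zpowers hr e2)) (Or.inr (solv hO)) (by
      rintro _ ⟨i, rfl⟩
      refine ⟨ρ' ^ i * (ρ ^ i)⁻¹, (hπ _).1 ?_, i, by group⟩
      rw [map_mul, map_inv, map_zpow, map_zpow, e3, mul_inv_cancel])
  have e5 : x⁻¹ * ρ' * x * ρ⁻¹ = 1 := eq_one_of_mem_of_coprime (cop hO (odd_zpowers hr h1))
    (mul_mem (h _ (mem_zpowers _)) (inv_mem (mem_zpowers _))) ((hπ _).1 (by
      simp only [map_mul, map_inv, (hπ x).2 hx, e3, inv_one, one_mul, mul_one, mul_inv_cancel]))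
  have e6 : x * ρ * x⁻¹ = ρ' := by
    rw [← mul_inv_eq_one.1 e5]; group
  have e7 : t * ρ' * t⁻¹ * (ρ' ^ j)⁻¹ ∈ N := hAO _
    (mul_mem (mul_mem (mul_mem ht e4) (inv_mem ht)) (inv_mem (pow_mem e4 j))) ((hπ _).1 (by
      rw [map_mul, map_mul, map_mul, map_inv π (ρ' ^ j), map_pow, e3, ← map_pow, ← h2, ← map_mul, ← map_mul,
        mul_inv_cancel]))
  have e8 : t⁻¹ * x⁻¹ * t * x ∈ O := by
    have := ‹O.Normal›.conj_mem _ (inv_mem hx) t⁻¹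
    rw [inv_inv] at this
    exact mul_mem this hx
  let φ := QuotientGroup.mk' N
  have e9 : Commute (φ (t⁻¹ * x⁻¹ * t * x)) (φ ρ) := by
    have h3 := ‹N.Normal›.conj_mem _ e7 (x * t)⁻¹
    rw [← e6, conj_pow, ← h2] at h3
    have h4 : φ _ = 1 := (QuotientGroup.eq_one_iff _).2 h3
    rw [← commutatorElement_eq_one_iff_commute, ← map_commutatorElement, ← h4, commutatorElement_def]
    congr 1
    group
  obtain ⟨n, hn, hc⟩ := coprime_fixed_coset' (zpowers ρ) N le_normalizer_of_normal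
    (cop (hO.to_le hNO) (odd_zpowers hr h1)) (Or.inr (solv (hO.to_le hNO))) (t⁻¹ * x⁻¹ * t * x) (by
      rintro _ ⟨i, rfl⟩
      refine (QuotientGroup.eq_one_iff _).1 (?_ : φ _ = 1)
      generalize t⁻¹ * x⁻¹ * t * x = o at e9
      rw [map_mul, map_mul, map_mul, map_inv, map_inv, map_zpow, ← (e9.zpow_right i).eq]
      group)
  refine ⟨x, hx, e6 ▸ e4, _, mul_mem e8 (hNO hn), (hc ρ (mem_zpowers _)).symm, n⁻¹, inv_mem hn, by group⟩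

end Cfsg.Agent.RFS
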