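import Cfsg.Agent.RFS.Ker
import Cfsg.Agent.RFS.GT

/-!
The automorphism group of `U K` modulo a normal `2`-subgroup.
Read `RFS/Def` (and the commutator table at the top of `RFS/Es`, the signatures of `RFS/Inv`, `RFS/Ker`).  Coordinates:
`simp only [mem_X, cm, UE, h..] <;> grind`; `afn_cm`, `homOn_afn`, `afn_res`, `afn_cQ`, `afn_cR`, `mem_OQ`, `mem_OR`, `decomp`.

-/

set_option autoImplicit false
set_option linter.unusedSectionVars false
set_option linter.unusedSimpArgs false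
set_option maxRecDepth 20000

namespace Cfsg.Agent.RFS

open Subgroup Cfsg.Agent.Oct Cfsg.Agent.S2F Cfsg.Agent.Fus

variable {K : Type*} [Field K] [Tw K] [Finite K] {A₀ : Subgroup (MulAut (U K))}
  {A : Subgroup (MulAut (Qs : Subgroup (U K)))} {B : Subgroup (MulAut (Rs : Subgroup (U K)))}

theorem aS_x1 (φ : MulAut (U K)) {u : U K} (h : u.x1 = 0) : (φ u).x1 = 0 :=
  characteristic_iff_le_comap.1 chr_Rs φ (show u ∈ Rs from h)

theorem aS_y8 (φ : MulAut (U K)) {u : U K} (h : u.y8 = 0) : (φ u).y8 = 0 := by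
  have h1 : φ (u * u) ∈ Qs := characteristic_iff_le_comap.1 chr_Qs φ (show u * u ∈ Qs by
    simp only [mem_Qs, UE, h]; grind)
  rw [map_mul] at h1
  have h2 := h1.2
  simp only [UE] at h2
  exact mul_σ_eq_zero (by grind)

theorem aS_x1' (φ : MulAut (U K)) {u v : U K} (h : u.x1 = v.x1) : (φ u).x1 = (φ v).x1 := by
  have := aS_x1 φ (u := v⁻¹ * u) (by simp only [UE, h])
  rw [map_mul, map_inv] at this
  simp only [UE] at this
  grind

theorem aS_y8' (φ : MulAut (U K)) {u v : U K} (h : u.y8 = v.y8) : (φ u).y8 = (φ v).y8 := by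
  have := aS_y8 φ (u := v⁻¹ * u) (by simp only [UE, h])
  rw [map_mul, map_inv] at this
  simp only [UE] at this
  grind

theorem aS_y2' (φ : MulAut (U K)) {u v : U K} (hu : u ∈ Z7) (hv : v ∈ Z7) (h : u.y2 = v.y2) :
    (φ u).y2 = (φ v).y2 := by
  have h1 : φ (v⁻¹ * u) ∈ P0 := characteristic_iff_le_comap.1 chr_P0 φ (show v⁻¹ * u ∈ P0 by
    simp only [mem_P0, UE, h, hu.1, hu.2, hv.1, hv.2]; grind)
  rw [map_mul, map_inv] at h1
  have h2 := h1.2.1
  simp only [UE, aS_x1 φ hu.1, aS_x1 φ hv.1] at h2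
  grind

theorem autS' (φ : MulAut (U K)) : ∃ (a b : Kˣ) (f : K ≃+* K),
    (∀ u, (φ u).x1 = a * f u.x1 ∧ (φ u).y8 = b * f u.y8) ∧ ∀ u ∈ Z7, (φ u).y2 = a * b * f u.y2 := by
  have z7 : ∀ d : K, Y2 d ∈ Z7 := fun d => ⟨rfl, rfl⟩
  have f1 : (φ (X1 1)).x1 ≠ 0 := fun e => by
    have := aS_x1 φ.symm e
    rw [MulEquiv.symm_apply_apply] at this
    exact one_ne_zero this
  have g1 : (φ (Y8 1)).y8 ≠ 0 := fun e => by
    have := aS_y8 φ.symm e
    rw [MulEquiv.symm_apply_apply] at this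
    exact one_ne_zero this
  obtain ⟨f, e1, e2, e3⟩ := isot (f := fun d => (φ (X1 d)).x1) (g := fun d => (φ (Y8 d)).y8)
    (h := fun d => (φ (Y2 d)).y2) (fun x y => by
      rw [aS_y2' φ (z7 (x + y)) (mul_mem (z7 x) (z7 y)) (by simp only [UE]), map_mul]
      simp only [UE, aS_x1 φ (z7 y).1]) f1 g1 fun x y => by
      have h1 := aS_y8 φ (u := X1 x) rfl
      rw [aS_y2' φ (z7 (x * y)) (cm_T_T (X1 x) (Y8 y)) (by simp only [cm, UE]; grind), cm, map_mul,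
        map_mul, map_mul, map_inv, map_inv]
      simp only [UE, h1]
      grind
  exact ⟨Units.mk0 _ f1, Units.mk0 _ g1, f, fun u => ⟨(aS_x1' φ (u := u) (v := X1 u.x1) rfl).trans (e1 _),
    (aS_y8' φ (u := u) (v := Y8 u.y8) rfl).trans (e2 _)⟩, fun u hu => (aS_y2' φ hu (z7 u.y2) rfl).trans (e3 _)⟩

variable (K) in
/-- The kernel of the action on `S / Z7`. -/
def OS : Subgroup (MulAut (U K)) where
  carrier := {φ | ∀ u, (φ u).x1 = u.x1 ∧ (φ u).y8 = u.y8}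
  one_mem' _ := ⟨rfl, rfl⟩
  mul_mem' {_ β} hα hβ u := ⟨(hα (β u)).1.trans (hβ u).1, (hα (β u)).2.trans (hβ u).2⟩
  inv_mem' {α} hα u := by
    have := hα (α⁻¹ u)
    rw [MulAut.apply_inv_self] at this
    exact ⟨this.1.symm, this.2.symm⟩

instance OS.normal : (OS K).Normal := ⟨fun β hβ α u => by
  have h1 := aS_x1' α (hβ (α⁻¹ u)).1
  have h2 := aS_y8' α (hβ (α⁻¹ u)).2
  rw [MulAut.apply_inv_self] at h1 h2
  exact ⟨h1, h2⟩⟩

theorem isPGroup_OS : IsPGroup 2 (OS K) := AC.isPGroup_of_coprime fun φ hφ ho => by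
  obtain ⟨a, b, f, e1, e2⟩ := autS' φ
  have a1 : (a : K) = 1 := by simpa [UE] using (e1 (X1 1)).1.symm.trans (hφ _).1
  have b1 : (b : K) = 1 := by simpa [UE] using (e1 (Y8 1)).2.symm.trans (hφ _).2
  have f1 : ∀ t, f t = t := fun t => by simpa [UE, a1] using (e1 (X1 t)).1.symm.trans (hφ _).1
  simp only [a1, b1, f1, one_mul] at e2
  have h1 : rR (φ * φ) ∈ OR K := mem_OR.2 fun x hx => by
    rw [afn_res _ hx, MulAut.mul_apply]
    refine ⟨?_, (hφ _).2.trans (hφ _).2⟩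
    have x1 : x.x1 = 0 := hx
    have h2 := hφ x
    have h3 := e2 (x⁻¹ * φ x) (by simp only [mem_Z7, UE, h2, x1]; grind)
    rw [map_mul, map_inv] at h3
    simp only [UE, h2, (hφ _).1, x1] at h3
    grind
  obtain ⟨k, hk⟩ := isPGroup_OR ⟨_, h1⟩
  have h2 : rR φ = 1 := orderOf_eq_one_iff.1 (Nat.eq_one_of_dvd_coprimes (ho.pow_right (k + 1))
    (orderOf_map_dvd _ φ) (orderOf_dvd_of_pow_eq_one (by
      rw [pow_succ', pow_mul, sq, ← map_mul]; exact congrArg Subtype.val hk)))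
  have h3 : ∀ x ∈ Rs, φ x = x := fun x hx => by rw [← afn_res φ hx, h2, afn_one]
  refine AC.eq_one_of_chain isPGroup_U ho (fun i => match i with | 0 => ⊥ | 1 => Rs | _ => ⊤) 2 rfl
    bot_le (fun i hi x hx => ?_) fun i hi y hy => ?_
  · interval_cases i
    · exact (mem_bot.1 hx) ▸ mem_bot.2 (map_one φ)
    · exact aS_x1 φ hx
  · interval_cases i
    · exact mem_bot.2 (by rw [h3 y hy, inv_mul_cancel])
    · change (y⁻¹ * φ y).x1 = 0
      simp only [UE, (hφ y).1]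

/-- PROOF.  `Rs, Qs, P0` are characteristic (`characteristic_iff_le_comap`; also for `φ⁻¹`), and so is `{y8 = 0} = {g | g * g ∈ Qs}`
(`(g * g).x8 = y8 σ y8`).  `x1`, `y8` are additive on `U K`, `y2` is additive on `Z7` with kernel `P0`.  So there are `F G H : K → K` with
`(φ u).x1 = F u.x1`, `(φ u).y8 = G u.y8`, `(φ u).y2 = H u.y2` for `u ∈ Z7` (`F d = (φ (X1 d)).x1`, ...), `H` additive, `F 1 ≠ 0 ≠ G 1`.
`(cm u v).y2 = u.x1 v.y8 + u.y8 v.x1`, so `cm (X1 d) (Y8 b)` gives `H (d b) = F d * G b`; `isot`. -/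
theorem autS (φ : MulAut (U K)) : ∃ (a b : Kˣ) (f : K ≃+* K), ∀ u, (φ u).x1 = a * f u.x1 ∧ (φ u).y8 = b * f u.y8 := by
  obtain ⟨a, b, f, h, -⟩ := autS' φ
  exact ⟨a, b, f, h⟩

/-- PROOF.  `O = {φ | ∀ u, (φ u).x1 = u.x1 ∧ (φ u).y8 = u.y8}` is a normal subgroup (`autS`, or: the kernel of the action on `S/Z7`).
It is a `2`-group (`AC.isPGroup_of_coprime`): for `φ ∈ O` of odd order, `H (d b) = d b` above gives `rR φ ∈ OR K` (write
`x = Y8 x.y8 * z`, `z ∈ Z7`; careful: `(φ (Y8 b)).y2` need not vanish, so first use the chain: `φ` is trivial on `R/Z7` and `Z7/P0`, hence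
`(rR φ) ^ 2 ∈ OR K`), so `rR φ = 1` (`isPGroup_OR`), and `φ` is trivial on `R` and `S/R`: `AC.eq_one_of_chain`.  By `autS` every
`φ` is `o * tf a b f`.  Apply `sz` with `T = TF K`, `N = MulAut.conj.range`. -/
theorem exists_form (h : SA A₀) : ∃ γ : MulAut (U K), Form (A₀.map (MulAut.conj γ).toMonoidHom) := by
  have : (MulAut.conj (G := U K)).range.Normal := ⟨by
    rintro _ ⟨g, rfl⟩ α
    exact ⟨α g, MulEquiv.ext fun x => by simp⟩⟩
  obtain ⟨γ, hγ⟩ := sz (T := TF K) isPGroup_OS (fun φ => by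
    obtain ⟨a, b, f, e⟩ := autS φ
    refine ⟨φ * (tf a b f)⁻¹, fun u => ?_, _, ⟨a, b, f, rfl⟩, by group⟩
    have h1 := e ((tf a b f)⁻¹ u)
    have h2 := MulAut.apply_inv_self _ (tf a b f) u
    exact ⟨h1.1.trans (congrArg U.x1 h2), h1.2.trans (congrArg U.y8 h2)⟩)
    (by rintro _ ⟨g, rfl⟩; exact h.conj g) h.syl
  refine ⟨γ, ?_⟩
  rintro _ ⟨φ, hφ, rfl⟩
  obtain ⟨_, ⟨g, rfl⟩, _, ⟨a, b, f, rfl⟩, e⟩ := hγ φ hφ
  exact ⟨g, a, b, f, e⟩

end Cfsg.Agent.RFS
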