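import Cfsg.Agent.RFS.Ker

/-!
The torus has no fixed points in `OQ` for `q > 2`.
Read `RFS/Def` (and the commutator table at the top of `RFS/Es`, the signatures of `RFS/Inv`, `RFS/Ker`).  Coordinates:
`simp only [mem_X, cm, UE, h..] <;> grind`; `afn_cm`, `homOn_afn`, `afn_res`, `afn_cQ`, `afn_cR`, `mem_OQ`, `mem_OR`, `decomp`.

-/

set_option autoImplicit false
set_option linter.unusedSectionVars false
set_option linter.unusedSimpArgs false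
set_option maxRecDepth 20000

namespace Cfsg.Agent.RFS

open Subgroup Cfsg.Agent.Oct Cfsg.Agent.S2F Cfsg.Agent.Fus

variable {K : Type*} [Field K] [Tw K] [Finite K] {A₀ : Subgroup (MulAut (U K))}
  {A : Subgroup (MulAut (Qs : Subgroup (U K)))} {B : Subgroup (MulAut (Rs : Subgroup (U K)))}

section Aux

variable {o : MulAut (Qs : Subgroup (U K))}

theorem cq_eqv (h : ∀ a b : Kˣ, o * rQ (tf a b 1) = rQ (tf a b 1) * o) {a b : K} (ha : a ≠ 0) (hb : b ≠ 0) {u : U K}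
    (hu : u ∈ Qs) : afn o (tfn a b 1 u) = tfn a b 1 (afn o u) := by
  have := congrArg (fun α => afn α u) (h (Units.mk0 a ha) (Units.mk0 b hb))
  simp only [afn_mul _ _ hu] at this
  rwa [afn_res _ hu, afn_res _ (afn_mem o hu)] at this

theorem cq_zero {w t : K} (h : w * t = t) (hw : w ≠ 1) : t = 0 := by
  by_contra h0
  exact hw (mul_right_cancel₀ h0 (h.trans (one_mul t).symm))

theorem cq_l2 {x : K} (h0 : x ≠ 0) (h1 : x ≠ 1) : x * σ x ≠ 1 := fun e =>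
  h1 (congrArg Units.val (eq_one_l2 (κ := Units.mk0 x h0) e))

theorem cq_l4 {x : K} (h0 : x ≠ 0) (h1 : x ≠ 1) : x ^ 2 * σ x ≠ 1 := fun e =>
  h1 (congrArg Units.val (eq_one_l4 (κ := Units.mk0 x h0) e))

theorem cq_l6 {x : K} (h1 : x ≠ 1) : x ^ 3 * σ x ^ 2 ≠ 1 := fun e => by
  have h2 := congrArg σ e
  simp only [UE] at h2
  apply h1
  calc x = x * (σ x ^ 3 * (x ^ 2) ^ 2) ^ 2 := by rw [h2]; ring
    _ = (x ^ 3 * σ x ^ 2) ^ 3 := by ring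
    _ = 1 := by rw [e]; ring

theorem cq_χ {x : K} (h0 : x ≠ 0) (h1 : x ≠ 1) : (x + 1) * σ (x + 1) ≠ x * σ x + 1 * σ 1 := fun e => by
  have := σ_ne_self h0 h1
  simp only [UE] at e
  grind

theorem cq_X1 (big : ∃ x : K, x ≠ 0 ∧ x ≠ 1) (ho : o ∈ OQ K)
    (h : ∀ a b : Kˣ, o * rQ (tf a b 1) = rQ (tf a b 1) * o) (d : K) : afn o (X1 d) = X1 d := by
  obtain ⟨x, h0, h1⟩ := big
  have hu : X1 d ∈ (Qs : Subgroup (U K)) := ⟨rfl, rfl⟩
  have e := cq_eqv h one_ne_zero h0 hu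
  rw [show tfn 1 x 1 (X1 d) = X1 d by ext <;> simp only [tfn, UE, RingAut.one_apply]] at e
  obtain ⟨a1, a2, a3, a4⟩ := mem_OQ.1 ho _ hu
  obtain ⟨b1, b2⟩ := afn_mem o hu
  generalize afn o (X1 d) = v at *
  have l2 := cq_l2 h0 h1
  have l4 := cq_l4 h0 h1
  have l6 := cq_l6 h1
  simp only [U.ext_iff, tfn, UE, RingAut.one_apply] at e
  obtain ⟨-, -, e2, e3, e4, e5, e6, -, e8, -⟩ := e
  have c2 := cq_zero e2.symm l2
  have c3 := cq_zero e3.symm l4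
  have c4 := cq_zero e4.symm (by rwa [mul_comm])
  have c5 := cq_zero e5.symm l6
  have c6 := cq_zero e6.symm (fun k => l2 (eq_one_of_pow_two_pow (k := 1) (by rw [← k]; ring)))
  have c8 := cq_zero e8.symm l6
  ext <;> simp only [UE, a1, a2, a3, a4, b1, b2, c2, c3, c4, c5, c6, c8]

theorem cq_Y2' (big : ∃ x : K, x ≠ 0 ∧ x ≠ 1) (ho : o ∈ OQ K)
    (h : ∀ a b : Kˣ, o * rQ (tf a b 1) = rQ (tf a b 1) * o) (d : K) :
    afn o (Y2 d) = Y2 d * X2 (afn o (Y2 d)).x2 := by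
  obtain ⟨x, h0, h1⟩ := big
  have hu : Y2 d ∈ (Qs : Subgroup (U K)) := ⟨rfl, rfl⟩
  have hs : σ x ≠ 0 := fun k => h0 (σ_eq_zero.1 k)
  have e := cq_eqv h (inv_ne_zero h0) h0 hu
  rw [show tfn x⁻¹ x 1 (Y2 d) = Y2 d by
    ext <;> simp only [tfn, UE, RingAut.one_apply, inv_mul_cancel₀ h0]] at e
  obtain ⟨a1, a2, a3, a4⟩ := mem_OQ.1 ho _ hu
  obtain ⟨b1, b2⟩ := afn_mem o hu
  generalize afn o (Y2 d) = v at *
  have l2 := cq_l2 h0 h1
  have l4 := cq_l4 h0 h1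
  simp only [U.ext_iff, tfn, RingAut.one_apply, map_inv₀] at e
  obtain ⟨-, -, -, e3, e4, e5, e6, -, e8, -⟩ := e
  have c3 := cq_zero e3.symm (fun k => h1 (by rw [← k]; field_simp))
  have c4 := cq_zero e4.symm (fun k => h1 (by rw [← k]; field_simp))
  have c5 := cq_zero e5.symm (fun k => l2 (by rw [← k]; field_simp))
  have c6 := cq_zero e6.symm (fun k => l2 (by rw [← k]; field_simp))
  have c8 := cq_zero e8.symm (fun k => l4 (by rw [← k]; field_simp))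
  ext <;> simp only [UE, a1, a2, a3, a4, b1, b2, c3, c4, c5, c6, c8]

theorem cq_Y2 (big : ∃ x : K, x ≠ 0 ∧ x ≠ 1) (ho : o ∈ OQ K)
    (h : ∀ a b : Kˣ, o * rQ (tf a b 1) = rQ (tf a b 1) * o) (d : K) : afn o (Y2 d) = Y2 d := by
  have hu : ∀ d, Y2 d ∈ (Qs : Subgroup (U K)) := fun d => ⟨rfl, rfl⟩
  have hF : (afn o (Y2 d)).x2 = 0 := by
    obtain ⟨x, h0, h1⟩ := big
    refine wtA (f := fun d => (afn o (Y2 d)).x2) (φ := fun y => y) (χ := fun y => y * σ y) (fun d d' => ?_)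
      (fun y hy d => ?_) h0 h1 rfl (cq_χ h0 h1) d
    · have hx : X2 (d * σ d') ∈ (Qs : Subgroup (U K)) := ⟨rfl, rfl⟩
      have e := homOn_afn o _ (hu d) _ (hu d')
      rw [show Y2 d * Y2 d' = Y2 (d + d') * X2 (d * σ d') by ext <;> simp only [UE], homOn_afn o _ (hu _) _ hx] at e
      have k := (OQ_struct ho).2.1 (X2 (d * σ d')) (by simp only [mem_As, UE, and_self])
      have e2 := congrArg U.x2 e
      rw [cq_Y2' ⟨x, h0, h1⟩ ho h d, cq_Y2' ⟨x, h0, h1⟩ ho h d', cq_Y2' ⟨x, h0, h1⟩ ho h (d + d')] at e2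
      generalize afn o (X2 (d * σ d')) = w at *
      simp only [mem_Zs, UE] at k
      simp only [UE, k] at e2
      grind
    · have e := cq_eqv h hy one_ne_zero (hu d)
      rw [show tfn y 1 1 (Y2 d) = Y2 (y * d) by ext <;> simp only [tfn, UE, RingAut.one_apply]] at e
      simp only [e, tfn, UE, RingAut.one_apply]
  rw [cq_Y2' big ho h d, hF, X2_zero, mul_one]

theorem cq_Y4' (big : ∃ x : K, x ≠ 0 ∧ x ≠ 1) (ho : o ∈ OQ K)
    (h : ∀ a b : Kˣ, o * rQ (tf a b 1) = rQ (tf a b 1) * o) (d : K) :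
    afn o (Y4 d) = Y4 d * X4 (afn o (Y4 d)).x4 := by
  obtain ⟨x, h0, h1⟩ := big
  have hu : Y4 d ∈ (Qs : Subgroup (U K)) := ⟨rfl, rfl⟩
  have hs : σ x ≠ 0 := fun k => h0 (σ_eq_zero.1 k)
  have e := cq_eqv h (inv_ne_zero (mul_ne_zero hs h0)) hs hu
  rw [show tfn (σ x * x)⁻¹ (σ x) 1 (Y4 d) = Y4 d by
    ext <;> simp only [tfn, UE, RingAut.one_apply, map_inv₀]
    field_simp] at e
  have k := (OQ_struct ho).1 (Y4 d) (by simp only [mem_Ps, UE, and_self])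
  generalize afn o (Y4 d) = v at *
  have l2 := cq_l2 h0 h1
  simp only [U.ext_iff, tfn, RingAut.one_apply, map_inv₀, map_mul, σσ] at e
  obtain ⟨-, -, e2, e3, -, -, e6, -, e8, -⟩ := e
  have c2 := cq_zero e2.symm (fun k => l2 (by field_simp at k; grind))
  have c3 := cq_zero e3.symm (fun k => h1 (by field_simp at k; grind))
  have c6 := cq_zero e6.symm (fun k => h1 (by rw [← k]; field_simp))
  have c8 := cq_zero e8.symm (fun k => l2 (by rw [← k]; field_simp))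
  simp only [mem_As, UE] at k
  have c4 : v.y4 = d := by grind
  ext <;> simp only [UE, k, c2, c3, c4, c6, c8]

theorem cq_Y4 (big : ∃ x : K, x ≠ 0 ∧ x ≠ 1) (ho : o ∈ OQ K)
    (h : ∀ a b : Kˣ, o * rQ (tf a b 1) = rQ (tf a b 1) * o) (d : K) : afn o (Y4 d) = Y4 d := by
  have hu : ∀ d, Y4 d ∈ (Qs : Subgroup (U K)) := fun d => ⟨rfl, rfl⟩
  have hF : (afn o (Y4 d)).x4 = 0 := by
    obtain ⟨x, h0, h1⟩ := big
    refine wtA (f := fun d => (afn o (Y4 d)).x4) (φ := fun y => y) (χ := fun y => y * σ y) (fun d d' => ?_)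
      (fun y hy d => ?_) h0 h1 rfl (cq_χ h0 h1) d
    · have hx : X4 (d * σ d') ∈ (Qs : Subgroup (U K)) := ⟨rfl, rfl⟩
      have e := homOn_afn o _ (hu d) _ (hu d')
      rw [show Y4 d * Y4 d' = Y4 (d + d') * X4 (d * σ d') by ext <;> simp only [UE], homOn_afn o _ (hu _) _ hx,
        (OQ_struct ho).2.2 (X4 (d * σ d')) (by simp only [mem_Zs, UE, and_self])] at e
      have e2 := congrArg U.x4 e
      rw [cq_Y4' ⟨x, h0, h1⟩ ho h d, cq_Y4' ⟨x, h0, h1⟩ ho h d', cq_Y4' ⟨x, h0, h1⟩ ho h (d + d')] at e2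
      simp only [UE] at e2
      grind
    · have hθ : θ y ≠ 0 := by simpa using hy
      have e := cq_eqv h hθ one_ne_zero (hu d)
      rw [show tfn (θ y) 1 1 (Y4 d) = Y4 (y * d) by ext <;> simp only [tfn, UE, RingAut.one_apply, σθ]] at e
      simp only [e, tfn, UE, RingAut.one_apply, σθ, σ_eq y]
      ring
  rw [cq_Y4' big ho h d, hF, X4_zero, mul_one]

theorem cq_ω (ho : o ∈ OQ K) (h : ∀ a b : Kˣ, o * rQ (tf a b 1) = rQ (tf a b 1) * o) :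
    ωQ K * o * ωQ K ∈ OQ K ∧ ∀ a b : Kˣ, ωQ K * o * ωQ K * rQ (tf a b 1) = rQ (tf a b 1) * (ωQ K * o * ωQ K) := by
  refine ⟨by simpa only [ωQ_inv] using (inferInstance : (OQ K).Normal).conj_mem o ho (ωQ K), fun a b => ?_⟩
  have e := h (a * b ^ 2 * σu b) b⁻¹
  rw [← ωQ_tf] at e
  calc _ = ωQ K * (o * (ωQ K * rQ (tf a b 1) * ωQ K)) * (ωQ K)⁻¹ := by group
    _ = ωQ K * ωQ K * rQ (tf a b 1) * (ωQ K * o * (ωQ K)⁻¹) := by rw [e]; group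
    _ = _ := by rw [ωQ_sq, ωQ_inv, one_mul]

theorem cq_tr {u : U K} (hu : u ∈ Qs) (h : afn (ωQ K * o * ωQ K) u = u) : afn o (ω u) = ω u := by
  rw [afn_mul _ _ hu, afn_ωQ hu, afn_mul _ _ (ω_mem u), afn_ωQ (afn_mem o (ω_mem u))] at h
  rw [← ω_ω (afn_mem o (ω_mem u)), h]

end Aux

/-- PROOF.  Fix `x ≠ 0, 1`, `s = σ x`; `x ≠ 1`, `x s ≠ 1`, `x² s ≠ 1` (`eq_one_l2`, `eq_one_l4`), `x³ s² ≠ 1` (apply `σ`: `s³ x⁴ = 1`, and
`(x³ s²)³ / (s³ x⁴)² = x`).  If `tf a b 1` fixes `u` it fixes `o u`, so the coordinates of `o u` with weight `≠ 1` (see `tfn`) vanish.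
`ωQ K * o * ωQ K` satisfies the same hypotheses (`ωQ_tf`), which transfers the results for `X1`, `Y2` to `X7`, `Y6`.
* `o (X1 d) = X1 d`: `a = 1`, `b = x`.
* `o (Y2 d) = Y2 d * X2 (F d)`: `a = x⁻¹`, `b = x`.  `F` is additive (`Y2 d * Y2 d' = Y2 (d + d') * X2 (d σ d')`, and `o` is trivial on
 `As / Zs` by `OQ_struct`), `F (y d) = y σ y F d` (`a = y`, `b = 1`); `wtA` (`σ_ne_self`) gives `F = 0`.
* `o (Y4 s) = Y4 s * X4 (F s)`: `OQ_struct`, `b = σ x`, `a = (σ x * x)⁻¹` (weights `x2 : (x σ x)⁻¹`, `x3 : x⁻¹`, `x5 : x`, `x6 : x σ x`).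
 `F` is additive, `F (y s) = y σ y F s` (`a = θ y`, `b = 1`), so `F = 0`.
* `X2, X6` are squares of `Y2, Y6` (`exists_l2`), `X3 s = cm (Y2 s) (Y4 1)`, `X5 s = cm (Y4 s) (Y6 1)`; `decomp`, `aut_ext`. -/
theorem cenQ (big : ∃ x : K, x ≠ 0 ∧ x ≠ 1) {o : MulAut (Qs : Subgroup (U K))} (ho : o ∈ OQ K)
    (h : ∀ a b : Kˣ, o * rQ (tf a b 1) = rQ (tf a b 1) * o) : o = 1 := by
  obtain ⟨ho', h'⟩ := cq_ω ho h
  have m : ∀ {u v : U K}, u ∈ Qs ∧ afn o u = u → v ∈ Qs ∧ afn o v = v → u * v ∈ Qs ∧ afn o (u * v) = u * v :=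
    fun a b => ⟨mul_mem a.1 b.1, by rw [homOn_afn o _ a.1 _ b.1, a.2, b.2]⟩
  have c : ∀ {u v : U K}, u ∈ Qs ∧ afn o u = u → v ∈ Qs ∧ afn o v = v → cm u v ∈ Qs ∧ afn o (cm u v) = cm u v :=
    fun a b => ⟨cm_mem a.1 b.1, by rw [afn_cm o a.1 b.1, a.2, b.2]⟩
  have x1 : ∀ d : K, X1 d ∈ Qs ∧ afn o (X1 d) = X1 d := fun d => ⟨⟨rfl, rfl⟩, cq_X1 big ho h d⟩
  have y2 : ∀ d : K, Y2 d ∈ Qs ∧ afn o (Y2 d) = Y2 d := fun d => ⟨⟨rfl, rfl⟩, cq_Y2 big ho h d⟩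
  have y4 : ∀ d : K, Y4 d ∈ Qs ∧ afn o (Y4 d) = Y4 d := fun d => ⟨⟨rfl, rfl⟩, cq_Y4 big ho h d⟩
  have x7 : ∀ d : K, X7 d ∈ Qs ∧ afn o (X7 d) = X7 d := fun d => ⟨⟨rfl, rfl⟩, by
    have := cq_tr (x1 d).1 (cq_X1 big ho' h' d)
    rwa [show ω (X1 d) = X7 d by ext <;> simp only [UE]] at this⟩
  have y6 : ∀ d : K, Y6 d ∈ Qs ∧ afn o (Y6 d) = Y6 d := fun d => ⟨⟨rfl, rfl⟩, by
    have := cq_tr (y2 d).1 (cq_Y2 big ho' h' d)
    rwa [show ω (Y2 d) = Y6 d by ext <;> simp only [UE]] at this⟩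
  have x2 : ∀ d : K, X2 d ∈ Qs ∧ afn o (X2 d) = X2 d := fun d => by
    have := c (x1 d) (y4 1)
    rwa [show cm (X1 d) (Y4 1) = X2 d by ext <;> simp only [cm, UE]] at this
  have x3 : ∀ d : K, X3 d ∈ Qs ∧ afn o (X3 d) = X3 d := fun d => by
    have := c (y2 d) (y4 1)
    rwa [show cm (Y2 d) (Y4 1) = X3 d by ext <;> simp only [cm, UE]] at this
  have x5 : ∀ d : K, X5 d ∈ Qs ∧ afn o (X5 d) = X5 d := fun d => by
    have := c (y4 d) (y6 1)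
    rwa [show cm (Y4 d) (Y6 1) = X5 d by ext <;> simp only [cm, UE]] at this
  have x6 : ∀ d : K, X6 d ∈ Qs ∧ afn o (X6 d) = X6 d := fun d => by
    have := c (y4 d) (x7 1)
    rwa [show cm (Y4 d) (X7 1) = X6 d by ext <;> simp only [cm, UE]] at this
  have x4 : ∀ d : K, X4 d ∈ Qs ∧ afn o (X4 d) = X4 d := fun d =>
    ⟨⟨rfl, rfl⟩, (OQ_struct ho).2.2 _ (by simp only [mem_Zs, UE, and_self])⟩
  refine aut_ext fun u hu => ?_
  have := (m (m (m (m (m (m (m (m (m (x1 u.x1) (y2 u.y2)) (x2 u.x2)) (x3 u.x3)) (y4 u.y4)) (x4 u.x4)) (x5 u.x5))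
    (y6 u.y6)) (x6 u.x6)) (x7 u.x7)).2
  have e := decomp u
  rw [hu.1, hu.2, Y8_zero, X8_zero, mul_one, mul_one] at e
  rw [← e] at this
  rw [this, afn_one]

end Cfsg.Agent.RFS
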