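import Cfsg.Agent.RFS.CenQ
import Cfsg.Agent.RFS.GT

/-!
The torus has no fixed points in `OR` for `q > 2`; the reflections lie in the automizers.
Read `RFS/Def` (and the commutator table at the top of `RFS/Es`, the signatures of `RFS/Inv`, `RFS/Ker`).  Coordinates:
`simp only [mem_X, cm, UE, h..] <;> grind`; `afn_cm`, `homOn_afn`, `afn_res`, `afn_cQ`, `afn_cR`, `mem_OQ`, `mem_OR`, `decomp`.

-/

set_option autoImplicit false
set_option linter.unusedSectionVars false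
set_option linter.unusedSimpArgs false
set_option maxRecDepth 20000

namespace Cfsg.Agent.RFS

open Subgroup Cfsg.Agent.Oct Cfsg.Agent.S2F Cfsg.Agent.Fus

variable {K : Type*} [Field K] [Tw K] [Finite K] {A₀ : Subgroup (MulAut (U K))}
  {A : Subgroup (MulAut (Qs : Subgroup (U K)))} {B : Subgroup (MulAut (Rs : Subgroup (U K)))}

theorem cenR_Y8 (big : ∃ x : K, x ≠ 0 ∧ x ≠ 1) {o : MulAut (Rs : Subgroup (U K))} (ho : o ∈ OR K)
    (h : ∀ a b : Kˣ, o * rR (tf a b 1) = rR (tf a b 1) * o) (d : K) : afn o (Y8 d) = Y8 d := by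
  obtain ⟨x, h0, h1⟩ := big
  have m : ∀ d, (Y8 d : U K) ∈ Rs := fun _ => rfl
  have eqv : ∀ (a b : Kˣ) (d : K), afn o (Y8 (b * d)) = tfn (a : K) b 1 (afn o (Y8 d)) := fun a b d => by
    have := congrArg (fun α => afn α (Y8 d)) (h a b)
    simp only [afn_mul _ _ (m d), afn_res _ (m d), afn_res _ (afn_mem o (m d)), tf_apply] at this
    rw [← this]
    congr 1
    ext <;> simp only [tfn, UE, RingAut.one_apply]
  have n1 : x * σ x ≠ 1 := fun e => h1 (congrArg Units.val (eq_one_l2 (κ := Units.mk0 x h0) e))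
  have n2 : x ^ 2 * σ x ≠ 1 := fun e => h1 (congrArg Units.val (eq_one_l4 (κ := Units.mk0 x h0) e))
  have n3 : σ x ≠ 1 := fun e => h1 (σ_inj (by rw [e, map_one]))
  have s1 : ∀ d, afn o (Y8 d) = Y8 d * X8 (afn o (Y8 d)).x8 := fun d => by
    have e := eqv (Units.mk0 x h0) 1 d
    have a1 : (afn o (Y8 d)).x1 = 0 := afn_mem o (m d)
    obtain ⟨a2, a3⟩ := mem_OR.1 ho _ (m d)
    rw [Units.val_one, one_mul] at e
    generalize afn o (Y8 d) = v at e a1 a2 a3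
    simp only [U.ext_iff, tfn, UE, RingAut.one_apply, Units.val_mk0] at e a2 a3
    ext <;> simp only [UE] <;> grind
  have s2 : ∀ e, afn o (X8 e) = X8 e := fun e => by
    by_cases he : e = 0
    · rw [he]; exact (homOn_afn o).map_one
    · obtain ⟨κ, rfl⟩ := exists_l2 he
      have e1 : (X8 (κ * σ (κ : K)) : U K) = Y8 (κ : K) * Y8 (κ : K) := by ext <;> simp only [UE] <;> grind
      rw [e1, (homOn_afn o).map_mul (m _) (m _), s1]
      ext <;> simp only [UE] <;> grind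
  have s3 := wtA (f := fun d => (afn o (Y8 d)).x8) (φ := fun y => y) (χ := fun y => y * σ y) (fun a b => by
      have e1 : (Y8 a * Y8 b : U K) = Y8 (a + b) * X8 (a * σ b) := by ext <;> simp only [UE]
      have := congrArg (fun u => (afn o u).x8) e1
      simp only [(homOn_afn o).map_mul (m _) (m _),
        (homOn_afn o).map_mul (m _) (show X8 (a * σ b) ∈ Rs from rfl), s2] at this
      rw [s1 a, s1 b, s1 (a + b)] at this
      simp only [UE] at this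
      grind)
    (fun y hy a => by
      simpa only [tfn, RingAut.one_apply, Units.val_mk0] using congrArg U.x8 (eqv 1 (Units.mk0 y hy) a))
    h0 h1 rfl (by
      have := σ_ne_self h0 h1
      simp only [UE]; grind) d
  rw [s1, show (afn o (Y8 d)).x8 = 0 from s3]
  exact mul_one _

theorem odd_TH : Odd (Nat.card (TH K)) := odd_TF.of_dvd_nat (card_dvd_of_le TH_le)

/-- PROOF (as `cenQ`).  `o (Y8 d) = Y8 d * X8 (F d)`: `tf x 1 1` fixes `Y8 d`, the weights of `x2 x3 y4 x4 x5 y6 x6 x7` are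
`x s, x s, s, x² s, x s, x, x s, x` (`s = σ x`).  `o` fixes `X8 (d σ d) = Y8 d * Y8 d`, so `F` is additive; `F (y d) = y σ y F d` (`tf 1 y 1`);
`wtA` gives `F = 0`.  `ψR K * o * ψR K` satisfies the same hypotheses (`ψR_tf`), so `o` fixes `Y2 d`.  The subgroup `D` of fixed points
contains `Y2, Y8, X2, X8`, `Ws` (`OR_struct`), `X5` (`cm (X2 a) (X8 1)`), `X3` (`cm (X2 a) (Y8 1)`), `X7` (`cm (Y2 a) (X8 1)`), and
`Y4 (σ a * b) * Y6 (a * σ b)` (`cm (Y2 a) (Y8 b)`).  The pairs `(a, b)` and `(a x, b / σ x)` have the same `y4`; their quotient gives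
`Y6 (a σ b (1 + x⁻¹)) ∈ D`, so all `Y6 e`, then all `Y4 e`.  `decomp`, `aut_ext`. -/
theorem cenR (big : ∃ x : K, x ≠ 0 ∧ x ≠ 1) {o : MulAut (Rs : Subgroup (U K))} (ho : o ∈ OR K)
    (h : ∀ a b : Kˣ, o * rR (tf a b 1) = rR (tf a b 1) * o) : o = 1 := by
  have h8 := cenR_Y8 big ho h
  have h2 : ∀ d, afn o (Y2 d) = Y2 d := fun d => by
    have k := cenR_Y8 (o := ψR K * o * ψR K) big (by
      have := (inferInstance : (OR K).Normal).conj_mem o ho (ψR K)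
      rwa [ψR_inv] at this) (fun a b => by
      have e := ψR_tf a b (1 : K ≃+* K)
      have q : ∀ α, ψR K * (ψR K * α) = α := fun α => by rw [← mul_assoc, ψR_sq, one_mul]
      calc _ = ψR K * (o * (ψR K * rR (tf a b 1) * ψR K)) * ψR K := by
            simp only [mul_assoc, ψR_sq, mul_one]
        _ = _ := by rw [e, h, ← e]; simp only [mul_assoc, q]) d
    have m : (Y8 d : U K) ∈ Rs := rfl
    have e : ψ (Y8 d) = Y2 d := by ext <;> simp only [ψ, UE]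
    rw [afn_mul _ _ m, afn_ψR m, e, afn_mul _ _ (show Y2 d ∈ Rs from rfl),
      afn_ψR (afn_mem o (show Y2 d ∈ Rs from rfl))] at k
    rw [← ψ_ψ (afn_mem o (show Y2 d ∈ Rs from rfl)), k, e]
  let D : Subgroup (U K) :=
    { carrier := {u | u ∈ Rs ∧ afn o u = u}
      one_mem' := ⟨one_mem _, (homOn_afn o).map_one⟩
      mul_mem' := fun {a b} ha hb => ⟨mul_mem ha.1 hb.1, by rw [(homOn_afn o).map_mul ha.1 hb.1, ha.2, hb.2]⟩
      inv_mem' := fun {a} ha => ⟨inv_mem ha.1, by rw [(homOn_afn o).map_inv ha.1, ha.2]⟩ }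
  have md : ∀ {L : Subgroup (U K)}, L ≤ D → ∀ {u v}, u ∈ D → u⁻¹ * v ∈ L → v ∈ D :=
    fun hL _ _ hu hv => (mul_mem_cancel_left (inv_mem hu)).1 (hL hv)
  have y2 : ∀ d, Y2 d ∈ D := fun d => ⟨rfl, h2 d⟩
  have y8 : ∀ d, Y8 d ∈ D := fun d => ⟨rfl, h8 d⟩
  have x2 : ∀ e, X2 e ∈ D := fun e => by
    by_cases he : e = 0
    · rw [he]; exact one_mem D
    · obtain ⟨κ, rfl⟩ := exists_l2 he
      convert mul_mem (y2 κ) (y2 κ) using 1
      ext <;> simp only [UE] <;> grind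
  have x8 : ∀ e, X8 e ∈ D := fun e => by
    by_cases he : e = 0
    · rw [he]; exact one_mem D
    · obtain ⟨κ, rfl⟩ := exists_l2 he
      convert mul_mem (y8 κ) (y8 κ) using 1
      ext <;> simp only [UE] <;> grind
  have w : Ws ≤ D := fun u hu => ⟨hu.1, (OR_struct ho).2.2.2 u hu⟩
  have x5 : ∀ e, X5 e ∈ D := fun e => md w (cm_mem (x2 e) (x8 1)) (by
    simp only [mem_Ws, cm, UE]; grind)
  have ys : Ys ≤ D := fun u hu => md w (x5 u.x5) (by
    rw [mem_Ys] at hu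
    simp only [mem_Ws, UE, hu]; grind)
  have x3 : ∀ e, X3 e ∈ D := fun e => md ys (cm_mem (x2 e) (y8 1)) (by
    simp only [mem_Ys, cm, UE]; grind)
  have x7 : ∀ e, X7 e ∈ D := fun e => md ys (cm_mem (y2 e) (x8 1)) (by
    simp only [mem_Ys, cm, UE]; grind)
  have f5 : F5 ≤ D := fun u hu => md ys (mul_mem (x3 u.x3) (x7 u.x7)) (by
    rw [mem_F5] at hu
    simp only [mem_Ys, UE, hu]; grind)
  have y6 : ∀ e, Y6 e ∈ D := fun e => by
    obtain ⟨x, h0, h1⟩ := big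
    have n : x ^ 2 + x ≠ 0 := by grind
    obtain ⟨a, rfl⟩ : ∃ a, e = a * (x ^ 2 + x) := ⟨e / (x ^ 2 + x), (div_mul_cancel₀ e n).symm⟩
    exact md f5 (mul_mem (cm_mem (y2 a) (y8 (σ x))) (cm_mem (y2 (a * x)) (y8 1))) (by
      simp only [mem_F5, cm, UE]; grind)
  have y4 : ∀ e, Y4 e ∈ D := fun e => md f5 (mul_mem (cm_mem (y2 1) (y8 e)) (y6 (σ e))) (by
    simp only [mem_F5, cm, UE]; grind)
  refine aut_ext fun u hu => ?_
  rw [afn_one]
  refine (?_ : u ∈ D).2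
  rw [decomp u, show u.x1 = 0 from hu, X1_zero, one_mul]
  have x4 : X4 u.x4 ∈ D := w (by simp only [mem_Ws, UE, and_self])
  have x6 : X6 u.x6 ∈ D := w (by simp only [mem_Ws, UE, and_self])
  exact mul_mem (mul_mem (mul_mem (mul_mem (mul_mem (mul_mem (mul_mem (mul_mem (mul_mem (mul_mem (y2 _) (x2 _))
    (x3 _)) (y4 _)) x4) (x5 _)) (y6 _)) x6) (x7 _)) (y8 _)) (x8 _)

/-- `fc` with `O = OQ K`, `N = Inn Qs`, `H = (TH K).map rQ` (order divides that of `TF K`), `ωQ_tf`, `Lc.mem_inn`, `cenQ`. -/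
theorem ω_mem_big (big : ∃ x : K, x ≠ 0 ∧ x ≠ 1) (h₀ : SA A₀) (L : Lc A₀ Qs A) (hT : ∀ a b : Kˣ, tf a b 1 ∈ A₀)
    (h : ∃ α ∈ A, (ωQ K)⁻¹ * α ∈ OQ K) : ωQ K ∈ A := by
  refine fc (H := (TH K).map rQ) isPGroup_OQ inn_le_OQ (inn_le_Tn.trans (L.Tn_le h₀))
    (odd_TH.of_dvd_nat (card_map_dvd _ _)) ?_ (fun a ha => L.mem_inn isPGroup_OQ ha) ?_
    (fun o ho e => cenQ big ho fun a b => e _ ⟨_, ⟨a, b, rfl⟩, rfl⟩) h
  · rintro _ ⟨_, ⟨a, b, rfl⟩, rfl⟩
    exact L.res _ (hT a b)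
  · rintro _ ⟨_, ⟨a, b, rfl⟩, rfl⟩
    rw [ωQ_inv, ωQ_tf]
    exact ⟨_, ⟨_, _, rfl⟩, rfl⟩

theorem ψ_mem_big (big : ∃ x : K, x ≠ 0 ∧ x ≠ 1) (h₀ : SA A₀) (L : Lc A₀ Rs B) (hT : ∀ a b : Kˣ, tf a b 1 ∈ A₀)
    (h : ∃ μ ∈ B, (ψR K)⁻¹ * μ ∈ OR K) : ψR K ∈ B := by
  refine fc (H := (TH K).map rR) isPGroup_OR inn_le_OR (inn_le_Tn.trans (L.Tn_le h₀))
    (odd_TH.of_dvd_nat (card_map_dvd _ _)) ?_ (fun a ha => L.mem_inn isPGroup_OR ha) ?_
    (fun o ho e => cenR big ho fun a b => e _ ⟨_, ⟨a, b, rfl⟩, rfl⟩) h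
  · rintro _ ⟨_, ⟨a, b, rfl⟩, rfl⟩
    exact L.res _ (hT a b)
  · rintro _ ⟨_, ⟨a, b, rfl⟩, rfl⟩
    rw [ψR_inv, ψR_tf]
    exact ⟨_, ⟨_, _, rfl⟩, rfl⟩

end Cfsg.Agent.RFS
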