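import Cfsg.Agent.RFS.Inv
import Cfsg.Agent.S2F.Mod1

/-!
Fusion systems on the Sylow `2`-subgroup of `²F₄(q)`: the automizers of `S`, `Q`, `R`.

`tf a b f` is the automorphism of `U K` that applies the field automorphism `f` and then scales `x1` by `a`, `y8` by `b`;
`rQ φ`, `rR φ` are the restrictions, `cQ g`, `cR g` the restricted conjugations `x ↦ g x g⁻¹`, `ωQ`, `ψR` the two reflections.
`OQ`, `OR` are the kernels of the actions on `Q/Ps` (coordinates `x1 y2 y6 x7`) and `R/P0` (coordinates `y2 y8`).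
Automorphisms of subgroups are evaluated through `afn` (`Fus/Fn`: `afn_mul`, `afn_mem`, `afn_inv_afn`, `aut_ext`, `homOn_afn`).
-/

set_option autoImplicit false
set_option linter.unusedSectionVars false
set_option linter.unusedSimpArgs false
set_option maxRecDepth 20000

namespace Cfsg.Agent.RFS

open Subgroup Cfsg.Agent.Oct Cfsg.Agent.S2F Cfsg.Agent.Fus Cfsg.FusionSystem

section Gen

variable {Ω : Type*} [Group Ω]

theorem afn_res {E : Subgroup Ω} [E.Characteristic] (φ : MulAut Ω) {x : Ω} (hx : x ∈ E) :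
    afn (MulAut.characteristic E φ) x = φ x := by rw [afn_apply _ hx]; rfl

/-- The automorphisms of `E` induced by `Ω`. -/
def Tn (E : Subgroup Ω) [E.Characteristic] : Subgroup (MulAut E) := ((MulAut.characteristic E).comp MulAut.conj).range

theorem mem_Tn {E : Subgroup Ω} [E.Characteristic] {α : MulAut E} :
    α ∈ Tn E ↔ ∃ g, MulAut.characteristic E (MulAut.conj g) = α := Iff.rfl

theorem mem_Inn' {E : Subgroup Ω} [E.Characteristic] {α : MulAut E} :
    α ∈ Inn E ↔ ∃ g ∈ E, MulAut.characteristic E (MulAut.conj g) = α :=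
  mem_Inn.trans (exists_congr fun g => and_congr_right fun _ =>
    ⟨fun h => aut_ext fun x hx => by rw [afn_res _ hx, h x hx]; rfl, fun h x hx => by rw [← h, afn_res _ hx]; rfl⟩)

/-- The automizer of the Sylow subgroup. -/
structure SA (A₀ : Subgroup (MulAut Ω)) : Prop where
  conj : ∀ g, MulAut.conj g ∈ A₀
  syl : SylIn 2 (MulAut.conj (G := Ω)).range A₀

/-- The automizer of an essential characteristic subgroup. -/
structure Lc (A₀ : Subgroup (MulAut Ω)) (E : Subgroup Ω) [E.Characteristic] (A : Subgroup (MulAut E)) : Prop where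
  res : ∀ φ ∈ A₀, MulAut.characteristic E φ ∈ A
  syl : SylIn 2 (Tn E) A
  rad : ∀ N : Subgroup (MulAut E), IsPGroup 2 N → N ≤ A → (∀ α ∈ A, ∀ κ ∈ N, α * κ * α⁻¹ ∈ N) → N ≤ Inn E
  ext : ∀ α ∈ A, (∀ t ∈ Tn E, α * t * α⁻¹ ∈ Tn E) → ∃ φ ∈ A₀, MulAut.characteristic E φ = α
  nn : ¬ ∀ α ∈ A, ∀ t ∈ Tn E, α * t * α⁻¹ ∈ Tn E

/-- The automorphisms acting trivially on `E / L`. -/
def Ker (E L : Subgroup Ω) (h : Ch E L) : Subgroup (MulAut E) where
  carrier := {α | ∀ x ∈ E, x⁻¹ * afn α x ∈ L}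
  one_mem' x _ := by simp [afn_one]
  mul_mem' {α β} hα hβ x hx := by
    have h1 := afn_mem β hx
    have : x⁻¹ * afn (α * β) x = x⁻¹ * afn β x * ((afn β x)⁻¹ * afn α (afn β x)) := by rw [afn_mul _ _ hx]; group
    rw [this]
    exact mul_mem (hβ x hx) (hα _ h1)
  inv_mem' {α} hα x hx := by
    have := inv_mem (hα _ (afn_mem α⁻¹ hx))
    rwa [afn_afn_inv _ hx, mul_inv_rev, inv_inv] at this

instance Ker.normal (E L : Subgroup Ω) (h : Ch E L) : (Ker E L h).Normal := ⟨fun β hβ α x hx => by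
  have h1 := afn_mem α⁻¹ hx
  have := h α _ (mul_mem (inv_mem h1) (afn_mem β h1)) (hβ _ h1)
  rwa [homOn_afn α _ (inv_mem h1) _ (afn_mem β h1), (homOn_afn α).map_inv h1, afn_afn_inv _ hx, ← afn_mul _ _ h1,
    ← afn_mul _ _ hx] at this⟩

theorem char_of_cm {L M N : Subgroup Ω} [hL : L.Characteristic] [hM : M.Characteristic]
    (e : ∀ y, y ∈ N ↔ ∀ g ∈ L, cm y g ∈ M) : N.Characteristic :=
  characteristic_iff_le_comap.2 fun φ y hy => (e _).2 fun g hg => by
    have := characteristic_iff_le_comap.1 hM φ ((e y).1 hy _ (characteristic_iff_le_comap.1 hL φ.symm hg))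
    simpa [cm] using this

end Gen

variable {K : Type*} [Field K] [Tw K]

theorem mem_Z4_of_cm {u : U K} (h : ∀ g, cm u g ∈ (Ys : Subgroup (U K))) : u ∈ Z4 := by
  have a := h (X1 1)
  have b := h (Y8 1)
  simp only [mem_Ys, cm, UE] at a b
  have y8 : u.y8 = 0 := by grind
  have x8 : u.x8 = 0 := by grind
  have x1 : u.x1 = 0 := by grind
  simp only [UE, y8, x8, x1] at a b
  have y2 : u.y2 = 0 := by grind
  have y6 : u.y6 = 0 := by grind
  simp only [UE, y2, y6] at a b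
  rw [mem_Z4]
  grind

instance chr_Zs : (Zs : Subgroup (U K)).Characteristic := char_of_cm (L := ⊤) (M := ⊥) fun y => by
  simp only [mem_bot, cm_eq_one]
  exact ⟨fun h g _ => by rw [eq_X4 h, comm_X4], fun h => mem_Zs_of_comm fun v => h v trivial⟩

instance chr_Ws : (Ws : Subgroup (U K)).Characteristic := char_of_cm (L := ⊤) (M := Zs) fun _ =>
  ⟨fun h g _ => cm_Ws_T h g, fun h => mem_Ws_iff.2 fun v => h v trivial⟩

instance chr_Ys : (Ys : Subgroup (U K)).Characteristic := char_of_cm (L := ⊤) (M := Ws) fun y =>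
  ⟨fun h g _ => cm_Ys_T h g, fun h => by
    have h4 := mem_Z4_of_cm (u := y) fun g => by
      have := h g trivial
      rw [mem_Ws] at this
      simp only [mem_Ys, this, and_self]
    have b := h (Y8 1) trivial
    rw [mem_Z4] at h4
    simp only [mem_Ws, cm, UE, h4] at b
    simp only [mem_Ys, h4]
    grind⟩

instance chr_Z4 : (Z4 : Subgroup (U K)).Characteristic := char_of_cm (L := ⊤) (M := Ys) fun _ =>
  ⟨fun h g _ => cm_Z4_T h g, fun h => mem_Z4_of_cm fun g => h g trivial⟩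

instance chr_Rs : (Rs : Subgroup (U K)).Characteristic := char_of_cm (L := Ws) (M := ⊥) fun y => by
  simp only [mem_bot, cm_eq_one]
  refine ⟨fun h g hg => (com_Ws_Rs hg h).symm, fun h => ?_⟩
  have := congrArg U.x4 (h (X6 1) (by simp only [mem_Ws, UE, and_self]))
  simp only [UE] at this
  rw [mem_Rs]; grind

instance chr_Qs : (Qs : Subgroup (U K)).Characteristic := char_of_cm (L := Z4) (M := Zs) fun y => by
  refine ⟨fun h g hg => cm_Qs_As h (by rw [mem_Z4] at hg; simp only [mem_As, hg, and_self]), fun h => ?_⟩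
  have := h (X3 1) (by simp only [mem_Z4, UE, and_self])
  simp only [mem_Zs, cm, UE] at this
  have y8 : y.y8 = 0 := σ_eq_zero.1 (by grind)
  exact ⟨y8, by grind⟩

instance chr_P0 : (P0 : Subgroup (U K)).Characteristic := char_of_cm (L := Ys) (M := ⊥) fun y => by
  simp only [mem_bot, cm_eq_one]
  refine ⟨fun h g hg => (com_Ys_P0 hg h).symm, fun h => ?_⟩
  have a := congrArg U.x4 (h (X6 1) (by simp only [mem_Ys, UE, and_self]))
  have b := congrArg U.x4 (h (X5 1) (by simp only [mem_Ys, UE, and_self]))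
  have c := congrArg U.x6 (h (X5 1) (by simp only [mem_Ys, UE, and_self]))
  simp only [UE] at a b c
  rw [mem_P0]; grind

theorem mem_Zs_of_Q {y : U K} (hy : y ∈ Qs) (h : ∀ g ∈ Qs, y * g = g * y) : y ∈ Zs := by
  have a := h (X1 1) ⟨rfl, rfl⟩
  have b := h (X7 1) ⟨rfl, rfl⟩
  have c := h (Y2 1) ⟨rfl, rfl⟩
  have d := h (Y6 1) ⟨rfl, rfl⟩
  have e := h (Y4 1) ⟨rfl, rfl⟩
  simp only [U.ext_iff, UE, hy.1, hy.2] at a b c d e
  have x1 : y.x1 = 0 := by grind
  have y2 : y.y2 = 0 := by grind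
  have y6 : y.y6 = 0 := by grind
  have x7 : y.x7 = 0 := by grind
  simp only [UE, x1, y2, y6, x7] at a b c d
  simp only [mem_Zs, hy.1, hy.2, x1, y2, y6, x7]
  grind

theorem chQ_Zs : Ch (Qs : Subgroup (U K)) Zs := Ch.top.of_cen fun y hy =>
  ⟨fun h g _ _ => by rw [eq_X4 h, comm_X4], fun h => mem_Zs_of_Q hy fun g hg => h g hg trivial⟩

theorem chQ_As : Ch (Qs : Subgroup (U K)) As := Ch.top.of_cm chQ_Zs fun y hy =>
  ⟨fun h g hg _ => cm_As_Qs h hg, fun h => by
    have a := h (X1 1) ⟨rfl, rfl⟩ trivial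
    have e := h (Y4 1) ⟨rfl, rfl⟩ trivial
    simp only [mem_Zs, cm, UE, hy.1, hy.2] at a e
    simp only [mem_As, hy.1, hy.2]
    grind⟩

theorem chQ_Ps : Ch (Qs : Subgroup (U K)) Ps := chQ_As.of_cen fun y hy =>
  ⟨fun h g _ hg => (com_As_Ps hg h).symm, fun h => by
    have a := congrArg U.x4 (h (X2 1) ⟨rfl, rfl⟩ (by simp only [mem_As, UE, and_self]))
    have b := congrArg U.x4 (h (X3 1) ⟨rfl, rfl⟩ (by simp only [mem_As, UE, and_self]))
    have c := congrArg U.x4 (h (X5 1) ⟨rfl, rfl⟩ (by simp only [mem_As, UE, and_self]))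
    have d := congrArg U.x4 (h (X6 1) ⟨rfl, rfl⟩ (by simp only [mem_As, UE, and_self]))
    simp only [UE, hy.1, hy.2] at a b c d
    simp only [mem_Ps, hy.1, hy.2]
    grind⟩

theorem chR_Ys : Ch (Rs : Subgroup (U K)) Ys := (Ch.II Rs).of_cen fun y hy =>
  ⟨fun h g _ hg => com_Ys_P0 h (II_le (fun y hy h => inv_P0 h hy) hg), fun h => by
    have k : ∀ z ∈ Rs, z * z = 1 → y * z = z * y := fun z hz h2 => h z hz (mem_II hz h2)
    have a := k (X5 1) rfl (by ext <;> simp only [UE])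
    have b := k (X7 1) rfl (by ext <;> simp only [UE])
    have c := k (X3 1) rfl (by ext <;> simp only [UE])
    have d := k (X2 1) rfl (by ext <;> simp only [UE])
    have e := k (X8 1) rfl (by ext <;> simp only [UE])
    have x1 : y.x1 = 0 := hy
    simp only [U.ext_iff, UE, x1] at a
    have y2 : y.y2 = 0 := by grind
    have y8 : y.y8 = 0 := by grind
    simp only [U.ext_iff, UE, x1, y2, y8] at b c d e
    simp only [mem_Ys, x1, y2, y8]
    grind⟩

theorem chR_P0 : Ch (Rs : Subgroup (U K)) P0 := chR_Ys.of_cen fun y hy =>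
  ⟨fun h g _ hg => (com_Ys_P0 hg h).symm, fun h => by
    have x1 : y.x1 = 0 := hy
    have a := h (X5 1) rfl (by simp only [mem_Ys, UE, and_self])
    simp only [U.ext_iff, UE, x1] at a
    rw [mem_P0]; grind⟩

theorem chR_Ws : Ch (Rs : Subgroup (U K)) Ws := Ch.top.of_cen fun y hy =>
  ⟨fun h g hg _ => com_Ws_Rs h hg, fun h => by
    have x1 : y.x1 = 0 := hy
    have a := h (X5 1) rfl trivial
    have b := h (X7 1) rfl trivial
    have c := h (X3 1) rfl trivial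
    have d := h (X2 1) rfl trivial
    have e := h (X8 1) rfl trivial
    have f := h (Y8 1) rfl trivial
    simp only [U.ext_iff, UE, x1] at a
    have y2 : y.y2 = 0 := by grind
    have y8 : y.y8 = 0 := by grind
    simp only [U.ext_iff, UE, x1, y2, y8] at b c d e f
    simp only [mem_Ws, x1, y2, y8]
    grind⟩

theorem chR_F5 : Ch (Rs : Subgroup (U K)) F5 := chR_P0.of_cm chR_Ws fun y hy =>
  ⟨fun h g _ hg => cm_F5_P0 h hg, fun h => by
    have x1 : y.x1 = 0 := hy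
    have a := h (X8 1) rfl ⟨rfl, rfl, rfl⟩
    have b := h (X2 1) rfl ⟨rfl, rfl, rfl⟩
    have c := h (Y4 1) rfl ⟨rfl, rfl, rfl⟩
    have d := h (Y6 1) rfl ⟨rfl, rfl, rfl⟩
    simp only [mem_Ws, cm, UE, x1] at a b
    have y2 : y.y2 = 0 := by grind
    have y8 : y.y8 = 0 := by grind
    simp only [mem_Ws, cm, UE, x1, y2, y8] at a b c d
    simp only [mem_F5, x1, y2, y8]
    grind⟩

/-- The kernel of the action on `Q / Ps`. -/
def OQ (K : Type*) [Field K] [Tw K] : Subgroup (MulAut (Qs : Subgroup (U K))) := Ker Qs Ps chQ_Ps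

/-- The kernel of the action on `R / P0`. -/
def OR (K : Type*) [Field K] [Tw K] : Subgroup (MulAut (Rs : Subgroup (U K))) := Ker Rs P0 chR_P0

instance : (OQ K).Normal := Ker.normal _ _ _
instance : (OR K).Normal := Ker.normal _ _ _

theorem mem_OQ {α : MulAut (Qs : Subgroup (U K))} : α ∈ OQ K ↔ ∀ x ∈ Qs, (afn α x).x1 = x.x1 ∧ (afn α x).y2 = x.y2 ∧
    (afn α x).y6 = x.y6 ∧ (afn α x).x7 = x.x7 := forall₂_congr fun x hx => by
  have h := afn_mem α hx
  simp only [mem_Ps, UE, hx.1, hx.2, h.1, h.2]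
  grind

theorem mem_OR {α : MulAut (Rs : Subgroup (U K))} : α ∈ OR K ↔ ∀ x ∈ Rs, (afn α x).y2 = x.y2 ∧ (afn α x).y8 = x.y8 :=
  forall₂_congr fun x hx => by
    have h : (afn α x).x1 = 0 := afn_mem α hx
    have h' : x.x1 = 0 := hx
    simp only [mem_P0, UE, h, h']
    grind

/-- Restriction to `Q`. -/
abbrev rQ : MulAut (U K) →* MulAut (Qs : Subgroup (U K)) := MulAut.characteristic Qs
/-- Restriction to `R`. -/
abbrev rR : MulAut (U K) →* MulAut (Rs : Subgroup (U K)) := MulAut.characteristic Rs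
/-- Conjugation on `Q`. -/
abbrev cQ (g : U K) : MulAut (Qs : Subgroup (U K)) := rQ (MulAut.conj g)
/-- Conjugation on `R`. -/
abbrev cR (g : U K) : MulAut (Rs : Subgroup (U K)) := rR (MulAut.conj g)

theorem afn_cQ (g : U K) {x : U K} (hx : x ∈ Qs) : afn (cQ g) x = g * x * g⁻¹ := afn_res _ hx
theorem afn_cR (g : U K) {x : U K} (hx : x ∈ Rs) : afn (cR g) x = g * x * g⁻¹ := afn_res _ hx

/-- The torus and the field automorphisms. -/
def tfn (a b : K) (f : K ≃+* K) (u : U K) : U K where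
  x1 := a * f u.x1
  y2 := a * b * f u.y2
  x2 := a * b * (σ a * σ b) * f u.x2
  x3 := a * σ a * b ^ 2 * σ b * f u.x3
  y4 := σ a * σ b * b * f u.y4
  x4 := a ^ 2 * σ a * b ^ 3 * σ b ^ 2 * f u.x4
  x5 := a * σ a * b ^ 2 * σ b ^ 2 * f u.x5
  y6 := a * b * σ b * f u.y6
  x6 := a * σ a * b ^ 3 * σ b ^ 2 * f u.x6
  x7 := a * b ^ 2 * σ b * f u.x7
  y8 := b * f u.y8
  x8 := b * σ b * f u.x8

variable [Finite K]

theorem exists_frob (f : K ≃+* K) : ∃ j, ∀ t, f t = t ^ 2 ^ j := by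
  let _ : Algebra (ZMod 2) K := ZMod.algebra K 2
  obtain ⟨j, hj⟩ := FiniteField.exists_forall_apply_eq_pow (ZMod 2) 2 K
    (AlgEquiv.ofRingEquiv (f := f) fun x => RingHom.congr_fun
      (RingHom.ext_zmod ((f : K →+* K).comp (algebraMap (ZMod 2) K)) (algebraMap (ZMod 2) K)) x)
  exact ⟨j, fun t => (hj t).trans (by rw [Nat.card_zmod])⟩

theorem fσ (f : K ≃+* K) (t : K) : f (σ t) = σ (f t) := by
  obtain ⟨j, hj⟩ := exists_frob f
  rw [hj, hj, map_pow]

/-- Isotopy lemma. -/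
theorem isot {f g h : K → K} (hh : ∀ x y, h (x + y) = h x + h y) (f1 : f 1 ≠ 0) (g1 : g 1 ≠ 0)
    (e : ∀ x y, h (x * y) = f x * g y) :
    ∃ φ : K ≃+* K, (∀ x, f x = f 1 * φ x) ∧ (∀ x, g x = g 1 * φ x) ∧ ∀ x, h x = f 1 * g 1 * φ x := by
  have a1 : ∀ x, h x = f x * g 1 := fun x => by rw [← e, mul_one]
  have a2 : ∀ x, h x = f 1 * g x := fun x => by rw [← e, one_mul]
  let φ : K →+* K :=
    { toFun := fun x => h x / (f 1 * g 1)
      map_one' := by rw [a1, div_self (mul_ne_zero f1 g1)]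
      map_mul' := fun x y => by
        rw [e, a1 x, a2 y]; field_simp
      map_zero' := by
        have := hh 0 0
        rw [add_zero, left_eq_add] at this
        rw [this, zero_div]
      map_add' := fun x y => by rw [hh, add_div] }
  refine ⟨RingEquiv.ofBijective φ (Finite.injective_iff_bijective.1 φ.injective), fun x => ?_, fun x => ?_, fun x => ?_⟩
  · change _ = _ * (h x / _); rw [a1]; field_simp
  · change _ = _ * (h x / _); rw [a2]; field_simp
  · change _ = _ * (h x / _); field_simp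

theorem tfn_mul (a b : K) (f : K ≃+* K) (u v : U K) : tfn a b f (u * v) = tfn a b f u * tfn a b f v := by
  ext <;> simp only [UE, tfn, map_add, map_mul, map_pow, fσ, σσ] <;> ring

theorem tfn_tfn (a b a' b' : K) (f f' : K ≃+* K) (u : U K) :
    tfn a b f (tfn a' b' f' u) = tfn (a * f a') (b * f b') (f * f') u := by
  ext <;> simp only [tfn, map_mul, map_pow, fσ, RingAut.mul_apply] <;> ring

theorem tfn_one (u : U K) : tfn 1 1 (1 : K ≃+* K) u = u := by
  ext <;> simp [tfn]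

/-- A field automorphism on units. -/
def um (f : K ≃+* K) (a : Kˣ) : Kˣ := Units.map (f : K →* K) a

@[simp] theorem um_val (f : K ≃+* K) (a : Kˣ) : (um f a : K) = f a := rfl

/-- `σ` on units. -/
def σu (a : Kˣ) : Kˣ := Units.map (σ : K →+* K).toMonoidHom a

@[simp] theorem σu_val (a : Kˣ) : (σu a : K) = σ (a : K) := rfl

/-- The torus and the field automorphisms. -/
def tf (a b : Kˣ) (f : K ≃+* K) : MulAut (U K) where
  toFun := tfn a b f
  invFun := tfn (um f⁻¹ a⁻¹) (um f⁻¹ b⁻¹) f⁻¹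
  left_inv u := by
    rw [tfn_tfn, um_val, um_val, ← map_mul, ← map_mul, inv_mul_cancel, Units.inv_mul, Units.inv_mul, map_one, tfn_one]
  right_inv u := by
    rw [tfn_tfn, um_val, um_val, ← RingAut.mul_apply, ← RingAut.mul_apply, mul_inv_cancel, RingAut.one_apply,
      RingAut.one_apply, Units.mul_inv, Units.mul_inv, tfn_one]
  map_mul' := tfn_mul _ _ f

theorem tf_apply (a b : Kˣ) (f : K ≃+* K) (u : U K) : tf a b f u = tfn (a : K) b f u := rfl

theorem tf_mul (a b a' b' : Kˣ) (f f' : K ≃+* K) :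
    tf a b f * tf a' b' f' = tf (a * um f a') (b * um f b') (f * f') := MulEquiv.ext (tfn_tfn _ _ _ _ f f')

theorem tf_one : tf (1 : Kˣ) 1 1 = 1 := MulEquiv.ext tfn_one

theorem tf_inv (a b : Kˣ) (f : K ≃+* K) : (tf a b f)⁻¹ = tf (um f⁻¹ a⁻¹) (um f⁻¹ b⁻¹) f⁻¹ := MulEquiv.ext fun _ => rfl

/-- The group `H Φ`. -/
def TF (K : Type*) [Field K] [Tw K] [Finite K] : Subgroup (MulAut (U K)) where
  carrier := {φ | ∃ a b f, φ = tf a b f}
  one_mem' := ⟨1, 1, 1, tf_one.symm⟩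
  mul_mem' := by rintro _ _ ⟨a, b, f, rfl⟩ ⟨a', b', f', rfl⟩; exact ⟨_, _, _, tf_mul ..⟩
  inv_mem' := by rintro _ ⟨a, b, f, rfl⟩; exact ⟨_, _, _, tf_inv ..⟩

/-- The torus `H`. -/
def TH (K : Type*) [Field K] [Tw K] [Finite K] : Subgroup (MulAut (U K)) where
  carrier := {φ | ∃ a b, φ = tf a b 1}
  one_mem' := ⟨1, 1, tf_one.symm⟩
  mul_mem' := by rintro _ _ ⟨a, b, rfl⟩ ⟨a', b', rfl⟩; exact ⟨_, _, tf_mul ..⟩
  inv_mem' := by rintro _ ⟨a, b, rfl⟩; exact ⟨_, _, tf_inv ..⟩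

section Model

open Cfsg.Lie Cfsg.Agent.Chev

theorem n1_NN {K : Type*} [Field K] [Tw K] [Fintype K] (S : ChevSys rootTableF4 (xC chevF4 K)) {u : U K} (hu : u ∈ Rs) :
    n1 K * NN S u * (n1 K)⁻¹ = NN S (ψ u) := by
  have sy : ∀ {x y}, n1 K * x * (n1 K)⁻¹ = y → n1 K * y * (n1 K)⁻¹ = x := fun {x y} h => by
    rw [← h, inv_eq_of_mul_eq_one_left n1_sq]
    calc _ = n1 K * n1 K * x * (n1 K * n1 K) := by group
      _ = x := by simp [n1_sq]
  conv_lhs => rw [decomp u, show u.x1 = 0 from hu, X1_zero, one_mul]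
  simp only [ψ, map_mul, ← n1_Y2 S u.y2, ← n1_X2 S u.x2, ← n1_X3 S u.x3, ← n1_Y4 S u.y4, ← n1_X4 S u.x4,
    ← sy (n1_Y4 S u.y6), ← n1_X6 S u.x6, ← sy (n1_X3 S u.x7), ← sy (n1_Y2 S u.y8), ← sy (n1_X2 S u.x8)]
  conv_rhs => rw [← n1_X5 S u.x5]
  group

/-- The model. -/
noncomputable abbrev sys (K : Type*) [Field K] : ChevSys rootTableF4 (xC chevF4 K) := sysC K (by simp) rootTableF4

theorem ω_mul {u v : U K} (hu : u ∈ Qs) (hv : v ∈ Qs) : ω (u * v) = ω u * ω v := by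
  have := Fintype.ofFinite K
  refine NN_inj (sys K) ?_
  rw [map_mul, ← ww_NN _ hu, ← ww_NN _ hv, ← ww_NN _ (mul_mem hu hv), map_mul]
  group

theorem ω_ω {u : U K} (hu : u ∈ Qs) : ω (ω u) = u :=
  have := Fintype.ofFinite K
  (loc0 (sys K)).ωω hu

theorem ψ_mul {u v : U K} (hu : u ∈ Rs) (hv : v ∈ Rs) : ψ (u * v) = ψ u * ψ v := by
  have := Fintype.ofFinite K
  refine NN_inj (sys K) ?_
  rw [map_mul, ← n1_NN _ hu, ← n1_NN _ hv, ← n1_NN _ (mul_mem hu hv), map_mul]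
  group

theorem ψ_ψ {u : U K} (hu : u ∈ Rs) : ψ (ψ u) = u := by
  have := Fintype.ofFinite K
  refine NN_inj (sys K) ?_
  rw [← n1_NN _ (ψ_mem u), ← n1_NN _ hu, inv_eq_of_mul_eq_one_left n1_sq]
  calc _ = n1 K * n1 K * NN (sys K) u * (n1 K * n1 K) := by group
    _ = _ := by simp [n1_sq]

/-- The reflection on `Q`. -/
def ωQ (K : Type*) [Field K] [Tw K] [Finite K] : MulAut (Qs : Subgroup (U K)) where
  toFun x := ⟨ω x, ω_mem _⟩
  invFun x := ⟨ω x, ω_mem _⟩
  left_inv x := Subtype.ext (ω_ω x.2)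
  right_inv x := Subtype.ext (ω_ω x.2)
  map_mul' x y := Subtype.ext (ω_mul x.2 y.2)

/-- The reflection on `R`. -/
def ψR (K : Type*) [Field K] [Tw K] [Finite K] : MulAut (Rs : Subgroup (U K)) where
  toFun x := ⟨ψ x, ψ_mem _⟩
  invFun x := ⟨ψ x, ψ_mem _⟩
  left_inv x := Subtype.ext (ψ_ψ x.2)
  right_inv x := Subtype.ext (ψ_ψ x.2)
  map_mul' x y := Subtype.ext (ψ_mul x.2 y.2)

theorem afn_ωQ {x : U K} (hx : x ∈ Qs) : afn (ωQ K) x = ω x := by rw [afn_apply _ hx]; rfl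
theorem afn_ψR {x : U K} (hx : x ∈ Rs) : afn (ψR K) x = ψ x := by rw [afn_apply _ hx]; rfl

theorem ωQ_sq : ωQ K * ωQ K = 1 := MulEquiv.ext (ωQ K).left_inv
theorem ψR_sq : ψR K * ψR K = 1 := MulEquiv.ext (ψR K).left_inv
theorem ωQ_inv : (ωQ K)⁻¹ = ωQ K := inv_eq_of_mul_eq_one_left ωQ_sq
theorem ψR_inv : (ψR K)⁻¹ = ψR K := inv_eq_of_mul_eq_one_left ψR_sq

theorem ψ_y2 (u : U K) : (ψ u).y2 = u.y8 := by simp only [ψ, UE]
theorem ψ_y8 (u : U K) : (ψ u).y8 = u.y2 := by simp only [ψ, UE]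

theorem ω_rel : ωQ K * cQ (X8 1) * ωQ K = cQ (Y8 1)⁻¹ * ωQ K * cQ (Y8 1) := aut_ext fun x hx => by
  have := Fintype.ofFinite K
  have n := (nor_Qs (K := K)).conj_mem
  have a1 := ω_mem x
  have a2 := n _ hx (Y8 1)
  rw [afn_mul _ _ hx, afn_ωQ hx, afn_mul _ _ a1, afn_cQ _ a1, afn_ωQ (n _ a1 _), afn_mul _ _ hx, afn_cQ _ hx,
    afn_mul _ _ a2, afn_ωQ a2, afn_cQ _ (ω_mem _)]
  refine NN_inj (sys K) ?_
  have h := rel0 (sys K)
  have hw : (ww K)⁻¹ = ww K := inv_eq_of_mul_eq_one_left ww_sq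
  simp only [map_mul, map_inv, ← ww_NN _ (n _ a1 _), ← ww_NN _ hx, ← ww_NN _ a2]
  calc _ = ww K * NN (sys K) (X8 1) * (ww K)⁻¹ * (ww K * ww K) * NN (sys K) x * (ww K * ww K)⁻¹ *
      (ww K * NN (sys K) (X8 1) * (ww K)⁻¹)⁻¹ := by group
    _ = _ := by rw [h, ww_sq]; group

theorem ψ_rel : (ψR K * cR (X1 1)) ^ 3 = 1 := aut_ext fun x hx => by
  have := Fintype.ofFinite K
  have key : ∀ x ∈ Rs, NN (sys K) (afn (ψR K * cR (X1 1)) x) =
      n1 K * NN (sys K) (X1 1) * NN (sys K) x * (n1 K * NN (sys K) (X1 1))⁻¹ := fun x hx => by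
    have a := (nor_Rs (K := K)).conj_mem _ hx (X1 1)
    rw [afn_mul _ _ hx, afn_cR _ hx, afn_ψR a, ← n1_NN _ a, map_mul, map_mul, map_inv]
    group
  refine NN_inj (sys K) ?_
  have a1 := afn_mem (ψR K * cR (X1 1)) hx
  rw [pow_three', afn_mul _ _ hx, afn_mul _ _ a1, key _ (afn_mem _ a1), key _ a1, key _ hx, afn_one]
  have h := n1_X1_cub (sys K)
  generalize n1 K * NN (sys K) (X1 1) = z at h
  calc _ = z ^ 3 * NN (sys K) x * (z ^ 3)⁻¹ := by rw [pow_three]; group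
    _ = _ := by rw [h]; simp

end Model

theorem ωQ_tf (a b : Kˣ) (f : K ≃+* K) : ωQ K * rQ (tf a b f) * ωQ K = rQ (tf (a * b ^ 2 * σu b) b⁻¹ f) := by
  rw [mul_assoc, ← eq_inv_mul_iff_mul_eq, ωQ_inv]
  refine aut_ext fun x hx => ?_
  have a1 := afn_mem (rQ (tf (a * b ^ 2 * σu b) b⁻¹ f)) hx
  rw [afn_mul _ _ hx, afn_mul _ _ hx, afn_ωQ a1, afn_ωQ hx, afn_res _ hx, afn_res _ (ω_mem x)]
  have h1 := b.ne_zero
  have h2 := σu_ne b
  ext <;> simp only [UE, tf_apply, tfn, map_add, map_mul, map_pow, map_zero, fσ, σσ, Units.val_mul, Units.val_pow_eq_pow_val,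
    σu_val, Units.val_inv_eq_inv_val, map_inv₀] <;> field_simp

theorem ψR_tf (a b : Kˣ) (f : K ≃+* K) : ψR K * rR (tf a b f) * ψR K = rR (tf a⁻¹ (a * b) f) := by
  rw [mul_assoc, ← eq_inv_mul_iff_mul_eq, ψR_inv]
  refine aut_ext fun x hx => ?_
  have a1 := afn_mem (rR (tf a⁻¹ (a * b) f)) hx
  rw [afn_mul _ _ hx, afn_mul _ _ hx, afn_ψR a1, afn_ψR hx, afn_res _ hx, afn_res _ (ψ_mem x)]
  have h1 := a.ne_zero
  have h2 := σu_ne a
  simp only [ψ, map_mul]
  congr 10 <;> ext <;> simp only [UE, tf_apply, tfn, map_add, map_mul, map_pow, map_zero, fσ, σσ, Units.val_mul,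
    Units.val_pow_eq_pow_val, σu_val, Units.val_inv_eq_inv_val, map_inv₀] <;> field_simp

/-- For `q = 2`: an automorphism of `U K` which is central on `R`. -/
def g0 (u : U K) : U K :=
  { u with x4 := u.x4 + u.x1 * u.y2 + u.y8, x5 := u.x5 + u.x1, x6 := u.x6 + u.y2 + u.y8 }

theorem g0_g0 (u : U K) : g0 (g0 u) = u := by
  ext <;> simp only [g0] <;> grind

theorem g0_mul (h2 : ∀ x : K, x = 0 ∨ x = 1) (u v : U K) : g0 (u * v) = g0 u * g0 v := by
  have hσ : ∀ x : K, σ x = x := fun x => by rcases h2 x with rfl | rfl <;> simp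
  have hs : ∀ x : K, x * x = x := fun x => by rcases h2 x with rfl | rfl <;> simp
  have a1 := hs u.x1
  have a2 := hs u.y8
  have a3 := hs v.x1
  ext <;> simp only [g0, UE, hσ] <;> grind

/-- For `q = 2`: an automorphism of `U K` which is central on `R`. -/
def γ0 (h2 : ∀ x : K, x = 0 ∨ x = 1) : MulAut (U K) where
  toFun := g0
  invFun := g0
  left_inv := g0_g0
  right_inv := g0_g0
  map_mul' := g0_mul h2

/-- Every element of `A₀` is inner times an element of `H Φ`. -/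
def Form (A₀ : Subgroup (MulAut (U K))) : Prop := ∀ φ ∈ A₀, ∃ (g : U K) (a b : Kˣ) (f : K ≃+* K), φ = MulAut.conj g * tf a b f

end Cfsg.Agent.RFS
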