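import Cfsg.Agent.S2F.Base
import Cfsg.Agent.SpF.Tools
import Cfsg.Agent.Bender.CorBase

/-!
Fusion systems on the Sylow `2`-subgroup `S = U K` of `²F₄(q)`: essential subgroups, abstractly.

Conventions.  Conjugation is `x * y * x⁻¹`, the commutator is `cm x y = x * y * x⁻¹ * y⁻¹`.  `U K`, the root elements,
`σ`, `θ`, the simp set `UE`, `Zs Ws Ys As Bs Qs Rs V6` come from `Oct/U`, `Ps P0 F5 pr ψ` from `S2F/Def`.
Commutators `cm (r a) (s b)` of root elements (`a' = σ a`; all others trivial):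
x1,y4: x2=ab.  x1,y6: x2=a'b x3=ab'.  x1,x6: x4=ab.  x1,x7: x3=a'b x5=ab'.
x1,y8: y2=ab y6=abb' x7=ab²b' (+x3..x6).  x1,x8: y4=a'b y6=ab x7=ab' x2=aa'b (+x3,x4,x5).
y2,y4: x3=ab.  y2,x5: x4=ab.  y2,x7: x5=a'b x6=ab'.  y2,y8: y4=a'b y6=ab' (+x5,x6).  y2,x8: x7=ab (+x4,x5).
x2,x7: x4=ab.  x2,y8: x3=ab (+x5,x6).  x2,x8: x4=a'b x5=ab x6=ab'.  x3,y6: x4=ab.  x3,y8: x4=a'b x5=ab'.
x3,x8: x6=ab.  y4,y6: x5=ab.  y4,x7: x6=ab.  x5,y8: x6=ab.  y6,y8: x7=ab.  `Yi a * Yi b = Yi (a+b) Xi (a b')`.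
Upper central series `Zs < Ws < Ys < Z4 < Z5 < Z6 < Z7 < S`.
-/

set_option autoImplicit false
set_option linter.unusedSectionVars false
set_option linter.unusedSimpArgs false
set_option maxRecDepth 20000

namespace Cfsg.Agent.RFS

open Subgroup Cfsg.Agent.Oct Cfsg.Agent.S2F Cfsg.Agent.Fus Cfsg.FusionSystem

section Gen

variable {Ω : Type*} [Group Ω]

/-- The commutator. -/
def cm (x y : Ω) : Ω := x * y * x⁻¹ * y⁻¹

theorem cm_def (x y : Ω) : cm x y = x * y * x⁻¹ * y⁻¹ := rfl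

theorem cm_eq_one {x y : Ω} : cm x y = 1 ↔ x * y = y * x := by
  rw [cm, mul_inv_eq_one, mul_inv_eq_iff_eq_mul]

theorem cm_mem {E : Subgroup Ω} {x y : Ω} (hx : x ∈ E) (hy : y ∈ E) : cm x y ∈ E :=
  mul_mem (mul_mem (mul_mem hx hy) (inv_mem hx)) (inv_mem hy)

theorem afn_cm {E : Subgroup Ω} (α : MulAut E) {x y : Ω} (hx : x ∈ E) (hy : y ∈ E) :
    afn α (cm x y) = cm (afn α x) (afn α y) := by
  have h := homOn_afn α
  rw [cm, h _ (mul_mem (mul_mem hx hy) (inv_mem hx)) _ (inv_mem hy), h _ (mul_mem hx hy) _ (inv_mem hx), h _ hx _ hy,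
    h.map_inv hx, h.map_inv hy, cm]

theorem afn_sq {E : Subgroup Ω} (α : MulAut E) {x : Ω} (hx : x ∈ E) (h : x * x = 1) : afn α x * afn α x = 1 := by
  rw [← homOn_afn α _ hx _ hx, h, (homOn_afn α).map_one]

/-- `x` normalises `E`. -/
def Nm (E : Subgroup Ω) (x : Ω) : Prop := ∀ y ∈ E, x * y * x⁻¹ ∈ E

theorem nm_of_cm {E : Subgroup Ω} {x : Ω} (h : ∀ y ∈ E, cm x y ∈ E) : Nm E x := fun y hy => by
  simpa [cm] using mul_mem (h y hy) hy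

/-- `L ∩ E` is characteristic in `E`. -/
def Ch (E L : Subgroup Ω) : Prop := ∀ α : MulAut E, ∀ y ∈ E, y ∈ L → afn α y ∈ L

/-- `x` acts trivially on the sections of the chain `L, l, E` of characteristic subgroups of `E`. -/
def Stab (E : Subgroup Ω) (x : Ω) : Subgroup Ω → List (Subgroup Ω) → Prop
  | L, [] => ∀ y ∈ E, cm x y ∈ L
  | L, M :: l => Ch E M ∧ (∀ y ∈ E, y ∈ M → cm x y ∈ L) ∧ Stab E x M l

/-- What is used of an essential subgroup. -/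
structure Es (E : Subgroup Ω) : Prop where
  ne : E ≠ ⊤
  cen : ∀ x, (∀ y ∈ E, y * x = x * y) → x ∈ E
  chain : ∀ l x, Nm E x → Stab E x ⊥ l → x ∈ E
  conj : ∀ x x', Nm E x → Nm E x' → x ∉ E → x' ∉ E → x * x ∈ E → x' * x' ∈ E →
    ∃ α : MulAut E, ∃ e ∈ E, ∀ y ∈ E, afn α (x * y * x⁻¹) = x' * e * afn α y * (x' * e)⁻¹

/-- `Ω₁ Z(E)`. -/
def VV (E : Subgroup Ω) : Subgroup Ω where
  carrier := {v | v ∈ E ∧ v * v = 1 ∧ ∀ g ∈ E, g * v = v * g}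
  mul_mem' := fun {a b} ⟨h1, h2, h3⟩ ⟨k1, k2, k3⟩ => ⟨mul_mem h1 k1, by
    rw [mul_assoc, ← mul_assoc b, h3 b k1, mul_assoc, k2, mul_one, h2], fun g hg => by
    rw [← mul_assoc, h3 g hg, mul_assoc, k3 g hg, mul_assoc]⟩
  one_mem' := ⟨one_mem _, one_mul _, by simp⟩
  inv_mem' := fun {a} ⟨h1, h2, h3⟩ => by
    rw [inv_eq_of_mul_eq_one_left h2]; exact ⟨h1, h2, h3⟩

theorem mem_VV {E : Subgroup Ω} {v : Ω} : v ∈ VV E ↔ v ∈ E ∧ v * v = 1 ∧ ∀ g ∈ E, g * v = v * g := Iff.rfl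

/-- `Ω₁(E)`. -/
def II (E : Subgroup Ω) : Subgroup Ω := closure {y | y ∈ E ∧ y * y = 1}

theorem mem_II {E : Subgroup Ω} {y : Ω} (h : y ∈ E) (h2 : y * y = 1) : y ∈ II E := subset_closure ⟨h, h2⟩

theorem II_le {E L : Subgroup Ω} (h : ∀ y ∈ E, y * y = 1 → y ∈ L) : II E ≤ L :=
  (closure_le L).2 fun y hy => h y hy.1 hy.2

namespace Ch

variable {E L M N : Subgroup Ω}

theorem bot : Ch E ⊥ := fun α y _ h => by rw [mem_bot.1 h, (homOn_afn α).map_one]; exact one_mem _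

theorem top : Ch E ⊤ := fun _ _ _ _ => trivial

theorem congr (h : Ch E L) (e : ∀ y ∈ E, y ∈ L ↔ y ∈ M) : Ch E M := fun α y hy hM =>
  (e _ (afn_mem α hy)).1 (h α y hy ((e y hy).2 hM))

theorem inf (h : Ch E L) (h' : Ch E M) : Ch E (L ⊓ M) := fun α y hy hM => ⟨h α y hy hM.1, h' α y hy hM.2⟩

/-- A subgroup described by an invariant property. -/
theorem of_pred (P : Ω → Prop) (hP : ∀ α : MulAut E, ∀ y ∈ E, P y → P (afn α y)) (e : ∀ y ∈ E, y ∈ L ↔ P y) :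
    Ch E L := fun α y hy h => (e _ (afn_mem α hy)).2 (hP α y hy ((e y hy).1 h))

/-- A subgroup generated by the elements of `E` with an invariant property. -/
theorem closure (P : Ω → Prop) (hP : ∀ α : MulAut E, ∀ y ∈ E, P y → P (afn α y)) :
    Ch E (closure {y | y ∈ E ∧ P y}) := fun α y _ h => by
  have hle : Subgroup.closure {y | y ∈ E ∧ P y} ≤ E := (closure_le E).2 fun _ h => h.1
  induction h using closure_induction with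
  | mem x hx => exact Subgroup.subset_closure ⟨afn_mem α hx.1, hP α x hx.1 hx.2⟩
  | one => rw [(homOn_afn α).map_one]; exact one_mem _
  | mul x y hx hy h1 h2 => rw [homOn_afn α _ (hle hx) _ (hle hy)]; exact mul_mem (h1 (hle hx)) (h2 (hle hy))
  | inv x hx h1 => rw [(homOn_afn α).map_inv (hle hx)]; exact inv_mem (h1 (hle hx))

/-- `N` is generated by the elements of `E` with the invariant property `P`. -/
theorem of_gen (P : Ω → Prop) (hP : ∀ α : MulAut E, ∀ y ∈ E, P y → P (afn α y)) (h1 : ∀ y ∈ E, P y → y ∈ N)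
    (h2 : ∀ T : Subgroup Ω, (∀ y ∈ E, P y → y ∈ T) → N ≤ T) : Ch E N :=
  (Ch.closure P hP).congr fun _ _ => ⟨fun h => (closure_le N).2 (fun y hy => h1 y hy.1 hy.2) h,
    fun h => h2 (Subgroup.closure {y | y ∈ E ∧ P y}) (fun _ hy hp => Subgroup.subset_closure ⟨hy, hp⟩) h⟩

/-- `N ∩ E = C_E(L ∩ E / M)`. -/
theorem of_cm (hL : Ch E L) (hM : Ch E M) (e : ∀ y ∈ E, y ∈ N ↔ ∀ g ∈ E, g ∈ L → cm y g ∈ M) : Ch E N :=
  of_pred _ (fun α y hy h g hg hgL => by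
    have h1 := afn_mem α⁻¹ hg
    rw [← afn_afn_inv α hg, ← afn_cm α hy h1]
    exact hM α _ (cm_mem hy h1) (h _ h1 (hL α⁻¹ g hg hgL))) e

/-- `N ∩ E = C_E(L ∩ E)`. -/
theorem of_cen (hL : Ch E L) (e : ∀ y ∈ E, y ∈ N ↔ ∀ g ∈ E, g ∈ L → y * g = g * y) : Ch E N :=
  of_cm hL bot (by simpa only [mem_bot, cm_eq_one] using e)

/-- `N = [L ∩ E, M ∩ E]`. -/
theorem of_comm (hL : Ch E L) (hM : Ch E M) (h1 : ∀ a ∈ E, a ∈ L → ∀ b ∈ E, b ∈ M → cm a b ∈ N)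
    (h2 : ∀ T : Subgroup Ω, (∀ a ∈ E, a ∈ L → ∀ b ∈ E, b ∈ M → cm a b ∈ T) → N ≤ T) : Ch E N :=
  of_gen (fun c => ∃ a ∈ E, a ∈ L ∧ ∃ b ∈ E, b ∈ M ∧ c = cm a b)
    (by
      rintro α _ - ⟨a, ha, ha', b, hb, hb', rfl⟩
      exact ⟨_, afn_mem α ha, hL α a ha ha', _, afn_mem α hb, hM α b hb hb', afn_cm α ha hb⟩)
    (by rintro _ - ⟨a, ha, ha', b, hb, hb', rfl⟩; exact h1 a ha ha' b hb hb')
    fun T hT => h2 T fun a ha ha' b hb hb' => hT _ (cm_mem ha hb) ⟨a, ha, ha', b, hb, hb', rfl⟩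

/-- `N` is generated by the squares of the elements of `L ∩ E`. -/
theorem of_sq (hL : Ch E L) (h1 : ∀ a ∈ E, a ∈ L → a * a ∈ N)
    (h2 : ∀ T : Subgroup Ω, (∀ a ∈ E, a ∈ L → a * a ∈ T) → N ≤ T) : Ch E N :=
  of_gen (fun c => ∃ a ∈ E, a ∈ L ∧ c = a * a)
    (by
      rintro α _ - ⟨a, ha, ha', rfl⟩
      exact ⟨_, afn_mem α ha, hL α a ha ha', homOn_afn α _ ha _ ha⟩)
    (by rintro _ - ⟨a, ha, ha', rfl⟩; exact h1 a ha ha')
    fun T hT => h2 T fun a ha ha' => hT _ (mul_mem ha ha) ⟨a, ha, ha', rfl⟩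

/-- `N ∩ E = {y ∈ L ∩ E | y² ∈ M}`. -/
theorem of_sq_mem (hL : Ch E L) (hM : Ch E M) (e : ∀ y ∈ E, y ∈ N ↔ y ∈ L ∧ y * y ∈ M) : Ch E N :=
  of_pred _ (fun α y hy h => ⟨hL α y hy h.1, by
    rw [← homOn_afn α _ hy _ hy]; exact hM α _ (mul_mem hy hy) h.2⟩) e

theorem VV (E : Subgroup Ω) : Ch E (VV E) := fun α y hy h => ⟨afn_mem α hy, afn_sq α hy h.2.1, fun g hg => by
  have h1 := afn_mem α⁻¹ hg
  rw [← afn_afn_inv α hg, ← homOn_afn α _ h1 _ hy, h.2.2 _ h1, homOn_afn α _ hy _ h1]⟩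

theorem II (E : Subgroup Ω) : Ch E (II E) := Ch.closure _ fun α _ hy h => afn_sq α hy h

end Ch

/-- Transport of automorphisms along an automorphism of the ambient group. -/
noncomputable def tr (γ : MulAut Ω) (E : Subgroup Ω) : MulAut E ≃* MulAut (E.map γ.toMonoidHom) :=
  MulAut.congr (E.equivMapOfInjective γ.toMonoidHom γ.injective)

theorem afn_tr (γ : MulAut Ω) {E : Subgroup Ω} (α : MulAut E) {y : Ω} (hy : y ∈ E) :
    afn (tr γ E α) (γ y) = γ (afn α y) := by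
  have h1 : γ y ∈ E.map γ.toMonoidHom := mem_map_of_mem γ.toMonoidHom hy
  rw [afn_apply _ h1, afn_apply _ hy]
  have : (E.equivMapOfInjective γ.toMonoidHom γ.injective).symm ⟨γ y, h1⟩ = ⟨y, hy⟩ :=
    (MulEquiv.symm_apply_eq _).2 rfl
  simp only [tr, MulAut.congr_apply, MulEquiv.trans_apply]
  erw [this]
  rfl

theorem Stab.comap (γ : MulAut Ω) {E : Subgroup Ω} {x : Ω} : ∀ (l : List (Subgroup Ω)) (L : Subgroup Ω),
    Stab (E.map γ.toMonoidHom) (γ x) L l → Stab E x (L.comap γ.toMonoidHom) (l.map (·.comap γ.toMonoidHom))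
  | [], _, h => fun y hy => by simpa [cm] using h _ (mem_map_of_mem γ.toMonoidHom hy)
  | M :: l, _, h => ⟨fun α y hy hM => by
      have := h.1 (tr γ E α) _ (mem_map_of_mem γ.toMonoidHom hy) hM
      erw [afn_tr γ α hy] at this
      exact this, fun y hy hM => by simpa [cm] using h.2.1 _ (mem_map_of_mem γ.toMonoidHom hy) hM,
      Stab.comap γ l M h.2.2⟩

theorem Stab.getD {E : Subgroup Ω} {x : Ω} : ∀ (l : List (Subgroup Ω)) (L : Subgroup Ω), Stab E x L l →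
    (∀ i, Ch E (l.getD i ⊤)) ∧ ∀ i, ∀ y ∈ E, y ∈ l.getD i ⊤ → cm x y ∈ (L :: l).getD i ⊤
  | [], _, h => ⟨fun _ => Ch.top, fun i y hy _ => by
      rcases i with _ | i
      exacts [h y hy, trivial]⟩
  | M :: l, _, h => by
    obtain ⟨a1, a2⟩ := Stab.getD l M h.2.2
    refine ⟨fun i => ?_, fun i => ?_⟩ <;> rcases i with _ | i
    exacts [h.1, a1 i, h.2.1, a2 i]

namespace Es

variable {E : Subgroup Ω}

theorem map (h : Es E) (γ : MulAut Ω) : Es (E.map γ.toMonoidHom) := by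
  have hm : ∀ x, γ x ∈ E.map γ.toMonoidHom ↔ x ∈ E := fun x => mem_map_iff_mem (f := γ.toMonoidHom) γ.injective
  have hn : ∀ x, Nm (E.map γ.toMonoidHom) (γ x) → Nm E x := fun x hx y hy => by
    have := hx _ ((hm y).2 hy)
    rwa [← map_inv, ← map_mul, ← map_mul, hm] at this
  refine ⟨fun e => h.ne (eq_top_iff.2 fun x _ => (hm x).1 (e ▸ mem_top _)), fun x hx => ?_, fun l x hx hs => ?_,
    fun x x' h1 h2 h3 h4 h5 h6 => ?_⟩
  · obtain ⟨x, rfl⟩ := γ.surjective x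
    exact (hm x).2 (h.cen x fun y hy => γ.injective (by simpa using hx _ ((hm y).2 hy)))
  · obtain ⟨x, rfl⟩ := γ.surjective x
    have := Stab.comap γ l ⊥ hs
    rw [show (⊥ : Subgroup Ω).comap γ.toMonoidHom = ⊥ from (MonoidHom.ker_eq_bot_iff _).2 γ.injective] at this
    exact (hm x).2 (h.chain _ x (hn x hx) this)
  · obtain ⟨x, rfl⟩ := γ.surjective x
    obtain ⟨x', rfl⟩ := γ.surjective x'
    rw [← map_mul, hm] at h5 h6
    obtain ⟨α, e, he, h7⟩ := h.conj x x' (hn x h1) (hn x' h2) (mt (hm x).2 h3) (mt (hm x').2 h4) h5 h6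
    refine ⟨tr γ E α, γ e, (hm e).2 he, ?_⟩
    rintro _ ⟨y, hy, rfl⟩
    erw [← map_inv, ← map_mul, ← map_mul, afn_tr γ α (hn x h1 y hy), afn_tr γ α hy, h7 y hy]
    simp

/-- The conjugate `g E g⁻¹`. -/
theorem cj (h : Es E) (g : Ω) : ∃ E' : Subgroup Ω, Es E' ∧ ∀ x, x ∈ E' ↔ g⁻¹ * x * g ∈ E :=
  ⟨_, h.map (MulAut.conj g), fun x => ⟨by rintro ⟨y, hy, rfl⟩; simpa [mul_assoc] using hy,
    fun hx => ⟨_, hx, by simp [mul_assoc]⟩⟩⟩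

theorem c1 (h : Es E) {L : Subgroup Ω} (hL : Ch E L) {x : Ω} (hx : Nm E x) (h0 : ∀ y ∈ E, y ∈ L → x * y = y * x)
    (h1 : ∀ y ∈ E, cm x y ∈ L) : x ∈ E :=
  h.chain [L] x hx ⟨hL, fun y hy hy' => mem_bot.2 (cm_eq_one.2 (h0 y hy hy')), h1⟩

theorem c2 (h : Es E) {L M : Subgroup Ω} (hL : Ch E L) (hM : Ch E M) {x : Ω} (hx : Nm E x)
    (h0 : ∀ y ∈ E, y ∈ L → x * y = y * x) (h1 : ∀ y ∈ E, y ∈ M → cm x y ∈ L) (h2 : ∀ y ∈ E, cm x y ∈ M) : x ∈ E :=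
  h.chain [L, M] x hx ⟨hL, fun y hy hy' => mem_bot.2 (cm_eq_one.2 (h0 y hy hy')), hM, h1, h2⟩

theorem c3 (h : Es E) {L M N : Subgroup Ω} (hL : Ch E L) (hM : Ch E M) (hN : Ch E N) {x : Ω} (hx : Nm E x)
    (h0 : ∀ y ∈ E, y ∈ L → x * y = y * x) (h1 : ∀ y ∈ E, y ∈ M → cm x y ∈ L)
    (h2 : ∀ y ∈ E, y ∈ N → cm x y ∈ M) (h3 : ∀ y ∈ E, cm x y ∈ N) : x ∈ E :=
  h.chain [L, M, N] x hx ⟨hL, fun y hy hy' => mem_bot.2 (cm_eq_one.2 (h0 y hy hy')), hM, h1, hN, h2, h3⟩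

/-- Nested centralisers in a characteristic central subgroup are equal. -/
theorem count [Finite Ω] (h : Es E) {L : Subgroup Ω} (hL : Ch E L) (hc : ∀ y ∈ E, y ∈ L → ∀ g ∈ E, g * y = y * g)
    {x x' : Ω} (h1 : Nm E x) (h2 : Nm E x') (h3 : x ∉ E) (h4 : x' ∉ E) (h5 : x * x ∈ E) (h6 : x' * x' ∈ E)
    (hle : ∀ y ∈ E, y ∈ L → x' * y = y * x' → x * y = y * x) :
    ∀ y ∈ E, y ∈ L → x * y = y * x → x' * y = y * x' := by
  obtain ⟨α, e, he, h7⟩ := h.conj x x' h1 h2 h3 h4 h5 h6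
  let A : Set Ω := {y | y ∈ E ∧ y ∈ L ∧ x * y = y * x}
  let B : Set Ω := {y | y ∈ E ∧ y ∈ L ∧ x' * y = y * x'}
  have hBA : B ⊆ A := fun y hy => ⟨hy.1, hy.2.1, hle y hy.1 hy.2.1 hy.2.2⟩
  have hm : Set.MapsTo (afn α) A B := fun y hy => by
    have a1 := afn_mem α hy.1
    have a2 := hL α y hy.1 hy.2.1
    have a3 := h7 y hy.1
    rw [hy.2.2, mul_inv_cancel_right, mul_assoc x', hc _ a1 a2 e he] at a3
    refine ⟨a1, a2, ?_⟩
    calc x' * afn α y = x' * (afn α y * e) * (x' * e)⁻¹ * x' := by group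
      _ = _ := by rw [← a3]
  have := Set.eq_of_subset_of_ncard_le hBA (Set.ncard_le_ncard_of_injOn _ hm ((afn_injOn α).mono fun _ h => h.1))
  exact fun y hy hy' e => (this.ge ⟨hy, hy', e⟩).2.2

/-- If one involution of `N(E)/E` centralises `Ω₁ Z(E)`, all do. -/
theorem cenV [Finite Ω] (h : Es E) {x x' : Ω} (h1 : Nm E x) (h2 : Nm E x') (h3 : x ∉ E) (h4 : x' ∉ E)
    (h5 : x * x ∈ E) (h6 : x' * x' ∈ E) (hx : ∀ v ∈ VV E, x * v = v * x) : ∀ v ∈ VV E, x' * v = v * x' :=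
  fun v hv => h.count (Ch.VV E) (fun _ _ hy => hy.2.2) h1 h2 h3 h4 h5 h6 (fun y _ hy _ => hx y hy) v hv.1 hv (hx v hv)

theorem mem_VV_of_comm (h : Es E) {z : Ω} (h2 : z * z = 1) (hc : ∀ g ∈ E, g * z = z * g) : z ∈ VV E :=
  ⟨h.cen z hc, h2, hc⟩

end Es

theorem es_of_essential [Finite Ω] {F : FusionSystem (⊤ : Subgroup Ω)} (hS : IsPGroup 2 (⊤ : Subgroup Ω))
    (hF : F.IsSaturated 2) {E : Subgroup Ω} (hE : F.IsEssential 2 E) : Es E := by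
  have : Fact (Nat.Prime 2) := ⟨Nat.prime_two⟩
  refine ⟨(essential_lt hS hF hE).ne, fun x hx => SpF.mem_of_comm hE hx, fun l x hx hs => ?_,
    fun x x' h1 h2 h3 h4 h5 h6 => ?_⟩
  · obtain ⟨a1, a2⟩ := hs.getD l ⊥
    refine mem_of_chain hS (isCentric_self hE.1) (radical_of_essential hS hE) (fun i => (⊥ :: l).getD i ⊤)
      (l.length + 1) (by simp) (fun i _ α _ => ?_)
      (fun α _ _ _ y hy h => by rw [mem_bot.1 h, (homOn_afn α).map_one])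
      (mem_normalizerIn_of_conj trivial hx) fun i _ => a2 i
    rcases i with _ | i
    exacts [Ch.bot α, a1 i α]
  · have := finite_mulAut (S := (⊤ : Subgroup Ω)) (P := E) le_top
    obtain ⟨hc, -, _, D, hD⟩ := hE
    have n1 : x ∈ normalizerIn ⊤ E := mem_normalizerIn_of_conj trivial h1
    have n2 : x' ∈ normalizerIn ⊤ E := mem_normalizerIn_of_conj trivial h2
    have hA := autInducedBy_le_autGroup F (le_top (a := E))
    have key : ∀ z (hz : z ∈ normalizerIn ⊤ E), z ∉ E → z * z ∈ E →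
        orderOf (QuotientGroup.mk (s := (Inn E).subgroupOf (F.autGroup E))
          ⟨_, hA (conjAut_mem_autInducedBy hz)⟩) = 2 := fun z hz a1 a2 => by
      refine orderOf_eq_prime ?_ fun e => a1 ((conjAut_mem_inn_iff le_top (isCentric_self hc) hz).1
        (mem_subgroupOf.1 ((QuotientGroup.eq_one_iff _).1 e)))
      rw [← QuotientGroup.mk_pow, QuotientGroup.eq_one_iff]
      refine mem_Inn.2 ⟨z * z, a2, fun y hy => ?_⟩
      rw [afn_apply _ hy]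
      simp [sq, mul_assoc]
    obtain ⟨c, hc'⟩ := isConj_iff.1 (Inv.SE.isConj (Bender.SE_of_SPE hD) (key x n1 h3 h5) (key x' n2 h4 h6))
    obtain ⟨⟨α, hα⟩, rfl⟩ := QuotientGroup.mk_surjective c
    rw [← QuotientGroup.mk_inv, ← QuotientGroup.mk_mul, ← QuotientGroup.mk_mul, eq_comm, QuotientGroup.eq] at hc'
    obtain ⟨e, he, h7⟩ := mem_Inn.1 hc'
    refine ⟨α, e, he, fun y hy => ?_⟩
    have a1 := afn_mem α hy
    have a2 := congrArg (afn (conjAut E x' n2.2)) (h7 _ a1)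
    change afn _ (afn ((conjAut E x' n2.2)⁻¹ * (α * conjAut E x n1.2 * α⁻¹)) _) = _ at a2
    rw [← afn_mul _ _ a1, mul_inv_cancel_left, afn_mul _ _ a1, afn_inv_afn _ hy, afn_mul _ _ hy, afn_conjAut _ hy,
      afn_conjAut _ (mul_mem (mul_mem he a1) (inv_mem he))] at a2
    rw [a2]; group

end Gen

variable {K : Type*} [Field K] [Tw K]

/-- `X₃X₄X₅X₆`, the fourth centre. -/
def Z4 : Subgroup (U K) where
  carrier := {u | u.x1 = 0 ∧ u.y2 = 0 ∧ u.x2 = 0 ∧ u.y4 = 0 ∧ u.y6 = 0 ∧ u.x7 = 0 ∧ u.y8 = 0 ∧ u.x8 = 0}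
  mul_mem' := fun {a b} ⟨h0, h1, h2, h3, h4, h5, h6, h7⟩ ⟨k0, k1, k2, k3, k4, k5, k6, k7⟩ => by
    simp only [Set.mem_ofPred_eq, UE, h0, h1, h2, h3, h4, h5, h6, h7, k0, k1, k2, k3, k4, k5, k6, k7, and_self]
  one_mem' := by simp only [Set.mem_ofPred_eq, UE, and_self]
  inv_mem' := fun {a} ⟨h0, h1, h2, h3, h4, h5, h6, h7⟩ => by
    simp only [Set.mem_ofPred_eq, UE, h0, h1, h2, h3, h4, h5, h6, h7, and_self]

theorem mem_Z4 {u : U K} : u ∈ Z4 ↔ u.x1 = 0 ∧ u.y2 = 0 ∧ u.x2 = 0 ∧ u.y4 = 0 ∧ u.y6 = 0 ∧ u.x7 = 0 ∧ u.y8 = 0 ∧ u.x8 = 0 := Iff.rfl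

/-- `X₂X₃X₄X₅X₆X₇`, the fifth centre. -/
def Z5 : Subgroup (U K) where
  carrier := {u | u.x1 = 0 ∧ u.y2 = 0 ∧ u.y4 = 0 ∧ u.y6 = 0 ∧ u.y8 = 0 ∧ u.x8 = 0}
  mul_mem' := fun {a b} ⟨h0, h1, h2, h3, h4, h5⟩ ⟨k0, k1, k2, k3, k4, k5⟩ => by
    simp only [Set.mem_ofPred_eq, UE, h0, h1, h2, h3, h4, h5, k0, k1, k2, k3, k4, k5, and_self]
  one_mem' := by simp only [Set.mem_ofPred_eq, UE, and_self]
  inv_mem' := fun {a} ⟨h0, h1, h2, h3, h4, h5⟩ => by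
    simp only [Set.mem_ofPred_eq, UE, h0, h1, h2, h3, h4, h5, and_self]

theorem mem_Z5 {u : U K} : u ∈ Z5 ↔ u.x1 = 0 ∧ u.y2 = 0 ∧ u.y4 = 0 ∧ u.y6 = 0 ∧ u.y8 = 0 ∧ u.x8 = 0 := Iff.rfl

/-- `Z₅Y₄Y₆`, the sixth centre. -/
def Z6 : Subgroup (U K) where
  carrier := {u | u.x1 = 0 ∧ u.y2 = 0 ∧ u.y8 = 0 ∧ u.x8 = 0}
  mul_mem' := fun {a b} ⟨h0, h1, h2, h3⟩ ⟨k0, k1, k2, k3⟩ => by
    simp only [Set.mem_ofPred_eq, UE, h0, h1, h2, h3, k0, k1, k2, k3, and_self]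
  one_mem' := by simp only [Set.mem_ofPred_eq, UE, and_self]
  inv_mem' := fun {a} ⟨h0, h1, h2, h3⟩ => by
    simp only [Set.mem_ofPred_eq, UE, h0, h1, h2, h3, and_self]

theorem mem_Z6 {u : U K} : u ∈ Z6 ↔ u.x1 = 0 ∧ u.y2 = 0 ∧ u.y8 = 0 ∧ u.x8 = 0 := Iff.rfl

/-- `Z₆Y₂X₈`, the seventh centre. -/
def Z7 : Subgroup (U K) where
  carrier := {u | u.x1 = 0 ∧ u.y8 = 0}
  mul_mem' := fun {a b} ⟨h0, h1⟩ ⟨k0, k1⟩ => by
    simp only [Set.mem_ofPred_eq, UE, h0, h1, k0, k1, and_self]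
  one_mem' := by simp only [Set.mem_ofPred_eq, UE, and_self]
  inv_mem' := fun {a} ⟨h0, h1⟩ => by
    simp only [Set.mem_ofPred_eq, UE, h0, h1, and_self]

theorem mem_Z7 {u : U K} : u ∈ Z7 ↔ u.x1 = 0 ∧ u.y8 = 0 := Iff.rfl

/-- `Ps X₇ = Z₅Y₄`, the point `∞`. -/
def P7 : Subgroup (U K) where
  carrier := {u | u.x1 = 0 ∧ u.y2 = 0 ∧ u.y6 = 0 ∧ u.y8 = 0 ∧ u.x8 = 0}
  mul_mem' := fun {a b} ⟨h0, h1, h2, h3, h4⟩ ⟨k0, k1, k2, k3, k4⟩ => by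
    simp only [Set.mem_ofPred_eq, UE, h0, h1, h2, h3, h4, k0, k1, k2, k3, k4, and_self]
  one_mem' := by simp only [Set.mem_ofPred_eq, UE, and_self]
  inv_mem' := fun {a} ⟨h0, h1, h2, h3, h4⟩ => by
    simp only [Set.mem_ofPred_eq, UE, h0, h1, h2, h3, h4, and_self]

theorem mem_P7 {u : U K} : u ∈ P7 ↔ u.x1 = 0 ∧ u.y2 = 0 ∧ u.y6 = 0 ∧ u.y8 = 0 ∧ u.x8 = 0 := Iff.rfl

/-- `Ps X₁`, the point `0`. -/
def P1 : Subgroup (U K) where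
  carrier := {u | u.y2 = 0 ∧ u.y6 = 0 ∧ u.x7 = 0 ∧ u.y8 = 0 ∧ u.x8 = 0}
  mul_mem' := fun {a b} ⟨h0, h1, h2, h3, h4⟩ ⟨k0, k1, k2, k3, k4⟩ => by
    simp only [Set.mem_ofPred_eq, UE, h0, h1, h2, h3, h4, k0, k1, k2, k3, k4, and_self]
  one_mem' := by simp only [Set.mem_ofPred_eq, UE, and_self]
  inv_mem' := fun {a} ⟨h0, h1, h2, h3, h4⟩ => by
    simp only [Set.mem_ofPred_eq, UE, h0, h1, h2, h3, h4, and_self]

theorem mem_P1 {u : U K} : u ∈ P1 ↔ u.y2 = 0 ∧ u.y6 = 0 ∧ u.x7 = 0 ∧ u.y8 = 0 ∧ u.x8 = 0 := Iff.rfl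

/-- `Q ∩ R = U₂ ⋯ U₇`. -/
def D2 : Subgroup (U K) where
  carrier := {u | u.x1 = 0 ∧ u.y8 = 0 ∧ u.x8 = 0}
  mul_mem' := fun {a b} ⟨h0, h1, h2⟩ ⟨k0, k1, k2⟩ => by
    simp only [Set.mem_ofPred_eq, UE, h0, h1, h2, k0, k1, k2, and_self]
  one_mem' := by simp only [Set.mem_ofPred_eq, UE, and_self]
  inv_mem' := fun {a} ⟨h0, h1, h2⟩ => by
    simp only [Set.mem_ofPred_eq, UE, h0, h1, h2, and_self]

theorem mem_D2 {u : U K} : u ∈ D2 ↔ u.x1 = 0 ∧ u.y8 = 0 ∧ u.x8 = 0 := Iff.rfl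

/-- `U₃ ⋯ U₈`. -/
def D3 : Subgroup (U K) where
  carrier := {u | u.x1 = 0 ∧ u.y2 = 0 ∧ u.x2 = 0}
  mul_mem' := fun {a b} ⟨h0, h1, h2⟩ ⟨k0, k1, k2⟩ => by
    simp only [Set.mem_ofPred_eq, UE, h0, h1, h2, k0, k1, k2, and_self]
  one_mem' := by simp only [Set.mem_ofPred_eq, UE, and_self]
  inv_mem' := fun {a} ⟨h0, h1, h2⟩ => by
    simp only [Set.mem_ofPred_eq, UE, h0, h1, h2, and_self]

theorem mem_D3 {u : U K} : u ∈ D3 ↔ u.x1 = 0 ∧ u.y2 = 0 ∧ u.x2 = 0 := Iff.rfl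

end Cfsg.Agent.RFS
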