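import Cfsg.Agent.RFS.Def
import Cfsg.Agent.Chev.TwAutF4

/-!
The groups `²F₄(q) Φ`.
Read `RFS/Def` (and the commutator table at the top of `RFS/Es`, the signatures of `RFS/Inv`, `RFS/Ker`).  Coordinates:
`simp only [mem_X, cm, UE, h..] <;> grind`; `afn_cm`, `homOn_afn`, `afn_res`, `afn_cQ`, `afn_cR`, `mem_OQ`, `mem_OR`, `decomp`.

-/

set_option autoImplicit false
set_option linter.unusedSectionVars false
set_option linter.unusedSimpArgs false
set_option maxRecDepth 20000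

namespace Cfsg.Agent.RFS

open Subgroup Cfsg.Agent.Oct Cfsg.Agent.S2F Cfsg.Agent.Fus

universe u

variable {K : Type u} [Field K] [Tw K] [Finite K]

section Aux

open Cfsg.Lie Cfsg.Agent.Chev

theorem md_word (f : K ≃+* K) (l : List (ℕ × K)) :
    fieldAut chevF4 K f (word (xC chevF4 K) l) = word (xC chevF4 K) (l.map fun p => (p.1, f p.2)) := by
  induction l with
  | nil => simp
  | cons p l ih => rw [List.map_cons, word_cons, word_cons, map_mul, ih, fieldAut_xC]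

theorem md_oprod (f : K ≃+* K) (l : List ℕ) :
    fieldAut chevF4 K f (oprod (xC chevF4 K) l 1) = oprod (xC chevF4 K) l 1 := by
  induction l with
  | nil => simp
  | cons r l ih => rw [oprod_cons, map_mul, ih, fieldAut_xC, Pi.one_apply, map_one]

theorem md_odd (Φ : Subgroup (K ≃+* K)) : ¬ 2 ∣ Nat.card Φ := by
  haveI : Finite (K ≃+* K) := Finite.of_injective (fun f : K ≃+* K => (f : K → K)) DFunLike.coe_injective
  haveI : Fact (Nat.Prime 2) := ⟨Nat.prime_two⟩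
  intro h
  obtain ⟨f, hf⟩ := exists_prime_orderOf_dvd_card' 2 h
  let s : K ≃+* K := RingEquiv.ofBijective (σ : K →+* K) (Finite.injective_iff_bijective.1 σ_inj)
  have hs : ∀ j t, ((s * s) ^ j) t = t ^ 2 ^ j := fun j => by
    induction j with
    | zero => simp
    | succ j ih =>
      intro t
      rw [pow_succ', RingAut.mul_apply, RingAut.mul_apply, ih, pow_succ, pow_mul]
      exact σσ _
  have surj : Function.Surjective fun g : K ≃+* K => g * g := fun g => by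
    obtain ⟨j, hj⟩ := exists_frob g
    refine ⟨s ^ j, RingEquiv.ext fun t => ?_⟩
    show (s ^ j * s ^ j) t = g t
    rw [← (Commute.refl s).mul_pow, hs, hj]
  have h1 : (f : K ≃+* K) = 1 := Finite.injective_iff_surjective.2 surj (by
    show (f : K ≃+* K) * f = 1 * 1
    rw [one_mul, ← coe_mul, ← sq, ← hf, pow_orderOf_eq_one, coe_one])
  rw [show f = 1 from Subtype.ext h1, orderOf_one] at hf
  exact absurd hf (by decide)

theorem md_ζη (κ ν : Kˣ) (f : K ≃+* K) (u : U K) :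
    ζ κ (η ν (tf 1 1 f u)) = tf (κ * ν⁻¹ * (σu ν)⁻¹) (σu ν) f u := by
  have h1 := ν.ne_zero
  have h2 := σu_ne ν
  ext <;> simp only [ζ, η, tf_apply, tfn, map_mul, map_one, σσ, Units.val_mul, Units.val_one,
    σu_val, Units.val_inv_eq_inv_val, map_inv₀, map_pow] <;> field_simp

variable [Fintype K] (S : ChevSys rootTableF4 (xC chevF4 K))

local notation "TT" => TwistData.T (TwMap.data (F4.tw S θ hθ0))

theorem md_NN (f : K ≃+* K) (u : U K) : fieldAut chevF4 K f (NN S u) = NN S (tf 1 1 f u) := by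
  rw [NN_eq, md_word, NN_eq]
  congr 1
  simp only [Oct.nw, List.map, tf_apply, tfn, map_add, map_mul, fσ, Units.val_one, map_one, one_pow, one_mul]

theorem md_T (f : K ≃+* K) {x : chevF4.group K} (hx : x ∈ TT) : fieldAut chevF4 K f x ∈ TT := by
  refine TT_le S (P := (TT).comap (fieldAut chevF4 K f).toMonoidHom) (fun u => ?_) ?_ (fun t => ?_) hx
  · show fieldAut chevF4 K f _ ∈ TT
    rw [md_NN]
    exact NN_T S _
  · show fieldAut chevF4 K f _ ∈ TT
    rw [ww, md_oprod]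
    exact ww_T S
  · show fieldAut chevF4 K f _ ∈ TT
    have : fieldAut chevF4 K f (n1 K) = n1 K := by rw [n1, md_oprod]
    rw [map_mul, map_mul, map_inv, this, md_NN]
    exact mul_mem (mul_mem (n1_T S) (NN_T S _)) (inv_mem (n1_T S))

theorem md_nor {x : chevF4.group K} (hx : x ∈ TT) {φ : U K → U K} (h : ∀ u, x * NN S u * x⁻¹ = NN S (φ u)) :
    ∃ s κ ν, x = NN S s * (ll0 S κ * hh0 S ν) := by
  have inj : Function.Injective φ := fun a b e => NN_inj S (by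
    have := (h a).trans ((congrArg (NN S) e).trans (h b).symm)
    simpa using this)
  have hz : φ (X4 1) ∈ Zs := mem_Zs_of_comm fun v => by
    obtain ⟨v, rfl⟩ := Finite.surjective_of_injective inj v
    refine NN_inj S ?_
    rw [map_mul, map_mul, ← h, ← h]
    calc _ = x * (NN S (X4 1) * NN S v) * x⁻¹ := by group
      _ = _ := by rw [← N_z]; group
  have h0 : (φ (X4 1)).x4 ≠ 0 := fun e => by
    have h1 := h (X4 1)
    rw [eq_X4 hz, e, show X4 (0 : K) = 1 from rfl, map_one, conj_eq_one_iff, map_eq_one_iff _ (NN_inj S)] at h1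
    exact one_ne_zero (congrArg U.x4 h1)
  obtain ⟨κ, hκ⟩ := exists_l4 h0
  have h2 : ll0 S κ * NN S (X4 1) * (ll0 S κ)⁻¹ = x * NN S (X4 1) * x⁻¹ := by
    rw [ll_NN, h, eq_X4 hz, ← hκ]
    exact congrArg _ (by ext <;> simp only [ζ, UE])
  have hC : (ll0 S κ)⁻¹ * x ∈ (loc0 S).C := ⟨(TT).mul_mem (inv_mem (ll_T S κ)) hx, mem_centralizer_singleton_iff.2 (by
    calc _ = (ll0 S κ)⁻¹ * (x * NN S (X4 1) * x⁻¹) * x := by group
      _ = _ := by rw [← h2]; group)⟩
  obtain ⟨s, ν, e⟩ := Loc.inB_8 hC (u := X8 1) (u' := ζ κ⁻¹ (φ (X8 1))) (by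
    show (ll0 S κ)⁻¹ * x * NN S (X8 1) * ((ll0 S κ)⁻¹ * x)⁻¹ = NN S _
    rw [← ll_NN, ← h, map_inv]
    group) fun e => one_ne_zero (α := K) e.2
  refine ⟨ζ κ s, κ, ν, ?_⟩
  have e' : (ll0 S κ)⁻¹ * x = NN S s * hh0 S ν := e
  rw [← ll_NN]
  calc x = ll0 S κ * ((ll0 S κ)⁻¹ * x) := by group
    _ = _ := by rw [e']; group

theorem md_lh (κ ν : Kˣ) (u : U K) :
    ll0 S κ * hh0 S ν * NN S u * (ll0 S κ * hh0 S ν)⁻¹ = NN S (ζ κ (η ν u)) := by
  rw [← ll_NN, ← hh_NN]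
  group

/-- The group `²F₄(q) Φ`. -/
def mdG (Φ : Subgroup (K ≃+* K)) : Subgroup (chevF4.group K ⋊[fieldAut chevF4 K] (K ≃+* K)) where
  carrier := {x | x.left ∈ TT ∧ x.right ∈ Φ}
  one_mem' := ⟨one_mem _, one_mem _⟩
  mul_mem' {a b} ha hb := ⟨mul_mem ha.1 (md_T S _ hb.1), mul_mem ha.2 hb.2⟩
  inv_mem' {a} ha := ⟨md_T S _ (inv_mem ha.1), inv_mem ha.2⟩

theorem md_card (Φ : Subgroup (K ≃+* K)) : Nat.card (mdG S Φ) = Nat.card TT * Nat.card Φ := by
  rw [← Nat.card_prod]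
  exact Nat.card_congr
    { toFun := fun x => (⟨x.1.left, x.2.1⟩, ⟨x.1.right, x.2.2⟩)
      invFun := fun p => ⟨⟨p.1, p.2⟩, p.1.2, p.2.2⟩
      left_inv := fun _ => rfl
      right_inv := fun _ => rfl }

theorem md_conj (g : chevF4.group K ⋊[fieldAut chevF4 K] (K ≃+* K)) (y : chevF4.group K) :
    g * SemidirectProduct.inl y * g⁻¹ =
      SemidirectProduct.inl (g.left * fieldAut chevF4 K g.right y * g.left⁻¹) := by
  conv_lhs => rw [← SemidirectProduct.inl_left_mul_inr_right g]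
  rw [map_mul, map_mul, SemidirectProduct.inl_aut, map_inv, map_inv]
  group

end Aux

open Cfsg.Lie Cfsg.Agent.Chev in
/-- PROOF.  `S = sys K`, `Γ = chevF4.group K`, `TT = (F4.tw S θ hθ0).data.T` (see `S2F/Mod1`, `Oct/Mod1`, `Oct/Mod2`, `S2F/Setup`;
`Fintype.ofFinite`).  `fieldAut chevF4 K f (NN S u) = NN S (tf 1 1 f u)` (`NN_eq`, `fieldAut_xC`, `fσ`), `fieldAut` fixes `ww`, `n1`
(`fieldAut_oprod_int` in `Chev/TwCent`, or `oprod` of `xx r 1`), so it maps `TT` into `TT` (`TT_le`).  `G` is the subgroup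
`{x | x.left ∈ TT ∧ x.right ∈ Φ}` of `Γ ⋊[fieldAut chevF4 K] (K ≃+* K)`, `ι u = inl (NN S u)`.  The index is
`(NN S).range.relIndex TT * card Φ`, odd by `syl0` (`SylIn.not_dvd_relIndex`) and since `K ≃+* K` has odd order (an `f` with `f * f = 1` is
`1`: `odd_TF` in `RFS/Ker` applied to `tf 1 1 f`, import it).  `w = inl ww`, `n = inl n1` (`ww_NN`, `n1_NN`); `tf a b 1 = ζ κ ∘ η ν` with
`ν = θ b`, `κ = a ν σ ν` (`ll_NN`, `hh_NN`).  Last item: `g = inl x * inr f`; `x ∈ TT` normalises `NN S (U K)` through `φ' = φ ∘ tf 1 1 f⁻¹`;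
`φ' (X4 1)` is central, `= X4 s`, `s ≠ 0` (`φ'` is an injective, so bijective, homomorphism; `mem_Zs_of_comm`); `exists_l4` gives `κ` with
`x' = (ll0 κ)⁻¹ x ∈ (loc0 S).C`; `Loc.inB_8` for `X8 1` (its image is not in the characteristic subgroup `Qs`) gives `x' = NN u * hh0 ν`. -/
theorem exists_mod (Φ : Subgroup (K ≃+* K)) : ∃ (G : Type u) (_ : Group G) (_ : Finite G) (ι : U K →* G),
    Function.Injective ι ∧ ¬ 2 ∣ ι.range.index ∧ (∃ w, ∀ u ∈ Qs, w * ι u * w⁻¹ = ι (ω u)) ∧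
    (∃ n, ∀ u ∈ Rs, n * ι u * n⁻¹ = ι (ψ u)) ∧
    (∀ a b : Kˣ, ∀ f ∈ Φ, ∃ g, ∀ u, g * ι u * g⁻¹ = ι (tf a b f u)) ∧
    ∀ (g : G) (φ : U K → U K), (∀ u, g * ι u * g⁻¹ = ι (φ u)) →
      ∃ (s : U K) (a b : Kˣ), ∃ f ∈ Φ, ∀ u, φ u = s * tf a b f u * s⁻¹ := by
  haveI := Fintype.ofFinite K
  haveI : Fact (Nat.Prime 2) := ⟨Nat.prime_two⟩
  haveI : Finite (K ≃+* K) := Finite.of_injective (fun f : K ≃+* K => (f : K → K)) DFunLike.coe_injective
  let S := sys K
  haveI := S.finite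
  haveI : Finite (chevF4.group K ⋊[fieldAut chevF4 K] (K ≃+* K)) :=
    Finite.of_equiv _ SemidirectProduct.equivProd.symm
  let ι : U K →* mdG S Φ :=
    (SemidirectProduct.inl.comp (NN S)).codRestrict _ fun u => ⟨NN_T S u, one_mem _⟩
  have hι : ∀ u, (ι u).1 = SemidirectProduct.inl (NN S u) := fun _ => rfl
  have inj : Function.Injective ι := fun a b e =>
    NN_inj S (SemidirectProduct.inl_injective ((hι a).symm.trans ((congrArg Subtype.val e).trans (hι b))))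
  have key : ∀ (g : mdG S Φ) (u v : U K), g * ι u * g⁻¹ = ι v ↔
      g.1.left * NN S (tf 1 1 g.1.right u) * g.1.left⁻¹ = NN S v := fun g u v => by
    rw [Subtype.ext_iff, coe_mul, coe_mul, coe_inv, hι, hι, md_conj, md_NN,
      SemidirectProduct.inl_injective.eq_iff]
  refine ⟨mdG S Φ, inferInstance, inferInstance, ι, inj, ?_, ?_, ?_, ?_, ?_⟩
  · have h1 := ι.range.card_mul_index
    have h2 := ((NN S).range.subgroupOf (TwistData.T (TwMap.data (F4.tw S θ hθ0)))).card_mul_index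
    rw [Nat.card_congr (subgroupOfEquivOfLe (by rintro _ ⟨u, rfl⟩; exact NN_T S u)).toEquiv,
      ← Nat.card_congr (MonoidHom.ofInjective (NN_inj S)).toEquiv] at h2
    rw [md_card, ← h2, ← Nat.card_congr (MonoidHom.ofInjective inj).toEquiv, mul_assoc,
      mul_right_inj' Nat.card_pos.ne'] at h1
    rw [h1]
    exact fun h => (Nat.prime_two.dvd_mul.1 h).elim (syl0 S).not_dvd_relIndex (md_odd Φ)
  · refine ⟨⟨⟨ww K, 1⟩, ww_T S, one_mem _⟩, fun u hu => (key _ _ _).2 ?_⟩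
    show ww K * NN S (tf 1 1 1 u) * (ww K)⁻¹ = _
    rw [tf_one]
    exact ww_NN S hu
  · refine ⟨⟨⟨n1 K, 1⟩, n1_T S, one_mem _⟩, fun u hu => (key _ _ _).2 ?_⟩
    show n1 K * NN S (tf 1 1 1 u) * (n1 K)⁻¹ = _
    rw [tf_one]
    exact n1_NN S hu
  · intro a b f hf
    obtain ⟨ν, hν⟩ := exists_lσ b.ne_zero
    obtain rfl : σu ν = b := Units.ext hν
    refine ⟨⟨⟨ll0 S (a * σu ν * ν) * hh0 S ν, f⟩, mul_mem (ll_T S _) (hh_T S _), hf⟩,
      fun u => (key _ _ _).2 ?_⟩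
    show ll0 S _ * hh0 S ν * NN S (tf 1 1 f u) * (ll0 S _ * hh0 S ν)⁻¹ = _
    rw [md_lh, md_ζη, mul_inv_cancel_right, mul_inv_cancel_right]
  · intro g φ h
    simp only [key] at h
    obtain ⟨s, κ, ν, e⟩ := md_nor S g.2.1 (φ := fun v => φ ((tf 1 1 g.1.right)⁻¹ v)) fun v => by
      rw [← h, MulAut.apply_inv_self]
    refine ⟨s, κ * ν⁻¹ * (σu ν)⁻¹, σu ν, g.1.right, g.2.2, fun u => NN_inj S ?_⟩
    rw [← h, e, ← md_ζη, map_mul, map_mul, map_inv, ← md_lh]
    group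

end Cfsg.Agent.RFS
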