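import Cfsg.Agent.RFS.Ker

/-!
The action on the lines of `R / P0`.
Read `RFS/Def` (and the commutator table at the top of `RFS/Es`, the signatures of `RFS/Inv`, `RFS/Ker`).  Coordinates:
`simp only [mem_X, cm, UE, h..] <;> grind`; `afn_cm`, `homOn_afn`, `afn_res`, `afn_cQ`, `afn_cR`, `mem_OQ`, `mem_OR`, `decomp`.

-/

set_option autoImplicit false
set_option linter.unusedSectionVars false
set_option linter.unusedSimpArgs false
set_option maxRecDepth 20000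

namespace Cfsg.Agent.RFS

open Subgroup Cfsg.Agent.Oct Cfsg.Agent.S2F Cfsg.Agent.Fus

variable {K : Type*} [Field K] [Tw K] [Finite K] {A₀ : Subgroup (MulAut (U K))}
  {A : Subgroup (MulAut (Qs : Subgroup (U K)))} {B : Subgroup (MulAut (Rs : Subgroup (U K)))}

namespace LR

theorem cj2 (g : U K) {x : U K} (hx : x ∈ Rs) : (afn (cR g) x).y2 = x.y2 + g.x1 * x.y8 := by
  have h : x.x1 = 0 := hx
  rw [afn_cR g hx]
  simp only [UE, h]
  grind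

theorem cj8 (g : U K) {x : U K} (hx : x ∈ Rs) : (afn (cR g) x).y8 = x.y8 := by
  rw [afn_cR g hx]
  simp only [UE]
  grind

theorem cmY {x v : U K} (hx : x ∈ Rs) (hv : v ∈ Ys) : cm x v = X4 (x.y2 * v.x5) * X6 (x.y8 * v.x5) := by
  have h : x.x1 = 0 := hx
  rw [mem_Ys] at hv
  ext <;> simp only [cm, UE, h, hv] <;> grind

theorem dv2 {x y : U K} (hx : x ∈ Rs) (hy : y ∈ Rs) : (x⁻¹ * y).y2 = x.y2 + y.y2 := by
  have h : x.x1 = 0 := hx
  have h' : y.x1 = 0 := hy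
  simp only [UE, h, h']

theorem dv8 (x y : U K) : (x⁻¹ * y).y8 = x.y8 + y.y8 := by simp only [UE]

theorem add0 {a b : K} : a + b = 0 ↔ b = a := by
  have := Tw.ch (K := K)
  exact CharTwo.add_eq_zero.trans eq_comm

theorem afn_dv (α : MulAut (Rs : Subgroup (U K))) {x y : U K} (hx : x ∈ Rs) (hy : y ∈ Rs) :
    afn α (x⁻¹ * y) = (afn α x)⁻¹ * afn α y := by
  rw [homOn_afn α _ (inv_mem hx) _ hy, (homOn_afn α).map_inv hx]

theorem zero (α : MulAut (Rs : Subgroup (U K))) {x : U K} (hx : x ∈ Rs) (h2 : x.y2 = 0) (h8 : x.y8 = 0) :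
    (afn α x).y2 = 0 ∧ (afn α x).y8 = 0 := (chR_P0 α x hx ⟨hx, h2, h8⟩).2

theorem cong (α : MulAut (Rs : Subgroup (U K))) {x y : U K} (hx : x ∈ Rs) (hy : y ∈ Rs) (h2 : y.y2 = x.y2)
    (h8 : y.y8 = x.y8) : (afn α y).y2 = (afn α x).y2 ∧ (afn α y).y8 = (afn α x).y8 := by
  have := zero α (mul_mem (inv_mem hx) hy) (by rw [dv2 hx hy, add0, h2]) (by rw [dv8, add0, h8])
  rwa [afn_dv α hx hy, dv2 (afn_mem α hx) (afn_mem α hy), dv8, add0, add0] at this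

theorem mY2 (c : K) : Y2 c ∈ (Rs : Subgroup (U K)) := rfl
theorem mY8 (c : K) : Y8 c ∈ (Rs : Subgroup (U K)) := rfl
theorem mX5 (c : K) : X5 c ∈ (Rs : Subgroup (U K)) := rfl
theorem yX5 (c : K) : X5 c ∈ (Ys : Subgroup (U K)) := by simp only [mem_Ys, UE, and_self]

theorem cR_mem (h₀ : SA A₀) (L : Lc A₀ Rs B) (g : U K) : cR g ∈ B := L.res _ (h₀.conj g)

end LR

open LR

/-- PROOF.  `cm x (X5 e) = X4 (x.y2 e) * X6 (x.y8 e)`, more generally with `v ∈ Ys`, `e = v.x5`.  If `x ∈ P0` use `chR_P0`.  Otherwise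
`(y.y2, y.y8) = l (x.y2, x.y8)`, `cm y (X5 1) = cm x (X5 l)`; apply `α`; `(α (X5 1)).x5 ≠ 0` (`chR_Ys`, and `chR_Ws` for `α⁻¹`). -/
theorem lineR (α : MulAut (Rs : Subgroup (U K))) {x y : U K} (hx : x ∈ Rs) (hy : y ∈ Rs) (h : x.y2 * y.y8 = x.y8 * y.y2) :
    (afn α x).y2 * (afn α y).y8 = (afn α x).y8 * (afn α y).y2 := by
  by_cases h0 : x.y2 = 0 ∧ x.y8 = 0
  · obtain ⟨a, b⟩ := zero α hx h0.1 h0.2
    rw [a, b, zero_mul, zero_mul]
  obtain ⟨l, l2, l8⟩ : ∃ l, y.y2 = x.y2 * l ∧ y.y8 = x.y8 * l := by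
    by_cases e : x.y2 = 0
    · have e' : x.y8 ≠ 0 := fun a => h0 ⟨e, a⟩
      refine ⟨y.y8 / x.y8, ?_, by field_simp⟩
      rw [e, zero_mul] at h ⊢
      exact (mul_eq_zero.1 h.symm).resolve_left e'
    · exact ⟨y.y2 / x.y2, by field_simp, by field_simp; rw [mul_comm, h]⟩
  have e : cm y (X5 1) = cm x (X5 l) := by
    rw [cmY hy (yX5 1), cmY hx (yX5 l), l2, l8]
    simp only [UE]
  have a1 := chR_Ys α _ (mX5 1) (yX5 1)
  have e1 : (afn α (X5 1)).x5 ≠ 0 := fun e => by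
    have := chR_Ws α⁻¹ _ (afn_mem α (mX5 1)) (by rw [mem_Ys] at a1; simp only [mem_Ws, a1, e, and_self])
    rw [afn_inv_afn _ (mX5 1), mem_Ws] at this
    exact one_ne_zero this.2.2.2.2.2.1
  have e2 := congrArg (afn α) e
  rw [afn_cm α hy (mX5 1), afn_cm α hx (mX5 l), cmY (afn_mem α hy) a1,
    cmY (afn_mem α hx) (chR_Ys α _ (mX5 l) (yX5 l))] at e2
  have e4 := congrArg U.x4 e2
  have e6 := congrArg U.x6 e2
  simp only [UE] at e4 e6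
  refine mul_right_cancel₀ e1 ?_
  rw [mul_assoc, e6, mul_assoc, e4]
  ring

/-- PROOF.  `α⁻¹` has the same property (`lineR`, or finiteness).  `N = {β ∈ B | ∀ x ∈ Rs, (β x).y8 = x.y8 ∧ (x.y8 = 0 → (β x).y2 = x.y2)}`
is a subgroup containing `Tn Rs`, normalised by `α` (use `chR_P0`: the conditions say `x⁻¹ β x` has `y8 = 0`, resp. lies in `P0`), and
`β ^ 2 ∈ OR K`, so it is a `2`-group.  `Lc.ext'`. -/
theorem extR (h₀ : SA A₀) (L : Lc A₀ Rs B) {α : MulAut (Rs : Subgroup (U K))} (hα : α ∈ B)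
    (h : ∀ x ∈ Rs, x.y8 = 0 → (afn α x).y8 = 0) : ∃ φ ∈ A₀, rR φ = α := by
  have h' : ∀ x ∈ Rs, x.y8 = 0 → (afn α⁻¹ x).y8 = 0 := fun x hx e => by
    have := lineR α⁻¹ (afn_mem α (mY2 1)) hx (by rw [e, h _ (mY2 1) rfl, mul_zero, zero_mul])
    rw [afn_inv_afn _ (mY2 1)] at this
    simpa only [UE] using this
  let N : Subgroup (MulAut (Rs : Subgroup (U K))) :=
    { carrier := {β | β ∈ B ∧ ∀ x ∈ Rs, (afn β x).y8 = x.y8 ∧ (x.y8 = 0 → (afn β x).y2 = x.y2)}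
      one_mem' := ⟨one_mem _, fun x _ => by simp [afn_one]⟩
      mul_mem' := fun {a b} ha hb => ⟨mul_mem ha.1 hb.1, fun x hx => by
        have a1 := ha.2 _ (afn_mem b hx)
        have a2 := hb.2 _ hx
        rw [afn_mul _ _ hx]
        exact ⟨a1.1.trans a2.1, fun e => (a1.2 (a2.1.trans e)).trans (a2.2 e)⟩⟩
      inv_mem' := fun {a} ha => ⟨inv_mem ha.1, fun x hx => by
        have a1 := ha.2 _ (afn_mem a⁻¹ hx)
        rw [afn_afn_inv _ hx] at a1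
        exact ⟨a1.1.symm, fun e => (a1.2 (a1.1.symm.trans e)).symm⟩⟩ }
  refine L.ext' (N := N) (fun β => ?_) ?_ (fun β hβ => hβ.1) hα fun t ht =>
    ⟨mul_mem (mul_mem hα ht.1) (inv_mem hα), fun x hx => ?_⟩
  · obtain ⟨k, hk⟩ := isPGroup_OR ⟨β.1 * β.1, mem_OR.2 fun x hx => by
      have m := afn_mem β.1 hx
      have a1 := (β.2.2 _ (mul_mem (inv_mem hx) m)).2 (by rw [dv8, add0, (β.2.2 x hx).1])
      rw [afn_dv _ hx m, dv2 m (afn_mem _ m), dv2 hx m, add_comm, add_left_inj] at a1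
      rw [afn_mul _ _ hx]
      exact ⟨a1, (β.2.2 _ m).1.trans (β.2.2 x hx).1⟩⟩
    exact ⟨k + 1, Subtype.ext (by simpa [pow_succ', pow_mul, sq] using congrArg Subtype.val hk)⟩
  · rintro _ ⟨g, rfl⟩
    exact ⟨cR_mem h₀ L g, fun x hx => ⟨cj8 g hx, fun e => (cj2 g hx).trans (by rw [e, mul_zero, add_zero])⟩⟩
  · have m := afn_mem α⁻¹ hx
    have m' := afn_mem t m
    rw [afn_mul _ _ hx, afn_mul _ _ m]
    refine ⟨?_, fun e => ?_⟩
    · have := h _ (mul_mem (inv_mem m) m') (by rw [dv8, add0, (ht.2 _ m).1])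
      rwa [afn_dv _ m m', afn_afn_inv _ hx, dv8, add0] at this
    · have := (cong α m m' ((ht.2 _ m).2 (h' x hx e)) (ht.2 _ m).1).1
      rwa [afn_afn_inv _ hx] at this

theorem extR' (h₀ : SA A₀) (L : Lc A₀ Rs B) {α : MulAut (Rs : Subgroup (U K))} (hα : α ∈ B)
    (h : (afn α (Y2 1)).y8 = 0) : ∃ φ ∈ A₀, rR φ = α := by
  refine extR h₀ L hα fun x hx e => ?_
  have := lineR α (mY2 1) hx (by simp only [UE, e])
  rw [h, zero_mul] at this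
  refine (mul_eq_zero.1 this).resolve_left fun a => ?_
  have := (zero α⁻¹ (afn_mem α (mY2 1)) a h).1
  rw [afn_inv_afn _ (mY2 1)] at this
  exact one_ne_zero this

theorem LR.kill (α : MulAut (Rs : Subgroup (U K))) (h : (afn α (Y2 1)).y8 ≠ 0) :
    ∃ t, (afn (cR (X1 t) * α) (Y2 1)).y2 = 0 :=
  ⟨(afn α (Y2 1)).y2 / (afn α (Y2 1)).y8, by
    rw [afn_mul _ _ (mY2 1), cj2 _ (afn_mem α (mY2 1)), add0]
    exact div_mul_cancel₀ _ h⟩

/-- PROOF.  If `(α (Y2 1)).y8 = 0` then (`lineR`) `extR` applies.  Otherwise choose `t` with `(X1 t * α (Y2 1) * (X1 t)⁻¹).y2 = 0`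
(it is `y2 + t y8`); then `ψR K * cR (X1 t) * α` maps `Y2 1` to an element with `y8 = 0` (`ψ_y8`). -/
theorem genR (h₀ : SA A₀) (L : Lc A₀ Rs B) (hψ : ψR K ∈ B) {α : MulAut (Rs : Subgroup (U K))} (hα : α ∈ B) :
    ∃ φ ∈ A₀, α = rR φ ∨ ∃ g, α = cR g * ψR K * rR φ := by
  by_cases h : (afn α (Y2 1)).y8 = 0
  · obtain ⟨φ, h1, h2⟩ := extR' h₀ L hα h
    exact ⟨φ, h1, .inl h2.symm⟩
  obtain ⟨t, e⟩ := kill α h
  obtain ⟨φ, h1, h2⟩ := extR' h₀ L (mul_mem hψ (mul_mem (cR_mem h₀ L (X1 t)) hα)) (by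
    rw [afn_mul _ _ (mY2 1), afn_ψR (afn_mem _ (mY2 1)), ψ_y8, e])
  refine ⟨φ, h1, .inr ⟨(X1 t)⁻¹, ?_⟩⟩
  rw [h2, mul_assoc, ← mul_assoc (ψR K), ψR_sq, one_mul, cR, map_inv, map_inv, inv_mul_cancel_left]

/-- PROOF.  `Lc.exists_not_res` and `extR` give `α ∈ B` with `(α (Y2 1)).y8 ≠ 0`; `a = cR (X1 t) * α` maps `{y8 = 0}` into `{y2 = 0}` and
`a⁻¹` maps `{y2 = 0}` into `{y8 = 0}` (`lineR`).  `τ s = a * cR (X1 s) * a⁻¹ ∈ B` has `(τ x).y2 = x.y2`, and `(τ x).y8 = x.y8` if `x.y2 = 0`.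
With `l s = (τ s (Y2 1)).y8`, `lineR` gives `(τ s x).y8 = x.y8 + l s * x.y2`.  `l` is injective (`l s = l s'` gives
`τ s * (τ s')⁻¹ ∈ OR K`, so `cR (X1 s * (X1 s')⁻¹) ∈ OR K`, test `Y8 1`), hence surjective.  `μ = cR (X1 (d : K)) * τ s * cR (X1 (d : K))`, `l s = d⁻¹`. -/
theorem hua (h₀ : SA A₀) (L : Lc A₀ Rs B) (d : Kˣ) :
    ∃ μ ∈ B, ∀ x ∈ Rs, (afn μ x).y2 = d * x.y8 ∧ (afn μ x).y8 = (d⁻¹ : Kˣ) * x.y2 := by
  obtain ⟨α, hα, hn⟩ := L.exists_not_res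
  have h : (afn α (Y2 1)).y8 ≠ 0 := fun e => hn (extR' h₀ L hα e)
  obtain ⟨t, e2⟩ := kill α h
  have e8 : (afn (cR (X1 t) * α) (Y2 1)).y8 ≠ 0 := by
    rwa [afn_mul _ _ (mY2 1), cj8 _ (afn_mem α (mY2 1))]
  have ha := mul_mem (cR_mem h₀ L (X1 t)) hα
  generalize cR (X1 t) * α = a at e2 e8 ha
  have A1 : ∀ x ∈ Rs, x.y8 = 0 → (afn a x).y2 = 0 := fun x hx e => by
    have := lineR a (mY2 1) hx (by simp only [UE, e])
    rw [e2, zero_mul] at this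
    exact (mul_eq_zero.1 this.symm).resolve_left e8
  have A2 : ∀ x ∈ Rs, x.y2 = 0 → (afn a⁻¹ x).y8 = 0 := fun x hx e => by
    have := lineR a⁻¹ (afn_mem a (mY2 1)) hx (by rw [e, e2, mul_zero, zero_mul])
    rw [afn_inv_afn _ (mY2 1)] at this
    simpa only [UE] using this
  let τ := fun s : K => a * cR (X1 s) * a⁻¹
  have T0 : ∀ s, ∀ x ∈ Rs, afn (τ s) x = afn a (afn (cR (X1 s)) (afn a⁻¹ x)) := fun s x hx => by
    rw [afn_mul _ _ hx, afn_mul _ _ (afn_mem _ hx)]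
  have T2 : ∀ s, ∀ x ∈ Rs, (afn (τ s) x).y2 = x.y2 := fun s x hx => by
    have m := afn_mem a⁻¹ hx
    have m' := afn_mem (cR (X1 s)) m
    have := A1 _ (mul_mem (inv_mem m) m') (by rw [dv8, add0, cj8 _ m])
    rwa [afn_dv _ m m', afn_afn_inv _ hx, dv2 hx (afn_mem _ m'), add0, ← T0 s x hx] at this
  have T8 : ∀ s, ∀ x ∈ Rs, (afn (τ s) x).y8 = x.y8 + (afn (τ s) (Y2 1)).y8 * x.y2 := fun s x hx => by
    have m := afn_mem a⁻¹ (mY8 x.y8)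
    have a1 := (cong a m (afn_mem (cR (X1 s)) m) (by
      rw [cj2 _ m, A2 _ (mY8 _) rfl, mul_zero, add_zero]) (cj8 _ m)).2
    rw [afn_afn_inv _ (mY8 _), ← T0 s _ (mY8 _)] at a1
    have m2 := mul_mem (inv_mem (mY8 x.y8)) hx
    have a2 := lineR (τ s) (mY2 1) m2 (by simp only [UE])
    rw [T2 s _ (mY2 1), T2 s _ m2, afn_dv _ (mY8 _) hx, dv8, a1, dv2 (mY8 _) hx] at a2
    simp only [UE] at a2
    rw [← a2, ← add_assoc, add0.2 rfl, zero_add]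
  have inj : Function.Injective fun s => (afn (τ s) (Y2 1)).y8 := fun s s' e => by
    have m := afn_mem a (mY8 1)
    have := (cong a⁻¹ (afn_mem (τ s') m) (afn_mem (τ s) m) (by rw [T2 _ _ m, T2 _ _ m])
      (by rw [T8 _ _ m, T8 s' _ m]; exact congrArg (fun z => _ + z * _) e)).1
    rw [T0 _ _ m, T0 _ _ m, afn_inv_afn _ (mY8 1), afn_inv_afn _ (afn_mem _ (mY8 1)),
      afn_inv_afn _ (afn_mem _ (mY8 1)), cj2 _ (mY8 1), cj2 _ (mY8 1)] at this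
    simpa only [UE] using this
  obtain ⟨s, hs⟩ := Finite.injective_iff_surjective.1 inj (d⁻¹ : Kˣ)
  refine ⟨cR (X1 (d : K)) * (τ s * cR (X1 (d : K))), mul_mem (cR_mem h₀ L _) (mul_mem (mul_mem (mul_mem ha
    (cR_mem h₀ L _)) (inv_mem ha)) (cR_mem h₀ L _)), fun x hx => ?_⟩
  have m := afn_mem (cR (X1 (d : K))) hx
  rw [afn_mul _ _ hx, afn_mul _ _ hx, cj2 _ (afn_mem _ m), cj8 _ (afn_mem _ m), T2 _ _ m, T8 _ _ m,
    cj2 _ hx, cj8 _ hx, show (afn (τ s) (Y2 1)).y8 = _ from hs]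
  have := d.mul_inv
  simp only [UE]
  grind

end Cfsg.Agent.RFS
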