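import Cfsg.Agent.RFS.AutQ
import Cfsg.Agent.RFS.LinR

/-!
The torus lies in the automizer of `S`.
Read `RFS/Def` (and the commutator table at the top of `RFS/Es`, the signatures of `RFS/Inv`, `RFS/Ker`).  Coordinates:
`simp only [mem_X, cm, UE, h..] <;> grind`; `afn_cm`, `homOn_afn`, `afn_res`, `afn_cQ`, `afn_cR`, `mem_OQ`, `mem_OR`, `decomp`.

-/

set_option autoImplicit false
set_option linter.unusedSectionVars false
set_option linter.unusedSimpArgs false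
set_option maxRecDepth 20000

namespace Cfsg.Agent.RFS

open Subgroup Cfsg.Agent.Oct Cfsg.Agent.S2F Cfsg.Agent.Fus

variable {K : Type*} [Field K] [Tw K] [Finite K] {A₀ : Subgroup (MulAut (U K))}
  {A : Subgroup (MulAut (Qs : Subgroup (U K)))} {B : Subgroup (MulAut (Rs : Subgroup (U K)))}

theorem tor_form (h₀ : SA A₀) {g : U K} {τ : MulAut (U K)} (h : MulAut.conj g * τ ∈ A₀) : τ ∈ A₀ :=
  (mul_mem_cancel_left (h₀.conj g)).1 h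

theorem tor_key (h₀ : SA A₀) (hf : Form A₀) (LQ : Lc A₀ Qs A) {τ : MulAut (U K)} (hτ : τ ∈ TF K)
    {β : MulAut (Qs : Subgroup (U K))} (hβ : β ∈ A)
    (e : QuotientGroup.mk' (OQ K) (rQ τ) = QuotientGroup.mk' (OQ K) β) : τ ∈ A₀ := by
  obtain ⟨a, b, f, rfl⟩ := hτ
  have o : (rQ (tf a b f))⁻¹ * β ∈ OQ K := QuotientGroup.eq.1 e
  obtain ⟨φ, hφ, rfl⟩ := extQ h₀ LQ hβ fun x hx => by
    have q : x ∈ Qs := ⟨hx.2.2.2.1, hx.2.2.2.2⟩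
    have m := afn_mem ((rQ (tf a b f))⁻¹ * β) q
    obtain ⟨c1, c2, c3, -⟩ := mem_OQ.1 o x q
    rw [← mul_inv_cancel_left (rQ (tf a b f)) β, afn_mul _ _ q, afn_res _ m]
    simp only [mem_P7, tf_apply, tfn, c1, c2, c3, m.1, m.2, hx.1, hx.2.1, hx.2.2.1, map_zero, mul_zero, and_self]
  obtain ⟨g, a', b', f', rfl⟩ := hf φ hφ
  obtain ⟨rfl, rfl, rfl⟩ := faith_Q (QuotientGroup.eq.1 e.symm)
  exact tor_form h₀ hφ

theorem tor_R (h₀ : SA A₀) (hf : Form A₀) (LR : Lc A₀ Rs B) (d : Kˣ) : tf (d ^ 2) d⁻¹ 1 ∈ A₀ := by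
  obtain ⟨μ, hμ, k⟩ := hua h₀ LR d
  obtain ⟨ν, hν, l⟩ := hua h₀ LR 1
  have m : ∀ x ∈ Rs, (afn (μ * ν) x).y2 = d * x.y2 ∧ (afn (μ * ν) x).y8 = (d⁻¹ : Kˣ) * x.y8 := fun x hx => by
    rw [afn_mul _ _ hx, (k _ (afn_mem ν hx)).1, (k _ (afn_mem ν hx)).2, (l x hx).1, (l x hx).2]
    simp
  obtain ⟨φ, hφ, e⟩ := extR h₀ LR (mul_mem hμ hν) fun x hx c => by rw [(m x hx).2, c, mul_zero]
  obtain ⟨g, a, b, f, rfl⟩ := hf φ hφ
  have c8 : ∀ t : K, b * f t = (d⁻¹ : Kˣ) * t := fun t => by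
    have := (m (Y8 t) rfl).2
    rw [← e, afn_res _ (show Y8 t ∈ Rs from rfl)] at this
    simp only [MulAut.mul_apply, MulAut.conj_apply, tf_apply, tfn, UE] at this
    grind
  have c2 : (a : K) * b = d := by
    have := (m (Y2 1) rfl).1
    rw [← e, afn_res _ (show Y2 (1 : K) ∈ Rs from rfl)] at this
    simp only [MulAut.mul_apply, MulAut.conj_apply, tf_apply, tfn, UE, map_zero, map_one] at this
    grind
  obtain rfl : b = d⁻¹ := Units.ext (by simpa using c8 1)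
  obtain rfl : f = 1 := RingEquiv.ext fun t => mul_left_cancel₀ (Units.ne_zero _) (c8 t)
  obtain rfl : a = d ^ 2 := by
    rw [sq, ← mul_inv_eq_iff_eq_mul]; exact Units.ext c2
  exact tor_form h₀ hφ

theorem tor_conj (a b x y : Kˣ) (f : K ≃+* K) :
    tf a b f * tf x y 1 * (tf a b f)⁻¹ = tf (um f x) (um f y) 1 := by
  rw [mul_inv_eq_iff_eq_mul, tf_mul, tf_mul, mul_comm a, mul_comm b]; rfl

/-- PROOF.  If `MulAut.conj g * τ ∈ A₀` then `τ ∈ A₀`.  Work modulo the normal subgroup `OQ K` (`QuotientGroup.mk'`).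
1. `μ d` from `hua`; `(ψR K)⁻¹ * μ 1 ∈ OR K` (`mem_OR`, `ψ_y2`, `ψ_y8`).
2. `μ d * μ 1` acts as `(y2, y8) ↦ (d y2, d⁻¹ y8)`; `extR` and `hf` write it as `rR (conj g * tf a b f)`; `y8` of `Y8 t` gives `b = d⁻¹`,
 `f = 1`, `y2` of `Y2 1` gives `a b = d`.  So `tf (d ^ 2) d⁻¹ 1 ∈ A₀`.
3. `α` from `swapQ`; `α * ωQ K` preserves `P7` and `P1`; `autQ`: `α ≡ rQ τ * ωQ K`, `τ = tf a₀ b₀ f₀`.  For `k = tf a b f ∈ A₀`,
 `α * rQ k * α⁻¹ ∈ A` preserves `P7` (`α⁻¹` maps `P7` to `P1`: `inv_pres` for `α * ωQ K`), so it is `rQ (conj g * k')` with `k' ∈ TF ∩ A₀`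
 (`extQ`, `hf`), and it is `≡ rQ (τ * tf (a b² σu b) b⁻¹ f * τ⁻¹)` (`ωQ_tf`); `faith_Q` shows that this conjugate lies in `A₀`.
 For `k = tf (d ^ 2) d⁻¹ 1` this is `tf (σu e)⁻¹ e 1`, `e = um f₀ d` arbitrary.
4. `tf a b 1 = tf (d ^ 2) d⁻¹ 1 * tf (σu e)⁻¹ e 1` with `c = a σ b`, `d = c θ c`, `e = b d` (`σ_eq`).
5. `α' = (rQ (tf a₀ b₀ 1))⁻¹ * α ≡ rQ (tf 1 1 f₀) * ωQ K`; `α' * α' ≡ rQ (tf 1 1 (f₀ * f₀))` preserves `P7`, so as in 3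
 `tf 1 1 f₀ ^ 2 ∈ A₀`; its order is odd (`odd_TF`), so `tf 1 1 f₀ ∈ A₀`, and `(rQ (tf 1 1 f₀))⁻¹ * α' ≡ ωQ K`. -/
theorem tor (h₀ : SA A₀) (hf : Form A₀) (LQ : Lc A₀ Qs A) (LR : Lc A₀ Rs B) :
    (∀ a b : Kˣ, tf a b 1 ∈ A₀) ∧ (∃ α ∈ A, (ωQ K)⁻¹ * α ∈ OQ K) ∧ ∃ μ ∈ B, (ψR K)⁻¹ * μ ∈ OR K := by
  obtain ⟨α, hα, p7, p1⟩ := swapQ h₀ LQ
  obtain ⟨a₀, b₀, f₀, o⟩ := autQ (α := α * ωQ K) (fun x hx => by
    have q : x ∈ Qs := ⟨hx.2.2.2.1, hx.2.2.2.2⟩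
    rw [afn_mul _ _ q, afn_ωQ q]
    exact p1 _ ⟨hx.2.2.1, hx.2.1, by simp only [UE, hx.1], rfl, rfl⟩) fun x hx => by
    have q : x ∈ Qs := ⟨hx.2.2.2.1, hx.2.2.2.2⟩
    rw [afn_mul _ _ q, afn_ωQ q]
    exact p7 _ ⟨hx.2.2.1, hx.2.1, by simp only [UE, hx.1], rfl, rfl⟩
  have e : QuotientGroup.mk' (OQ K) α = QuotientGroup.mk' (OQ K) (rQ (tf a₀ b₀ f₀) * ωQ K) := by
    rw [map_mul, show QuotientGroup.mk' (OQ K) (rQ (tf a₀ b₀ f₀)) = QuotientGroup.mk' (OQ K) (α * ωQ K) from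
      QuotientGroup.eq.2 o, ← map_mul, mul_assoc, ωQ_sq, mul_one]
  have k1 : ∀ c : Kˣ, tf (σu c)⁻¹ c 1 ∈ A₀ := fun c => by
    refine tor_key h₀ hf LQ ⟨_, _, _, rfl⟩
      (mul_mem (mul_mem hα (LQ.res _ (tor_R h₀ hf LR (um f₀⁻¹ c)))) (inv_mem hα)) ?_
    rw [map_mul, map_mul, map_inv, e, ← map_inv, ← map_mul, ← map_mul, mul_inv_rev, ωQ_inv, mul_assoc, mul_assoc,
      ← mul_assoc (rQ (tf _ _ 1)), ← mul_assoc (ωQ K), ← mul_assoc (ωQ K), ωQ_tf, ← map_inv, ← map_mul, ← map_mul,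
      ← mul_assoc, tor_conj]
    have c1 : f₀ (f₀⁻¹ (c : K)) = c := f₀.apply_symm_apply _
    congr 3 <;> refine Units.ext ?_
    · have := c.ne_zero
      simp only [um_val, Units.val_mul, Units.val_pow_eq_pow_val, Units.val_inv_eq_inv_val, σu_val, map_mul, map_pow,
        map_inv₀, fσ, c1]
      field_simp
    · rw [inv_inv]; exact c1.symm
  have k2 : ∀ a b : Kˣ, tf a b 1 ∈ A₀ := fun a b => by
    let d := a * σu b * Units.map (θ : K →+* K).toMonoidHom (a * σu b)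
    convert mul_mem (tor_R h₀ hf LR d) (k1 (b * d)) using 1
    rw [tf_mul, mul_one]
    congr 1
    · refine Units.ext ?_
      have e1 : (d : K) = (a * σu b : Kˣ) * θ ((a * σu b : Kˣ) : K) := rfl
      have e2 := σ_eq ((a * σu b : Kˣ) : K)
      have e3 := σu_ne (a * σu b)
      have e4 := σu_ne b
      have e5 := a.ne_zero
      change (a : K) = ((d ^ 2 * (σu (b * d))⁻¹ : Kˣ) : K)
      rw [Units.val_mul, Units.val_pow_eq_pow_val, Units.val_inv_eq_inv_val, σu_val, Units.val_mul b, e1, mul_pow, ← e2,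
        map_mul, map_mul, σθ]
      generalize σ ((a * σu b : Kˣ) : K) = w at e3
      rw [Units.val_mul, σu_val]
      field_simp
    · change b = d⁻¹ * (b * d)
      rw [mul_comm b, inv_mul_cancel_left]
  have t0 : tf a₀ b₀ f₀ = tf a₀ b₀ 1 * tf 1 1 f₀ := by rw [tf_mul, one_mul]; exact congrArg₂ (tf · · f₀) (mul_one _).symm (mul_one _).symm
  have e' : QuotientGroup.mk' (OQ K) ((rQ (tf a₀ b₀ 1))⁻¹ * α) = QuotientGroup.mk' (OQ K) (rQ (tf 1 1 f₀) * ωQ K) := by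
    rw [map_mul, e, ← map_mul, t0, map_mul rQ, mul_assoc, inv_mul_cancel_left]
  have hα' := mul_mem (inv_mem (LQ.res _ (k2 a₀ b₀))) hα
  have m : tf (1 : Kˣ) 1 f₀ ∈ TF K := ⟨_, _, _, rfl⟩
  have k3 : tf 1 1 f₀ ^ 2 ∈ A₀ := tor_key h₀ hf LQ (pow_mem m 2) (mul_mem hα' hα') (by
    have := ωQ_tf (1 : Kˣ) 1 f₀
    rw [one_pow, one_mul, one_mul, inv_one, show σu (1 : Kˣ) = 1 from map_one _] at this
    rw [map_mul, e', ← map_mul, mul_assoc, ← mul_assoc (ωQ K), this, sq, map_mul rQ])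
  have k4 : tf 1 1 f₀ ∈ A₀ := zpowers_le.2 k3 (mem_zpowers_pow_iff.2
    (Nat.coprime_two_left.2 (odd_TF.of_dvd_nat (orderOf_dvd_natCard _ m))))
  refine ⟨k2, ⟨_, mul_mem (inv_mem (LQ.res _ k4)) hα', QuotientGroup.eq.1 ?_⟩, ?_⟩
  · change QuotientGroup.mk' (OQ K) _ = QuotientGroup.mk' (OQ K) _
    rw [map_mul, e', ← map_mul, inv_mul_cancel_left]
  · obtain ⟨ν, hν, l⟩ := hua h₀ LR 1
    refine ⟨ν, hν, mem_OR.2 fun x hx => ?_⟩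
    rw [ψR_inv, afn_mul _ _ hx, afn_ψR (afn_mem ν hx), ψ_y2, ψ_y8, (l x hx).1, (l x hx).2]
    simp

end Cfsg.Agent.RFS
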