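import Cfsg.Agent.RFS.Ker
import Cfsg.Agent.RFS.GT

/-!
`q = 2`: there are two possible automizers of `Q`.
Read `RFS/Def` (and the commutator table at the top of `RFS/Es`, the signatures of `RFS/Inv`, `RFS/Ker`).  Coordinates:
`simp only [mem_X, cm, UE, h..] <;> grind`; `afn_cm`, `homOn_afn`, `afn_res`, `afn_cQ`, `afn_cR`, `mem_OQ`, `mem_OR`, `decomp`.

-/

set_option autoImplicit false
set_option linter.unusedSectionVars false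
set_option linter.unusedSimpArgs false
set_option maxRecDepth 20000

namespace Cfsg.Agent.RFS

open Subgroup Cfsg.Agent.Oct Cfsg.Agent.S2F Cfsg.Agent.Fus

variable {K : Type*} [Field K] [Tw K] [Finite K] {A₀ : Subgroup (MulAut (U K))}
  {A : Subgroup (MulAut (Qs : Subgroup (U K)))} {B : Subgroup (MulAut (Rs : Subgroup (U K)))}

namespace TQ

theorem rel {G : Type*} [Group G] {w t : G} (hw : w * w = 1) (ht : t ^ 4 = 1) (h : w * t ^ 2 * w = t⁻¹ * w * t) :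
    (w * t ^ 2) ^ 5 = 1 ∧ t * (w * t ^ 2) * t⁻¹ = (w * t ^ 2) ^ 3 := by
  have hw' : w⁻¹ = w := inv_eq_of_mul_eq_one_left hw
  have t2 : (t ^ 2)⁻¹ = t ^ 2 := inv_eq_of_mul_eq_one_left (by rw [← pow_add, ht])
  have t3 : t ^ 3 = t⁻¹ := eq_inv_of_mul_eq_one_left (by rw [← pow_succ, ht])
  have p2 : (w * t ^ 2) ^ 2 = t⁻¹ * w * t⁻¹ := by
    calc _ = w * t ^ 2 * w * t ^ 2 := by rw [pow_two (w * t ^ 2)]; group
      _ = t⁻¹ * w * t ^ 3 := by rw [h]; group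
      _ = _ := by rw [t3]
  have a : w * t⁻¹ * w = t ^ 2 * w * t⁻¹ := by
    have b : t * w * t ^ 2 = w * t * w := by
      calc _ = t * (w * t ^ 2 * w) * w⁻¹ := by group
        _ = _ := by rw [h, hw']; group
    have := congrArg (·⁻¹) b
    simp only [mul_inv_rev, hw', t2] at this
    rw [mul_assoc, ← this, mul_assoc]
  constructor
  · calc _ = (w * t ^ 2) ^ 2 * (w * t ^ 2) ^ 2 * (w * t ^ 2) := by rw [← pow_add, ← pow_succ]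
      _ = t⁻¹ * (w * (t ^ 2)⁻¹ * w) * t⁻¹ * (w * t ^ 2) := by rw [p2]; group
      _ = (t ^ 2)⁻¹ * (w * w) * t ^ 2 := by rw [t2, h, ← t2]; group
      _ = 1 := by rw [hw]; group
  · calc _ = t * w * t := by group
      _ = t⁻¹ * (t ^ 2 * w * t⁻¹) * t ^ 2 := by group
      _ = (w * t ^ 2) ^ 2 * (w * t ^ 2) := by rw [p2, ← a]; group
      _ = _ := (pow_succ _ 2).symm

theorem As_Q {v : U K} (h : v ∈ As) : v ∈ Qs := ⟨h.2.2.2.2.2.1, h.2.2.2.2.2.2⟩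

theorem As_P {v : U K} (h : v ∈ As) : v ∈ Ps := by rw [mem_As] at h; simp only [mem_Ps, h, and_self]

theorem Ps_Q {v : U K} (h : v ∈ Ps) : v ∈ Qs := ⟨h.2.2.2.2.1, h.2.2.2.2.2⟩

theorem Zs_A {v : U K} (h : v ∈ Zs) : v ∈ As := by rw [mem_Zs] at h; simp only [mem_As, h, and_self]

theorem X4_Z (s : K) : X4 s ∈ Zs := by simp only [mem_Zs, UE, and_self]

theorem X4_inj {a b : K} (h : X4 a = X4 b) : a = b := congrArg U.x4 h

theorem hσ (h2 : ∀ x : K, x = 0 ∨ x = 1) (x : K) : σ x = x := by rcases h2 x with rfl | rfl <;> simp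

theorem hs (h2 : ∀ x : K, x = 0 ∨ x = 1) (x : K) : x * x = x := by rcases h2 x with rfl | rfl <;> simp

theorem fixZ (h2 : ∀ x : K, x = 0 ∨ x = 1) (s : MulAut (Qs : Subgroup (U K))) {z : U K} (hz : z ∈ Zs) : afn s z = z := by
  have hq := As_Q (Zs_A hz)
  have h1 := chQ_Zs s z hq hz
  have e : ∀ {y : U K}, y ∈ Zs → y.x4 = 0 → y = 1 := fun {y} hy h => by rw [eq_X4 hy, h]; rfl
  rcases h2 z.x4 with h | h
  · rw [e hz h, (homOn_afn s).map_one]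
  · rcases h2 (afn s z).x4 with h' | h'
    · have : z = 1 := by rw [← afn_inv_afn s hq, e h1 h', (homOn_afn _).map_one]
      rw [this, (homOn_afn s).map_one]
    · rw [eq_X4 h1, h', eq_X4 hz, h]

theorem pr_afn (h2 : ∀ x : K, x = 0 ∨ x = 1) (s : MulAut (Qs : Subgroup (U K))) {g v : U K} (hg : g ∈ Qs) (hv : v ∈ As) :
    pr (afn s g) (afn s v) = pr g v := by
  have a := (homOn_afn s).map_conj hg (As_Q hv)
  rw [comm_pr hg hv, comm_pr (afn_mem s hg) (chQ_As s v (As_Q hv) hv),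
    homOn_afn s _ (As_Q hv) _ (As_Q (Zs_A (X4_Z _))), fixZ h2 s (X4_Z _)] at a
  exact (X4_inj (mul_left_cancel a)).symm

theorem lin (h2 : ∀ x : K, x = 0 ∨ x = 1) {φ : U K → K} (hm : ∀ a ∈ Qs, ∀ b ∈ Qs, φ (a * b) = φ a + φ b)
    (h0 : ∀ v ∈ As, φ v = 0) (h4 : φ (Y4 1) = 0) {h : U K} (hh : h ∈ Qs) :
    φ h = h.x1 * φ (X1 1) + h.y2 * φ (Y2 1) + h.y6 * φ (Y6 1) + h.x7 * φ (X7 1) := by
  have k : ∀ {f : K → U K}, f 0 = 1 → ∀ t, φ (f t) = t * φ (f 1) := fun {f} hf t => by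
    rcases h2 t with rfl | rfl
    · rw [hf, h0 _ (one_mem _), zero_mul]
    · rw [one_mul]
  have q1 : X1 h.x1 ∈ Qs := ⟨rfl, rfl⟩
  have q2 : Y2 h.y2 ∈ Qs := ⟨rfl, rfl⟩
  have q3 : Y6 h.y6 ∈ Qs := ⟨rfl, rfl⟩
  have q4 : X7 h.x7 ∈ Qs := ⟨rfl, rfl⟩
  have q5 : Y4 h.y4 ∈ Qs := ⟨rfl, rfl⟩
  have q6 := mul_mem (mul_mem (mul_mem (mul_mem q1 q2) q3) q4) q5
  have a : (X1 h.x1 * Y2 h.y2 * Y6 h.y6 * X7 h.x7 * Y4 h.y4)⁻¹ * h ∈ As := by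
    simp only [mem_As, UE, hh.1, hh.2]; grind
  have b := hm _ q6 _ (As_Q a)
  rw [mul_inv_cancel_left, h0 _ a, hm _ (mul_mem (mul_mem (mul_mem q1 q2) q3) q4) _ q5, hm _ (mul_mem (mul_mem q1 q2) q3) _ q4,
    hm _ (mul_mem q1 q2) _ q3, hm _ q1 _ q2, k (f := X1) rfl, k (f := Y2) rfl, k (f := Y6) rfl, k (f := X7) rfl,
    k (f := Y4) rfl, h4] at b
  rw [b]; ring

/-- The elements of `OQ` which fix `As` pointwise. -/
def O1 (K : Type*) [Field K] [Tw K] [Finite K] : Subgroup (MulAut (Qs : Subgroup (U K))) where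
  carrier := {x | x ∈ OQ K ∧ ∀ v ∈ As, afn x v = v}
  one_mem' := ⟨one_mem _, fun v _ => afn_one v⟩
  mul_mem' {x y} hx hy := ⟨mul_mem hx.1 hy.1, fun v hv => by rw [afn_mul _ _ (As_Q hv), hy.2 v hv, hx.2 v hv]⟩
  inv_mem' {x} hx := ⟨inv_mem hx.1, fun v hv => by
    conv_lhs => rw [← hx.2 v hv]
    exact afn_inv_afn x (As_Q hv)⟩

theorem O1_conj {x : MulAut (Qs : Subgroup (U K))} (hx : x ∈ O1 K) (s : MulAut (Qs : Subgroup (U K))) :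
    s⁻¹ * x * s ∈ O1 K := ⟨(inferInstance : (OQ K).Normal).conj_mem' x hx.1 s, fun v hv => by
  have hq := As_Q hv
  rw [afn_mul _ _ hq, afn_mul _ _ (afn_mem s hq), hx.2 _ (chQ_As s v hq hv), afn_inv_afn s hq]⟩

/-- The deviation. -/
noncomputable def δ (x : MulAut (Qs : Subgroup (U K))) (h : U K) : U K := h⁻¹ * afn x h

theorem afn_eq (x : MulAut (Qs : Subgroup (U K))) (h : U K) : afn x h = h * δ x h := by rw [δ, mul_inv_cancel_left]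

theorem δ_mul (x : MulAut (Qs : Subgroup (U K))) {g h : U K} (hg : g ∈ Qs) (hh : h ∈ Qs) :
    δ x (g * h) = h⁻¹ * δ x g * h * δ x h := by
  simp only [δ, homOn_afn x g hg h hh]; group

theorem δ_As (h2 : ∀ x : K, x = 0 ∨ x = 1) {x : MulAut (Qs : Subgroup (U K))} (hx : x ∈ O1 K) {g : U K} (hg : g ∈ Qs) :
    δ x g ∈ As ∧ pr g (δ x g) = 0 := by
  have hd : δ x g ∈ Ps := hx.1 g hg
  have a : g * g ∈ As := by simp only [mem_As, UE, hg.1, hg.2]; grind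
  have b : g⁻¹ * δ x g * g * δ x g = 1 := by rw [← δ_mul x hg hg, δ, hx.2 _ a, inv_mul_cancel]
  have c : δ x g ∈ As := by
    rcases h2 (δ x g).y4 with h | h
    · rw [mem_Ps] at hd
      simp only [mem_As, hd, h, and_self]
    · refine (OQ_struct hx.1).1 g ?_
      generalize δ x g = d at hd b h
      rw [mem_Ps] at hd
      have b2 := congrArg U.x2 b
      have b3 := congrArg U.x3 b
      have b5 := congrArg U.x5 b
      have b6 := congrArg U.x6 b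
      simp only [UE, hd, h, hg.1, hg.2, hσ h2] at b2 b3 b5 b6
      simp only [mem_Ps, hg.1, hg.2]
      grind
  refine ⟨c, ?_⟩
  generalize δ x g = d at c b
  rw [mem_As] at c
  have b4 := congrArg U.x4 b
  simp only [UE, c, hg.1, hg.2, hσ h2] at b4
  simp only [pr]
  grind

theorem δ_mul' (h2 : ∀ x : K, x = 0 ∨ x = 1) (x : MulAut (Qs : Subgroup (U K))) (hx : x ∈ O1 K)
    {y : MulAut (Qs : Subgroup (U K))} (hy : y ∈ O1 K) {h : U K} (hh : h ∈ Qs) : δ (x * y) h = δ x h * δ y h := by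
  have a := (δ_As h2 hy hh).1
  rw [δ, afn_mul _ _ hh, afn_eq y, homOn_afn x _ hh _ (As_Q a), hx.2 _ a, ← mul_assoc]; rfl

theorem δ_inv (h2 : ∀ x : K, x = 0 ∨ x = 1) {x : MulAut (Qs : Subgroup (U K))} (hx : x ∈ O1 K) {h : U K} (hh : h ∈ Qs) :
    δ x⁻¹ h = δ x h := by
  have a := δ_mul' h2 _ (inv_mem hx) hx hh
  rw [inv_mul_cancel, δ, afn_one, inv_mul_cancel] at a
  rw [eq_inv_of_mul_eq_one_left a.symm, inv_eq_of_mul_eq_one_left (sq_As (δ_As h2 hx hh).1)]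

theorem δ_conj (x s : MulAut (Qs : Subgroup (U K))) {h : U K} (hh : h ∈ Qs) :
    δ (s⁻¹ * x * s) h = afn s⁻¹ (δ x (afn s h)) := by
  have a := afn_mem s hh
  rw [δ, δ, homOn_afn s⁻¹ _ (inv_mem a) _ (afn_mem x a), (homOn_afn s⁻¹).map_inv a, afn_inv_afn s hh, afn_mul _ _ hh,
    afn_mul _ _ a]

/-- The form. -/
noncomputable def BB (x : MulAut (Qs : Subgroup (U K))) (g h : U K) : K := pr g (δ x h)

section

variable (h2 : ∀ x : K, x = 0 ∨ x = 1) {x y : MulAut (Qs : Subgroup (U K))} (hx : x ∈ O1 K) (hy : y ∈ O1 K)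
  {g g' h h' : U K}

theorem BB_left (hg : g ∈ Qs) (g' h : U K) : BB x (g * g') h = BB x g h + BB x g' h := by
  simp only [BB, pr, UE, hg.1, hg.2]; ring

theorem pr_mul_As (g : U K) {v v' : U K} (hv : v ∈ As) (hv' : v' ∈ As) : pr g (v * v') = pr g v + pr g v' := by
  rw [mem_As] at hv hv'
  simp only [pr, UE, hv, hv']; ring

include h2 hx

theorem BB_right (g : U K) (hh : h ∈ Qs) (hh' : h' ∈ Qs) : BB x g (h * h') = BB x g h + BB x g h' := by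
  have a := (δ_As h2 hx hh).1
  have b := comm_pr (inv_mem hh') a
  rw [inv_inv] at b
  rw [BB, δ_mul x hh hh', b, pr_mul_As _ (mul_mem a (Zs_A (X4_Z _))) (δ_As h2 hx hh').1, pr_mul_As _ a (Zs_A (X4_Z _))]
  simp only [BB, pr, UE]

theorem BB_self (hg : g ∈ Qs) : BB x g g = 0 := (δ_As h2 hx hg).2

theorem BB_symm (hg : g ∈ Qs) (hh : h ∈ Qs) : BB x g h = BB x h g := by
  have a := BB_self h2 hx (mul_mem hg hh)
  rw [BB_left hg, BB_right h2 hx _ hg hh, BB_right h2 hx _ hg hh, BB_self h2 hx hg, BB_self h2 hx hh] at a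
  grind

theorem BB_Ps (hg : g ∈ Qs) (hh : h ∈ Ps) : BB x g h = 0 := by
  rw [BB_symm h2 hx hg (Ps_Q hh)]
  rw [mem_Ps] at hh
  simp only [BB, pr, hh]; ring

theorem δ_Ps (hh : h ∈ Ps) : δ x h ∈ Zs := by
  have a := (δ_As h2 hx (Ps_Q hh)).1
  have b1 := BB_Ps h2 hx (g := X1 1) ⟨rfl, rfl⟩ hh
  have b2 := BB_Ps h2 hx (g := Y2 1) ⟨rfl, rfl⟩ hh
  have b3 := BB_Ps h2 hx (g := Y6 1) ⟨rfl, rfl⟩ hh
  have b4 := BB_Ps h2 hx (g := X7 1) ⟨rfl, rfl⟩ hh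
  rw [mem_As] at a
  simp only [BB, pr, UE] at b1 b2 b3 b4
  simp only [mem_Zs, a]
  grind

theorem BB_exp (hg : g ∈ Qs) (hh : h ∈ Qs) : BB x g h =
    BB x (X1 1) (Y2 1) * (g.x1 * h.y2 + g.y2 * h.x1) + BB x (X1 1) (Y6 1) * (g.x1 * h.y6 + g.y6 * h.x1) +
    BB x (X1 1) (X7 1) * (g.x1 * h.x7 + g.x7 * h.x1) + BB x (Y2 1) (Y6 1) * (g.y2 * h.y6 + g.y6 * h.y2) +
    BB x (Y2 1) (X7 1) * (g.y2 * h.x7 + g.x7 * h.y2) + BB x (Y6 1) (X7 1) * (g.y6 * h.x7 + g.x7 * h.y6) := by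
  have a : ∀ g ∈ Qs, BB x g h = h.x1 * BB x g (X1 1) + h.y2 * BB x g (Y2 1) + h.y6 * BB x g (Y6 1) + h.x7 * BB x g (X7 1) :=
    fun g hg => lin h2 (φ := BB x g) (fun a ha b hb => BB_right h2 hx g ha hb) (fun v hv => BB_Ps h2 hx hg (As_P hv))
      (BB_Ps h2 hx hg (by simp only [mem_Ps, UE, and_self])) hh
  have b : ∀ e, BB x g e = g.x1 * BB x (X1 1) e + g.y2 * BB x (Y2 1) e + g.y6 * BB x (Y6 1) e + g.x7 * BB x (X7 1) e :=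
    fun e => by simp only [BB, pr, UE]; ring
  have q1 : X1 (1 : K) ∈ Qs := ⟨rfl, rfl⟩
  have q2 : Y2 (1 : K) ∈ Qs := ⟨rfl, rfl⟩
  have q3 : Y6 (1 : K) ∈ Qs := ⟨rfl, rfl⟩
  have q4 : X7 (1 : K) ∈ Qs := ⟨rfl, rfl⟩
  rw [a g hg, b (X1 1), b (Y2 1), b (Y6 1), b (X7 1), BB_self h2 hx q1, BB_self h2 hx q2, BB_self h2 hx q3, BB_self h2 hx q4,
    BB_symm h2 hx q2 q1, BB_symm h2 hx q3 q1, BB_symm h2 hx q4 q1, BB_symm h2 hx q3 q2, BB_symm h2 hx q4 q2,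
    BB_symm h2 hx q4 q3]
  ring

theorem BB_inv (g : U K) (hh : h ∈ Qs) : BB x⁻¹ g h = BB x g h := by rw [BB, δ_inv h2 hx hh, BB]

theorem BB_conj (s : MulAut (Qs : Subgroup (U K))) (hg : g ∈ Qs) (hh : h ∈ Qs) :
    BB (s⁻¹ * x * s) g h = BB x (afn s g) (afn s h) := by
  have a := (δ_As h2 hx (afn_mem s hh)).1
  rw [BB, δ_conj x s hh, ← pr_afn h2 s hg (chQ_As _ _ (As_Q a) a), afn_afn_inv s (As_Q a), BB]

include hy in
theorem BB_mul (g : U K) (hh : h ∈ Qs) : BB (x * y) g h = BB x g h + BB y g h := by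
  rw [BB, δ_mul' h2 x hx hy hh, pr_mul_As _ (δ_As h2 hx hh).1 (δ_As h2 hy hh).1, BB, BB]

theorem BB_inn (hi : x ∈ Inn (Qs : Subgroup (U K))) : ∃ k, ∀ g, ∀ h ∈ Qs,
    BB x g h = k * (g.x1 * h.x7 + g.x7 * h.x1 + g.y2 * h.y6 + g.y6 * h.y2) := by
  obtain ⟨q, hq, e⟩ := mem_Inn.1 hi
  have a : ∀ v ∈ As, pr q v = 0 := fun v hv => by
    have := hx.2 v hv
    rw [e v (As_Q hv), comm_pr hq hv, mul_eq_left] at this
    exact X4_inj this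
  have a1 := a (X6 1) (by simp only [mem_As, UE, and_self])
  have a2 := a (X2 1) (by simp only [mem_As, UE, and_self])
  have a3 := a (X5 1) (by simp only [mem_As, UE, and_self])
  have a4 := a (X3 1) (by simp only [mem_As, UE, and_self])
  simp only [pr, UE] at a1 a2 a3 a4
  refine ⟨q.y4, fun g h hh => ?_⟩
  rw [BB, δ, e h hh]
  simp only [pr, UE, hq.1, hq.2, hh.1, hh.2, a1, a2, a3, a4, hσ h2]
  grind

/-- Step (e). -/
theorem inn_of {s : MulAut (Qs : Subgroup (U K))} (hs : afn s (Y4 1) = Y4 1)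
    (hB : ∀ g ∈ Qs, ∀ h ∈ Qs, BB x (afn s g) (afn s h) = BB x g h) : s⁻¹ * x * s * x⁻¹ ∈ Inn (Qs : Subgroup (U K)) := by
  have hu := mul_mem (O1_conj hx s) (inv_mem hx)
  have h4 : δ (s⁻¹ * x * s * x⁻¹) (Y4 1) = 1 := by
    have a := δ_Ps h2 hx (h := Y4 1) (by simp only [mem_Ps, UE, and_self])
    rw [δ_mul' h2 _ (O1_conj hx s) (inv_mem hx) ⟨rfl, rfl⟩, δ_conj x s ⟨rfl, rfl⟩, hs, fixZ h2 _ a, δ_inv h2 hx ⟨rfl, rfl⟩,
      sq_As (Zs_A a)]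
  have h0 : ∀ g ∈ Qs, ∀ h ∈ Qs, BB (s⁻¹ * x * s * x⁻¹) g h = 0 := fun g hg h hh => by
    rw [BB_mul h2 (O1_conj hx s) (inv_mem hx) g hh, BB_conj h2 hx s hg hh, hB g hg h hh, BB_inv h2 hx g hh]
    grind
  generalize s⁻¹ * x * s * x⁻¹ = u at hu h4 h0
  have hZ : ∀ h ∈ Qs, δ u h ∈ Zs := fun h hh => by
    have a := (δ_As h2 hu hh).1
    have b1 := h0 (X1 1) ⟨rfl, rfl⟩ h hh
    have b2 := h0 (Y2 1) ⟨rfl, rfl⟩ h hh
    have b3 := h0 (Y6 1) ⟨rfl, rfl⟩ h hh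
    have b4 := h0 (X7 1) ⟨rfl, rfl⟩ h hh
    rw [mem_As] at a
    simp only [BB, pr, UE] at b1 b2 b3 b4
    simp only [mem_Zs, a]
    grind
  have hl := fun {h} (hh : h ∈ Qs) => lin h2 (φ := fun h => (δ u h).x4) (fun a ha b hb => by
      rw [δ_mul u ha hb, eq_X4 (hZ a ha), comm_X4, inv_mul_cancel_right, eq_X4 (hZ b hb)]
      simp only [UE])
    (fun v hv => by rw [δ, hu.2 v hv, inv_mul_cancel]; rfl) (by rw [h4]; rfl) hh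
  obtain ⟨v, hv, e⟩ : ∃ v ∈ As, ∀ h ∈ Qs, (δ u h).x4 = pr h v :=
    ⟨⟨0, 0, (δ u (X7 1)).x4, (δ u (Y6 1)).x4, 0, 0, (δ u (Y2 1)).x4, 0, (δ u (X1 1)).x4, 0, 0, 0⟩,
      ⟨rfl, rfl, rfl, rfl, rfl, rfl, rfl⟩, fun h hh => by rw [hl hh]; simp only [pr]; ring⟩
  refine mem_Inn.2 ⟨v, As_Q hv, fun h hh => ?_⟩
  have a := comm_pr hh hv
  rw [afn_eq, eq_X4 (hZ h hh), e h hh, eq_mul_inv_iff_mul_eq]
  calc _ = X4 (pr h v) * (h * v * h⁻¹) * h := by rw [comm_X4]; group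
    _ = v * (X4 (pr h v) * X4 (pr h v)) * h := by rw [a, ← mul_assoc, ← comm_X4]; group
    _ = _ := by rw [sq_As (Zs_A (X4_Z _)), mul_one]

end

/-- Step (a). -/
theorem red (h2 : ∀ x : K, x = 0 ∨ x = 1) {x : MulAut (Qs : Subgroup (U K))} (hx : x ∈ OQ K) :
    ∃ m ∈ Inn (Qs : Subgroup (U K)), m * x ∈ O1 K := by
  obtain ⟨-, a, b⟩ := OQ_struct hx
  let q : U K := ⟨(δ x (X6 1)).x4, (δ x (X5 1)).x4, 0, 0, 0, 0, 0, (δ x (X3 1)).x4, 0, (δ x (X2 1)).x4, 0, 0⟩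
  have hq : q ∈ Qs := ⟨rfl, rfl⟩
  have hm : cQ q ∈ Inn (Qs : Subgroup (U K)) := mem_Inn'.2 ⟨q, hq, rfl⟩
  refine ⟨cQ q, hm, mul_mem (inn_le_OQ hm) hx, fun v hv => ?_⟩
  have k : ∀ {f : K → U K}, f 0 = 1 → f 1 ∈ As → pr q (f 1) = (δ x (f 1)).x4 → ∀ t, afn (cQ q * x) (f t) = f t :=
    fun {f} hf h1 e t => by
      rcases h2 t with rfl | rfl
      · rw [hf, (homOn_afn _).map_one]
      · have c : δ x (f 1) ∈ Zs := a _ h1
        rw [afn_mul _ _ (As_Q h1), afn_cQ _ (afn_mem _ (As_Q h1)), afn_eq, eq_X4 c, ← mul_assoc, mul_assoc _ _ q⁻¹, ← comm_X4,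
          ← mul_assoc, comm_pr hq h1, e, mul_assoc, sq_As (Zs_A (X4_Z _)), mul_one]
  have e : v = X2 v.x2 * X3 v.x3 * X4 v.x4 * X5 v.x5 * X6 v.x6 := by
    rw [mem_As] at hv
    ext <;> simp only [UE, hv]
  have H := homOn_afn (cQ q * x)
  have q1 : X2 v.x2 ∈ Qs := ⟨rfl, rfl⟩
  have q2 : X3 v.x3 ∈ Qs := ⟨rfl, rfl⟩
  have q3 : X4 v.x4 ∈ Qs := ⟨rfl, rfl⟩
  have q4 : X5 v.x5 ∈ Qs := ⟨rfl, rfl⟩
  have q5 : X6 v.x6 ∈ Qs := ⟨rfl, rfl⟩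
  rw [e, H _ (mul_mem (mul_mem (mul_mem q1 q2) q3) q4) _ q5, H _ (mul_mem (mul_mem q1 q2) q3) _ q4, H _ (mul_mem q1 q2) _ q3,
    H _ q1 _ q2, fixZ h2 _ (X4_Z _),
    k (f := X2) rfl (by simp only [mem_As, UE, and_self]) (by simp only [pr, UE, q]),
    k (f := X3) rfl (by simp only [mem_As, UE, and_self]) (by simp only [pr, UE, q]),
    k (f := X5) rfl (by simp only [mem_As, UE, and_self]) (by simp only [pr, UE, q]),
    k (f := X6) rfl (by simp only [mem_As, UE, and_self]) (by simp only [pr, UE, q])]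

theorem co_t (h2 : ∀ x : K, x = 0 ∨ x = 1) {g : U K} (hg : g ∈ Qs) :
    (afn (cQ (Y8 1)) g).x1 = g.x1 ∧ (afn (cQ (Y8 1)) g).y2 = g.x1 + g.y2 ∧ (afn (cQ (Y8 1)) g).y6 = g.x1 + g.y2 + g.y6 ∧
      (afn (cQ (Y8 1)) g).x7 = g.x1 + g.y6 + g.x7 := by
  rw [afn_cQ _ hg]
  simp only [UE, hg.1, hg.2, hσ h2]
  grind

theorem afn_π {g : U K} (hg : g ∈ Qs) : afn (ωQ K * cQ (X8 1)) g = ω (X8 1 * g * (X8 1)⁻¹) := by
  rw [afn_mul _ _ hg, afn_ωQ (afn_mem _ hg), afn_cQ _ hg]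

theorem co_π (h2 : ∀ x : K, x = 0 ∨ x = 1) {g : U K} (hg : g ∈ Qs) :
    (afn (ωQ K * cQ (X8 1)) g).x1 = g.x1 + g.y2 + g.x7 ∧ (afn (ωQ K * cQ (X8 1)) g).y2 = g.x1 + g.y6 ∧
      (afn (ωQ K * cQ (X8 1)) g).y6 = g.y2 ∧ (afn (ωQ K * cQ (X8 1)) g).x7 = g.x1 := by
  rw [afn_π hg]
  simp only [UE, hg.1, hg.2, hσ h2]
  grind

theorem π_Y4 : afn (ωQ K * cQ (X8 1)) (Y4 1) = Y4 1 := by
  rw [afn_π ⟨rfl, rfl⟩]
  ext <;> simp only [UE]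

theorem γ_O1 (h2 : ∀ x : K, x = 0 ∨ x = 1) : rQ (γ0 h2) ∈ O1 K :=
  ⟨mem_OQ.2 fun x hx => by rw [afn_res _ hx]; exact ⟨rfl, rfl, rfl, rfl⟩, fun v hv => by
    rw [afn_res _ (As_Q hv)]
    change g0 v = v
    rw [mem_As] at hv
    ext <;> simp only [g0, UE, hv]⟩

theorem BB_γ (h2 : ∀ x : K, x = 0 ∨ x = 1) (g : U K) {h : U K} (hh : h ∈ Qs) :
    BB (rQ (γ0 h2)) g h = g.x1 * h.y2 + g.y2 * h.x1 := by
  rw [BB, δ, afn_res _ hh]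
  change pr g (h⁻¹ * g0 h) = _
  have a := hs h2 h.x1
  have b := hs h2 h.y2
  simp only [pr, g0, UE, hh.1, hh.2, hσ h2]
  grind

/-- Step (d). -/
theorem bits (h2 : ∀ x : K, x = 0 ∨ x = 1) {x : MulAut (Qs : Subgroup (U K))} (hx : x ∈ O1 K)
    (hi : (ωQ K * cQ (X8 1))⁻¹ * ((cQ (Y8 1))⁻¹ * x⁻¹ * cQ (Y8 1) * x) * (ωQ K * cQ (X8 1)) *
      ((cQ (Y8 1))⁻¹ * x⁻¹ * cQ (Y8 1) * x)⁻¹ ∈ Inn (Qs : Subgroup (U K))) :
    BB x (Y6 1) (X7 1) = 0 ∧ BB x (Y2 1) (X7 1) = BB x (X1 1) (Y6 1) ∧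
      BB x (X1 1) (X7 1) = BB x (X1 1) (Y6 1) + BB x (Y2 1) (Y6 1) := by
  have hy := mul_mem (O1_conj (inv_mem hx) (cQ (Y8 1))) hx
  obtain ⟨k, hk⟩ := BB_inn h2 (mul_mem (O1_conj hy _) (inv_mem hy)) hi
  have e : ∀ g ∈ Qs, ∀ h ∈ Qs, BB ((cQ (Y8 1))⁻¹ * x⁻¹ * cQ (Y8 1) * x) g h =
      BB x (afn (cQ (Y8 1)) g) (afn (cQ (Y8 1)) h) + BB x g h := fun g hg h hh => by
    rw [BB_mul h2 (O1_conj (inv_mem hx) _) hx g hh, BB_conj h2 (inv_mem hx) _ hg hh, BB_inv h2 hx _ (afn_mem _ hh)]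
  have key : ∀ g ∈ Qs, ∀ h ∈ Qs, _ := fun g hg h hh => by
    have a := hk g h hh
    have g1 := afn_mem (ωQ K * cQ (X8 1)) hg
    have h1 := afn_mem (ωQ K * cQ (X8 1)) hh
    rw [BB_mul h2 (O1_conj hy _) (inv_mem hy) g hh, BB_conj h2 hy _ hg hh, BB_inv h2 hy _ hh, e _ g1 _ h1, e _ hg _ hh,
      BB_exp h2 hx (afn_mem _ g1) (afn_mem _ h1), BB_exp h2 hx g1 h1, BB_exp h2 hx (afn_mem _ hg) (afn_mem _ hh),
      BB_exp h2 hx hg hh] at a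
    simp only [co_t h2 g1, co_t h2 h1, co_t h2 hg, co_t h2 hh, co_π h2 hg, co_π h2 hh] at a
    exact a
  have q1 : X1 (1 : K) ∈ Qs := ⟨rfl, rfl⟩
  have q2 : Y2 (1 : K) ∈ Qs := ⟨rfl, rfl⟩
  have q3 : Y6 (1 : K) ∈ Qs := ⟨rfl, rfl⟩
  have q4 : X7 (1 : K) ∈ Qs := ⟨rfl, rfl⟩
  have a1 := key _ q1 _ q2
  have a2 := key _ q1 _ q3
  have a3 := key _ q1 _ q4
  have a4 := key _ q2 _ q3
  have a5 := key _ q2 _ q4
  have a6 := key _ q3 _ q4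
  simp only [UE] at a1 a2 a3 a4 a5 a6
  grind

end TQ

open TQ in
/-- PROOF.  `σ = id`.  `w = ωQ K`, `t = cQ (Y8 1)`, `cQ (X8 1) = t ^ 2`, `t ^ 4 = 1`, `π = w * t ^ 2`.  `ω_rel` gives `t w t² = w t w`, so
`t π t⁻¹ = π ^ 3` and `π ^ 5 = 1` (`π² = t⁻¹ w t⁻¹`, `π⁴ = t² w`).  `gt` (`O = OQ K`, `N = Inn Qs`, `a = α * t ^ 2`) gives `x, c, n`.
`O1 = {x ∈ OQ K | x` fixes `As` pointwise`}`; for `x ∈ O1` put `δ x h = h⁻¹ * x h`, `B x g h = pr g (δ x h)`.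
(a) Every `x ∈ OQ K` is `cQ q * x₁` with `q ∈ Qs`, `x₁ ∈ O1` (`OQ_struct`: `x v = v * X4 (ε v)`, `ε` additive; `q.x1 = ε (X6 1)`,
 `q.x7 = ε (X2 1)`, `q.y2 = ε (X5 1)`, `q.y6 = ε (X3 1)`; `comm_pr`).  So we may take `x ∈ O1` (the data change by inner automorphisms).
(b) For `x ∈ O1`, `g ∈ Qs`, `d = δ x g ∈ Ps`: `x` fixes `g * g ∈ As`, so `g⁻¹ d g = d⁻¹`; hence `d ∈ As` (if `d.y4 ≠ 0` then `g ∈ Ps`,
 `OQ_struct`) and `pr g d = 0`.  `δ x (g h) = h⁻¹ (δ x g) h δ x h`, so `B x` is biadditive, alternating, symmetric, zero on `Ps`: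
 `B x g h = ∑ bij (gi hj + gj hi)` in the coordinates `(x1, y2, y6, x7)`, six bits `bij = B x ei ej`.
(c) `B (x y) = B x + B y`; `B (s⁻¹ x s) g h = B x (s g) (s h)` for `s = t, π` (they preserve `As`, `Ps`, fix `Zs`, so preserve `pr`);
 `cQ q ∈ O1` forces `q ∈ Ps` and `B = q.y4 β`, `β = b03 + b12`; `γ = rQ (γ0 h2) ∈ O1` has `B = b01`.  Modulo `Ps`:
 `t : e0 ↦ e0+e1+e2+e3, e1 ↦ e1+e2, e2 ↦ e2+e3, e3 ↦ e3`; `π : e0 ↦ e0+e1+e3, e1 ↦ e0+e2, e2 ↦ e1, e3 ↦ e0`.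
(d) `y = t⁻¹ x⁻¹ t x = c n ∈ O1`, `π⁻¹ y π y⁻¹` is inner and in `O1`.  So `D = B^t + B` has `D^π + D ∈ {0, β}`; case analysis on the six
 bits (`decide` over `Bool`/`ZMod 2`; solutions `b01, β` arbitrary plus `0` or `b02 + b03 + b13`) gives `i ∈ {0, 1}` such that `z = γ ^ i * x` has
 `B^π + B ∈ {0, β}`.
(e) `u = π⁻¹ z π z⁻¹ ∈ O1`; `u' = cQ (Y4 k) * u` has `B = 0`, so `δ u' : Q → Zs` is a homomorphism trivial on `As`.
 `e x = (δ x (Y4 1)).x4` is additive on `O1`, invariant under `π` (`π (Y4 1) = Y4 1`) and zero on `cQ (Y4 k)`, so `e u' = 0` and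
 `u' = cQ v`, `v ∈ As` chosen with `pr ei v = (δ u' ei).x4`.  So `z π z⁻¹ ∈ π Inn`, `γ ^ i π γ ^ (-i) ∈ A`, and `γ t² γ⁻¹ ∈ Tn Qs ≤ A`
 (`res_conj`). -/
theorem twoQ (h2 : ∀ x : K, x = 0 ∨ x = 1) (h₀ : SA A₀) (L : Lc A₀ Qs A) (h : ∃ α ∈ A, (ωQ K)⁻¹ * α ∈ OQ K) :
    ωQ K ∈ A ∨ rQ (γ0 h2) * ωQ K * (rQ (γ0 h2))⁻¹ ∈ A := by
  have hT := L.Tn_le h₀
  have hI : Inn (Qs : Subgroup (U K)) ≤ A := inn_le_Tn.trans hT
  have hN : (Inn (Qs : Subgroup (U K))).Normal := inferInstance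
  have t2 : cQ (Y8 (1 : K)) ^ 2 = cQ (X8 1) := by
    rw [← map_pow, ← map_pow]; congr 2; rw [pow_two]; ext <;> simp only [UE]
  have t4 : cQ (Y8 (1 : K)) ^ 4 = 1 := by
    have : X8 (1 : K) ^ 2 = 1 := by rw [pow_two]; ext <;> simp only [UE]
    rw [show 4 = 2 * 2 from rfl, pow_mul, t2, ← map_pow, ← map_pow, this, map_one, map_one]
  obtain ⟨r1, r2⟩ := rel ωQ_sq t4 (by rw [t2, ω_rel]; simp only [cQ, map_inv])
  rw [t2] at r1 r2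
  have hX : cQ (X8 1) ∈ A := hT ⟨_, rfl⟩
  obtain ⟨α, hα, h⟩ := h
  obtain ⟨x₀, hx₀, a1, c, -, hc, n, hn, a2⟩ := gt (A := A) isPGroup_OQ inn_le_OQ (fun a ha h => L.mem_inn isPGroup_OQ ha h)
    (by decide : Odd 5) r1 r2 (hT ⟨_, rfl⟩) ⟨α * cQ (X8 1), mul_mem hα hX, by
      have := (inferInstance : (OQ K).Normal).conj_mem' _ h (cQ (X8 1))
      convert this using 1; group⟩
  obtain ⟨m, hm, hx⟩ := red h2 hx₀
  have hγ := γ_O1 h2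
  have hb := bits h2 hx
  have hi := fun z hz => inn_of h2 (x := z) hz π_Y4
  have hπ := fun g hg => co_π h2 (g := g) hg
  have hw : ωQ K = ωQ K * cQ (X8 1) * (cQ (X8 1))⁻¹ := by group
  have hγX : rQ (γ0 h2) * cQ (X8 1) * (rQ (γ0 h2))⁻¹ ∈ A := by rw [res_conj]; exact hT ⟨_, rfl⟩
  generalize ωQ K * cQ (X8 1) = π at *
  generalize cQ (Y8 (1 : K)) = t at *
  have a3 : m * x₀ * π * (m * x₀)⁻¹ ∈ A := by
    have := mul_mem (mul_mem (hI hm) a1) (inv_mem (hI hm))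
    convert this using 1; group
  obtain ⟨n', hn', a4⟩ : ∃ n' ∈ Inn (Qs : Subgroup (U K)), t⁻¹ * (m * x₀)⁻¹ * t * (m * x₀) = c * n' :=
    ⟨n * (x₀⁻¹ * (t⁻¹ * m⁻¹ * t * m) * x₀), mul_mem hn (hN.conj_mem' _ (mul_mem (hN.conj_mem' _ (inv_mem hm) _) hm) _), by
      calc _ = t⁻¹ * (x₀⁻¹ * t * x₀) * (x₀⁻¹ * (t⁻¹ * m⁻¹ * t * m) * x₀) := by group
        _ = _ := by rw [a2]; group⟩
  generalize m * x₀ = x at *
  obtain ⟨b1, b2, b3⟩ := hb (by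
    rw [a4]
    have := hN.conj_mem _ (mul_mem (hN.conj_mem' _ hn' π) (inv_mem hn')) c
    convert this using 1
    calc _ = π⁻¹ * (c * π) * (π⁻¹ * n' * π * n'⁻¹) * c⁻¹ := by group
      _ = _ := by rw [hc]; group)
  rcases h2 (BB x (X1 1) (Y2 1)) with b0 | b0
  · left
    have := hi x hx fun g hg h hh => by
      rw [BB_exp h2 hx (afn_mem _ hg) (afn_mem _ hh), BB_exp h2 hx hg hh]
      simp only [hπ g hg, hπ h hh, b0, b1, b2, b3]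
      grind
    have hπA : π ∈ A := by
      have := mul_mem a3 (inv_mem (hI this))
      convert this using 1; group
    rw [hw]; exact mul_mem hπA (inv_mem hX)
  · right
    have hz := mul_mem (inv_mem hγ) hx
    have := hi _ hz fun g hg h hh => by
      rw [BB_mul h2 (inv_mem hγ) hx _ (afn_mem _ hh), BB_mul h2 (inv_mem hγ) hx _ hh, BB_inv h2 hγ _ (afn_mem _ hh),
        BB_inv h2 hγ _ hh, BB_γ h2 _ (afn_mem _ hh), BB_γ h2 _ hh, BB_exp h2 hx (afn_mem _ hg) (afn_mem _ hh),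
        BB_exp h2 hx hg hh]
      simp only [hπ g hg, hπ h hh, b0, b1, b2, b3]
      grind
    have := mul_mem (mul_mem a3 (inv_mem (hI (hN.conj_mem _ this (rQ (γ0 h2)))))) (inv_mem hγX)
    rw [hw]
    convert this using 1; group

end Cfsg.Agent.RFS
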