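import Cfsg.Agent.RFS.TwoC
import Cfsg.Agent.RFS.GT

/-!
`q = 2`: the automizer of `R` is unique up to automorphisms of `S`.
Read `RFS/Def` (and the commutator table at the top of `RFS/Es`, the signatures of `RFS/Inv`, `RFS/Ker`).  Coordinates:
`simp only [mem_X, cm, UE, h..] <;> grind`; `afn_cm`, `homOn_afn`, `afn_res`, `afn_cQ`, `afn_cR`, `mem_OQ`, `mem_OR`, `decomp`.

-/

set_option autoImplicit false
set_option linter.unusedSectionVars false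
set_option linter.unusedSimpArgs false
set_option maxRecDepth 20000

namespace Cfsg.Agent.RFS

open Subgroup Cfsg.Agent.Oct Cfsg.Agent.S2F Cfsg.Agent.Fus

variable {K : Type*} [Field K] [Tw K] [Finite K] {A₀ : Subgroup (MulAut (U K))}
  {A : Subgroup (MulAut (Qs : Subgroup (U K)))} {B : Subgroup (MulAut (Rs : Subgroup (U K)))}

namespace TwoR

theorem g0_R {g : U K} (hg : g ∈ Rs) : g0 g = g * (X6 (g.y2 + g.y8) * X4 g.y8) := by
  rw [mem_Rs] at hg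
  ext <;> simp only [g0, UE, hg] <;> grind

theorem mem_W {y : U K} (hy : y ∈ Rs) (h : ∀ g ∈ Rs, y * g = g * y) : y ∈ Ws := by
  have x1 : y.x1 = 0 := hy
  have a := h (X5 1) rfl
  have b := h (X7 1) rfl
  have c := h (X3 1) rfl
  have d := h (X2 1) rfl
  have e := h (X8 1) rfl
  have f := h (Y8 1) rfl
  simp only [U.ext_iff, UE, x1] at a
  have y2 : y.y2 = 0 := by grind
  have y8 : y.y8 = 0 := by grind
  simp only [U.ext_iff, UE, x1, y2, y8] at b c d e f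
  simp only [mem_Ws, x1, y2, y8]
  grind

theorem cR_mul (a b : U K) : cR (a * b) = cR a * cR b := by rw [cR, map_mul, map_mul]

theorem cR_one {w : U K} (hw : w ∈ Rs) (h : cR w = 1) : w ∈ Ws := mem_W hw fun g hg => by
  rw [← mul_inv_eq_iff_eq_mul, ← afn_cR w hg, h, afn_one]

theorem ss : (X1 1 : U K) * X1 1 = 1 := by ext <;> simp only [UE]

theorem tt : cR (X1 1 : U K) * cR (X1 1) = 1 := by rw [← cR_mul, ss, cR, map_one, map_one]

theorem ext0 {Ω : Type*} [Group Ω] [Finite Ω] {R : Subgroup Ω} [R.Characteristic] {s s' : Ω}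
    (hs : s * s = 1) (hs' : s' * s' = 1) (h0 : s' ∉ R) (h1 : ∀ u ∉ R, u * s ∈ R) (y : MulAut R)
    (h : ∀ g ∈ R, afn y (s * g * s⁻¹) = s' * afn y g * s'⁻¹) :
    ∃ γ : MulAut Ω, MulAut.characteristic R γ = y := by
  classical
  have n : ∀ g ∈ R, s * g * s⁻¹ ∈ R := fun g hg => Normal.conj_mem inferInstance g hg s
  have f := homOn_afn y
  let γ : Ω →* Ω := MonoidHom.mk' (fun u => if u ∈ R then afn y u else afn y (u * s) * s') fun u v => by
    by_cases hu : u ∈ R <;> by_cases hv : v ∈ R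
    · simp only [hu, hv, mul_mem hu hv, if_true, f u hu v hv]
    · simp only [hu, hv, (mul_mem_cancel_left hu).not.2 hv, if_true, if_false]
      rw [mul_assoc u, f u hu _ (h1 v hv), mul_assoc]
    · simp only [hu, hv, (mul_mem_cancel_right hv).not.2 hu, if_true, if_false]
      rw [show u * v * s = u * s * (s * v * s⁻¹) by
        rw [inv_eq_of_mul_eq_one_left hs, mul_assoc u s, ← mul_assoc s, ← mul_assoc s, hs]; group,
        f _ (h1 u hu) _ (n v hv), h v hv]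
      group
    · have e : u * v = u * s * (s * (v * s) * s⁻¹) := by
        rw [mul_assoc u s, ← mul_assoc s, ← mul_assoc s, hs]; group
      have : u * v ∈ R := e ▸ mul_mem (h1 u hu) (n _ (h1 v hv))
      simp only [hu, hv, this, if_true, if_false]
      rw [e, f _ (h1 u hu) _ (n _ (h1 v hv)), h _ (h1 v hv), inv_eq_of_mul_eq_one_left hs']
      group
  have inj : Function.Injective γ := (injective_iff_map_eq_one γ).2 fun u e => by
    by_cases hu : u ∈ R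
    · have e' : afn y u = 1 := by simpa [γ, hu] using e
      rw [← afn_inv_afn y hu, e', (homOn_afn _).map_one]
    · have e' : afn y (u * s) * s' = 1 := by simpa [γ, hu] using e
      exact (h0 (eq_inv_of_mul_eq_one_right e' ▸ inv_mem (afn_mem y (h1 u hu)))).elim
  refine ⟨MulEquiv.ofBijective γ (Finite.injective_iff_bijective.1 inj), aut_ext fun x hx => ?_⟩
  rw [afn_res _ hx]
  simp [γ, hx]

theorem bad (h2 : ∀ x : K, x = 0 ∨ x = 1) {s : U K} (h1 : s.x1 = 1) : s * g0 s ∉ Ws := fun h => by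
  have hσ : ∀ x : K, σ x = x := fun x => by rcases h2 x with rfl | rfl <;> simp
  simp only [mem_Ws, g0, UE, hσ, h1] at h
  have y8 : s.y8 = 0 := by grind
  simp only [UE, y8] at h
  have x8 : s.x8 = 0 := by grind
  simp only [UE, x8] at h
  rcases h2 s.y2 with a | a <;> rcases h2 s.y6 with b | b <;> simp only [UE, a, b] at h <;> grind

end TwoR

open TwoR

/-- `l = rR (γ0 h2)` is `g ↦ g * X6 (y2 + y8) * X4 y8`; compute both sides on `g ∈ Rs` (`ψ (g * X6 a * X4 b) = ψ g * X4 a * X6 b`,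
`ψ_y2`, `ψ_y8`, `X1 1 * X6 a * (X1 1)⁻¹ = X6 a * X4 a`). -/
theorem γ0_ρ (h2 : ∀ x : K, x = 0 ∨ x = 1) :
    rR (γ0 h2) * (ψR K * cR (X1 1)) = ψR K * cR (X1 1) * rR (γ0 h2) := by
  refine aut_ext fun g hg => ?_
  have n := (nor_Rs (K := K)).conj_mem
  have a1 := n _ hg (X1 1)
  have a2 : g0 g ∈ Rs := hg
  have w : ∀ a b : K, X6 a * X4 b ∈ (Rs : Subgroup (U K)) := fun a b => by simp only [mem_Rs, UE]
  rw [afn_mul _ _ hg, afn_mul _ _ hg, afn_cR _ hg, afn_ψR a1, afn_res _ (ψ_mem _), afn_mul _ _ hg,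
    afn_res _ hg]
  change g0 _ = afn _ (g0 g)
  rw [afn_mul _ _ a2, afn_cR _ a2, afn_ψR (n _ a2 _), g0_R hg, g0_R (ψ_mem _), ψ_y2, ψ_y8,
    show X1 1 * (g * (X6 (g.y2 + g.y8) * X4 g.y8)) * (X1 1)⁻¹ =
      X1 1 * g * (X1 1)⁻¹ * (X1 1 * (X6 (g.y2 + g.y8) * X4 g.y8) * (X1 1)⁻¹) by group,
    ψ_mul a1 (n _ (w _ _) _)]
  congr 1
  ext <;> simp only [ψ, UE]

/-- `l ψ l⁻¹ = ρ * (l t l⁻¹)⁻¹` with `t = cR (X1 1)`, `res_conj`. -/
theorem γ0_ψ (h2 : ∀ x : K, x = 0 ∨ x = 1) (hT : Tn Rs ≤ B) (hψ : ψR K ∈ B) :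
    rR (γ0 h2) * ψR K * (rR (γ0 h2))⁻¹ ∈ B := by
  rw [show rR (γ0 h2) * ψR K * (rR (γ0 h2))⁻¹ = rR (γ0 h2) * (ψR K * cR (X1 1)) * (rR (γ0 h2))⁻¹ *
    (rR (γ0 h2) * cR (X1 1) * (rR (γ0 h2))⁻¹)⁻¹ by group, γ0_ρ, mul_inv_cancel_right, res_conj]
  exact mul_mem (mul_mem hψ (hT ⟨_, rfl⟩)) (inv_mem (hT ⟨_, rfl⟩))

/-- An automorphism of `R` normalising the conjugations extends.  PROOF.  `s = X1 1`, `s' = s r`; `y (s g s⁻¹) = s' (y g) s'⁻¹`.  `s'²`
centralises `R` and `s'`, so it lies in `Zs` (`chR_Ws` proof pattern; `s'.x1 = 1`).  If `s'² = X4 1` replace `s'` by `s' * X6 1`.  So `s'² = 1`;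
define `γ u = if u.x1 = 0 then y u else y (u * s) * s'` and check multiplicativity in four cases; injective, so bijective. -/
theorem ext_two (h2 : ∀ x : K, x = 0 ∨ x = 1) {y : MulAut (Rs : Subgroup (U K))} {r : U K} (hr : r ∈ Rs)
    (h : y * cR (X1 1) * y⁻¹ = cR (X1 1 * r)) : ∃ γ : MulAut (U K), rR γ = y := by
  have x1 : (X1 1 * r).x1 = 1 := by simp only [UE, show r.x1 = 0 from hr]
  generalize X1 1 * r = s at h x1
  have hw : s * s ∈ Ws := cR_one (by simp only [mem_Rs, UE, x1]) (by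
    rw [cR_mul, ← h, show y * cR (X1 1) * y⁻¹ * (y * cR (X1 1) * y⁻¹) =
      y * (cR (X1 1) * cR (X1 1)) * y⁻¹ by group, tt]; group)
  have w6 : X6 (s * s).x4 ∈ (Ws : Subgroup (U K)) := by simp only [mem_Ws, UE, and_self]
  refine ext0 ss (s' := s * X6 (s * s).x4) ?_ (by simp only [mem_Rs, UE, x1]; simp)
    (fun u hu => ?_) y fun g hg => ?_
  · have e := congrArg U.x4 (mul_assoc s s s)
    rw [show s * X6 (s * s).x4 * (s * X6 (s * s).x4) =
      s * X6 (s * s).x4 * s⁻¹ * (s * s) * X6 (s * s).x4 by group]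
    generalize s * s = w at *
    rw [mem_Ws] at hw
    simp only [UE, hw, x1] at e
    ext <;> simp only [UE, hw, x1] <;> grind
  · simp only [mem_Rs, UE, (h2 u.x1).resolve_left hu]
  · have a := afn_mem y hg
    rw [← afn_cR _ hg, ← afn_mul _ _ hg, eq_mul_of_mul_inv_eq h, afn_mul _ _ hg, afn_cR _ a,
      mul_assoc s (X6 _), com_Ws_Rs w6 a]
    group

/-- PROOF.  `t = cR (X1 1)`, `ρ = ψR K * t`, `ρ ^ 3 = 1` (`ψ_rel`), `t ρ t⁻¹ = ρ ^ 2`.  `gt` (`O = OR K`, `N = Inn Rs`, `a = μ t`) gives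
`x, c, n`; `twoC` describes `c`.  If `c = cR r * l`: `x⁻¹ t x = cR s * l` with `s ∈ X1 1 * Rs` (`aut_conj`), and its square is `1`.  But
`(cR s * l)² = cR (s * g0 s)`, so `s * g0 s` centralises `R`, lies in `Ws`; with `s.x1 = 1` the coordinates y2, y6, x2, x3 give
`y8 = x8 = 0`, `y4 = y2 + y6`, `x7 = y2 + y6 + y2 y6`, and then `(s * g0 s).x5 = 1` (cases on `y2, y6`), absurd.  So `x⁻¹ t x = cR (X1 1 * r')`,
`ext_two` gives `γ'` with `rR γ' = x⁻¹`, `γ = γ'⁻¹`, and `x ψ x⁻¹ = x ρ x⁻¹ * (x t x⁻¹)⁻¹ ∈ B` (`res_conj`). -/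
theorem twoR (h2 : ∀ x : K, x = 0 ∨ x = 1) (h₀ : SA A₀) (L : Lc A₀ Rs B) (h : ∃ μ ∈ B, (ψR K)⁻¹ * μ ∈ OR K) :
    ∃ γ : MulAut (U K), rR γ * ψR K * (rR γ)⁻¹ ∈ B := by
  obtain ⟨μ, hμ, hO⟩ := h
  have hT := L.Tn_le h₀
  obtain ⟨x, -, h1, c, hc, h3, n, hn, e⟩ := gt (O := OR K) (N := Inn Rs) (A := B) isPGroup_OR inn_le_OR
    (fun a ha ho => L.mem_inn isPGroup_OR ha ho) (ρ := ψR K * cR (X1 1)) (t := cR (X1 1)) (r := 3) (j := 2)
    (by decide) ψ_rel (by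
      rw [eq_comm, ← mul_left_inj (ψR K * cR (X1 1)), ← pow_succ, ψ_rel, mul_assoc (cR (X1 1)),
        mul_inv_cancel_right, mul_assoc, ← mul_assoc (ψR K), ψR_sq, one_mul, tt]) (hT ⟨_, rfl⟩)
    ⟨μ * cR (X1 1), mul_mem hμ (hT ⟨_, rfl⟩), by
      simpa [mul_assoc] using Normal.conj_mem inferInstance _ hO (cR (X1 1))⁻¹⟩
  obtain ⟨m, hm, rfl⟩ := mem_Inn'.1 hn
  obtain ⟨r, hr, rfl | rfl⟩ := twoC h2 hc h3
  · obtain ⟨γ, hγ⟩ := ext_two h2 (y := x⁻¹) (mul_mem hr hm) (by rw [inv_inv, e, cR_mul, cR_mul, mul_assoc])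
    obtain rfl : x = rR γ⁻¹ := by rw [map_inv, hγ, inv_inv]
    refine ⟨γ⁻¹, ?_⟩
    rw [show rR γ⁻¹ * ψR K * (rR γ⁻¹)⁻¹ = rR γ⁻¹ * (ψR K * cR (X1 1)) * (rR γ⁻¹)⁻¹ *
      (rR γ⁻¹ * cR (X1 1) * (rR γ⁻¹)⁻¹)⁻¹ by group, res_conj]
    exact mul_mem h1 (inv_mem (hT ⟨_, rfl⟩))
  · have ll : rR (γ0 h2) * rR (γ0 h2) = 1 := by
      rw [← map_mul, show γ0 h2 * γ0 h2 = 1 from MulEquiv.ext g0_g0, map_one]
    have k : ∀ g, rR (γ0 h2) * cR g = cR (g0 g) * rR (γ0 h2) := fun g =>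
      eq_mul_of_mul_inv_eq (res_conj (γ0 h2) g)
    have e' : x⁻¹ * cR (X1 1) * x = cR (X1 1 * r * g0 m) * rR (γ0 h2) := by
      rw [e, cR_mul, cR_mul, mul_assoc, mul_assoc, k, mul_assoc, mul_assoc]
    have x1 : (X1 1 * r * g0 m).x1 = 1 := by
      simp only [UE, g0, show r.x1 = 0 from hr, show m.x1 = 0 from hm]
    generalize X1 1 * r * g0 m = s at e' x1
    refine (bad h2 x1 (cR_one (by simp only [mem_Rs, UE, g0, x1]) ?_)).elim
    calc cR (s * g0 s) = cR s * rR (γ0 h2) * (cR s * rR (γ0 h2)) := by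
          rw [mul_assoc, ← mul_assoc (rR (γ0 h2)), k, mul_assoc, ll, mul_one, cR_mul]
      _ = x⁻¹ * (cR (X1 1) * cR (X1 1)) * x := by rw [← e']; group
      _ = 1 := by rw [tt]; group

end Cfsg.Agent.RFS
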