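import Cfsg.Agent.RFS.AN
import Cfsg.Agent.RFS.AQ1
import Cfsg.Agent.RFS.AQ2
import Cfsg.Agent.RFS.AR
import Cfsg.Agent.RFS.AutS
import Cfsg.Agent.RFS.Tor
import Cfsg.Agent.RFS.CenR
import Cfsg.Agent.RFS.TwoQ
import Cfsg.Agent.RFS.TwoR
import Cfsg.Agent.RFS.Mod

/-! Every saturated fusion system on the Sylow `2`-subgroup of `²F₄(q)` is realizable. -/

set_option autoImplicit false
set_option linter.unusedSectionVars false

namespace Cfsg.Agent.RFS

open Subgroup Cfsg.Agent.Oct Cfsg.Agent.S2F Cfsg.Agent.Fus Cfsg.FusionSystem Cfsg.Agent.SpF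

section Gen

variable {Ω : Type*} [Group Ω] [Finite Ω] {F F' : FusionSystem (⊤ : Subgroup Ω)} {E : Subgroup Ω} [E.Characteristic]

theorem Tn_eq (E : Subgroup Ω) [E.Characteristic] : Tn E = autInducedBy ⊤ E := by
  ext α
  rw [mem_Tn, mem_autInducedBy_iff]
  exact exists_congr fun g => ⟨fun h => ⟨trivial, fun x => h ▸ rfl⟩, fun h => MulEquiv.ext fun x => Subtype.ext (h.2 x).symm⟩

theorem res_mem {φ : MulAut Ω} (h : φ ∈ AS F) : MulAut.characteristic E φ ∈ F.autGroup E :=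
  mem_autGroup_of_isMap (IsMap.mono h le_top) fun _ hx => afn_res φ hx

theorem sa_AS (hS : IsPGroup 2 (⊤ : Subgroup Ω)) (hF : F.IsSaturated 2) : SA (AS F) := by
  refine ⟨conj_mem_AS F, (sylIn_map_iff_of_injective (by rintro _ ⟨g, rfl⟩; exact conj_mem_AS F g)
    (MulAut.characteristic (⊤ : Subgroup Ω)) fun a b e => MulEquiv.ext fun x => by
      rw [← afn_res (E := ⊤) a (mem_top x), e, afn_res b (mem_top x)]).1 ?_⟩
  convert sat_sylIn_inn hS hF using 1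
  · ext α
    rw [mem_Inn']
    exact ⟨by rintro ⟨_, ⟨g, rfl⟩, rfl⟩; exact ⟨g, trivial, rfl⟩, by rintro ⟨g, -, rfl⟩; exact ⟨_, ⟨g, rfl⟩, rfl⟩⟩
  · ext α
    refine ⟨by rintro ⟨φ, h, rfl⟩; exact res_mem h, fun h => ?_⟩
    obtain ⟨φ, h1, h2⟩ := exists_AS ((mem_autGroup le_rfl).1 h)
    exact ⟨φ, h1, aut_ext fun x hx => (afn_res φ hx).trans (h2 x)⟩

theorem lc_AS (hS : IsPGroup 2 (⊤ : Subgroup Ω)) (hF : F.IsSaturated 2) (hE : F.IsEssential 2 E) :
    Lc (AS F) E (F.autGroup E) where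
  res _ := res_mem
  syl := Tn_eq E ▸ (sat_fullyAutomized hS hF hE.2.1).2
  rad _ := radical_le_inn (radical_of_essential hS hE)
  nn := Tn_eq E ▸ not_norm hS hF hE
  ext α hα h := by
    rw [Tn_eq] at h
    obtain ⟨f, hf, e⟩ := sat_extend_of_centric (R := ⊤) hS hF ((mem_autGroup le_top).1 hα) hE.1 fun s _ =>
      have hs : s ∈ normalizerIn ⊤ E := mem_normalizerIn_of_conj trivial fun _ hx => Normal.conj_mem inferInstance _ hx s
      mem_Nf_afn hs (h _ (conjAut_mem_autInducedBy hs))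
    obtain ⟨φ, h3, h4⟩ := exists_AS hf
    exact ⟨φ, h3, aut_ext fun x hx => (afn_res φ hx).trans ((h4 x).trans (e x hx))⟩

theorem imX_chr (γ : MulAut Ω) (E : Subgroup Ω) [h : E.Characteristic] : imX γ E = E :=
  imX_eq_of (fun _ hx => characteristic_iff_le_comap.1 h γ hx) fun y hy =>
    ⟨_, characteristic_iff_le_comap.1 h γ.symm hy, γ.apply_symm_apply y⟩

theorem push_aut {γ : MulAut Ω} (h : FIso F F' γ γ.symm) {α : MulAut E}
    (hα : MulAut.characteristic E γ⁻¹ * α * (MulAut.characteristic E γ⁻¹)⁻¹ ∈ F.autGroup E) : α ∈ F'.autGroup E := by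
  rw [mem_autGroup le_top] at hα ⊢
  have := h.isMap hα (f' := afn α) fun x hx => by
    have h1 := afn_mem (MulAut.characteristic E γ) hx
    rw [← map_inv, inv_inv, afn_mul _ _ hx, afn_mul _ _ h1, afn_res _ (afn_mem _ h1), afn_res _ hx,
      MulAut.apply_inv_self]
  rwa [imX_chr] at this

theorem push_AS {γ φ : MulAut Ω} (h : FIso F F' γ γ.symm) (hφ : φ ∈ AS F') : φ ∈ (AS F).map (MulAut.conj γ).toMonoidHom := by
  refine ⟨γ⁻¹ * φ * γ, ?_, by simp [mul_assoc]⟩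
  have := h.symm.isMap hφ (f' := (γ⁻¹ * φ * γ : MulAut Ω)) fun x _ => by simp [MulAut.inv_def]
  rwa [show imX γ.symm ⊤ = ⊤ from imX_chr γ.symm ⊤] at this

end Gen

variable {K : Type*} [Field K] [Tw K] [Finite K] {F F' : FusionSystem (⊤ : Subgroup (U K))}

theorem p2 : IsPGroup 2 (⊤ : Subgroup (U K)) := isPGroup_U.to_subgroup _

theorem ess_QR (hF : F.IsSaturated 2) {E : Subgroup (U K)} (hE : F.IsEssential 2 E) : E = Qs ∨ E = Rs := by
  have h := es_of_essential p2 hF hE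
  by_cases hQ : E ≤ Qs
  · exact .inl (caseQ h hQ (As_le h hQ))
  · exact .inr (caseR h (by_contra fun hR => caseN h hR hQ) hQ)

theorem le_of (hF : F.IsSaturated 2) (h : AS F ≤ AS F') (hω : ωQ K ∈ F.autGroup Qs) (hψ : ψR K ∈ F.autGroup Rs)
    (hω' : ωQ K ∈ F'.autGroup Qs) (hψ' : ψR K ∈ F'.autGroup Rs) : F ≤ F' := by
  refine alperin_le p2 hF F' ?_
  rintro P (rfl | hP) α hα
  · obtain ⟨φ, h1, h2⟩ := exists_AS ((mem_autGroup le_rfl).1 hα)
    exact mem_autGroup_of_isMap (h h1) fun x _ => (h2 x).symm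
  obtain rfl | rfl := ess_QR hF hP
  · obtain ⟨φ, h1, rfl | ⟨g, rfl⟩⟩ := genQ (sa_AS p2 hF) (lc_AS p2 hF hP) hω hα
    exacts [res_mem (h h1), mul_mem (mul_mem (res_mem (conj_mem_AS F' g)) hω') (res_mem (h h1))]
  · obtain ⟨φ, h1, rfl | ⟨g, rfl⟩⟩ := genR (sa_AS p2 hF) (lc_AS p2 hF hP) hψ hα
    exacts [res_mem (h h1), mul_mem (mul_mem (res_mem (conj_mem_AS F' g)) hψ') (res_mem (h h1))]

theorem tf_eq (a b : Kˣ) (f : K ≃+* K) : tf a b f = tf a b 1 * tf 1 1 f := by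
  rw [tf_mul]
  congr 1 <;> ext <;> simp

theorem real_of (hF : F.IsSaturated 2) (hf : Form (AS F)) (hT : ∀ a b : Kˣ, tf a b 1 ∈ AS F)
    (hω : ωQ K ∈ F.autGroup Qs) (hψ : ψR K ∈ F.autGroup Rs) : F.IsRealizable 2 := by
  let Φ : Subgroup (K ≃+* K) :=
    { carrier := {f | tf 1 1 f ∈ AS F}
      one_mem' := hT 1 1
      mul_mem' := fun {f f'} a b => by
        have := (AS F).mul_mem a b
        rwa [tf_mul, show um f (1 : Kˣ) = 1 from map_one _, mul_one] at this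
      inv_mem' := fun {f} a => by
        have := (AS F).inv_mem a
        rwa [tf_inv, inv_one, show um f⁻¹ (1 : Kˣ) = 1 from map_one _] at this }
  obtain ⟨G, _, _, ι, hι, hi, ⟨w, hw⟩, ⟨n, hn⟩, h1, h2⟩ := exists_mod Φ
  let j := ι.comp (⊤ : Subgroup (U K)).subtype
  have hr : j.range = ι.range := by rw [MonoidHom.range_comp, range_subtype, ← MonoidHom.range_eq_map]
  obtain ⟨b, hb⟩ := gIso_of_injective j (hι.comp Subtype.val_injective)
  obtain ⟨F₀, h⟩ := exists_fIso (groupFusionSystem j.range) hb.symm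
  have h3 : F₀.IsRealizedBy j := isRealizedBy_of_fIso h.symm fun x => (hfn_apply j x.2).symm
  have h4 : ∃ T : Sylow 2 G, (T : Subgroup G) = j.range :=
    ⟨(isPGroup_U.of_surjective _ ι.rangeRestrict_surjective).toSylow hi, hr.symm⟩
  have e : ∀ x, hfn j x = ι x := fun x => hfn_apply j (mem_top x)
  have k : ∀ {P f} (g : G), (∀ u ∈ P, g * ι u * g⁻¹ = ι (f u)) → IsMap F₀ P f := fun g hg =>
    IsRealizedBy_isMap h3 le_top (fun _ _ => trivial) g fun z hz => by rw [e, e, hg z hz]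
  have hω' : ωQ K ∈ F₀.autGroup Qs := mem_autGroup_of_isMap (k w hw) fun _ => afn_ωQ
  have hψ' : ψR K ∈ F₀.autGroup Rs := mem_autGroup_of_isMap (k n hn) fun _ => afn_ψR
  obtain rfl : F = F₀ := by
    refine fs_le_antisymm (le_of hF (fun φ hφ => ?_) hω hψ hω' hψ')
      (le_of (saturated_of_isRealizedBy h3 h4) (fun φ hφ => ?_) hω' hψ' hω hψ)
    · obtain ⟨g, a, b, f, rfl⟩ := hf φ hφ
      have h5 := (mul_mem_cancel_left (conj_mem_AS F g)).1 hφ
      rw [tf_eq] at h5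
      obtain ⟨x, hx⟩ := h1 a b f ((mul_mem_cancel_left (hT a b)).1 h5)
      exact mul_mem (conj_mem_AS F₀ g) (k x fun u _ => hx u)
    · obtain ⟨g, hg⟩ := IsRealizedBy_exists_conj h3 hφ
      obtain ⟨s, a, b, f, h5, h6⟩ := h2 g φ fun u => by rw [← e, ← e, hg u trivial]
      rw [show φ = MulAut.conj s * tf a b f from MulEquiv.ext h6, tf_eq]
      exact mul_mem (conj_mem_AS F s) (mul_mem (hT a b) h5)
  exact isRealizable_of_isRealizedBy h3 h4

/-- Both `Q` and `R` are essential. -/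
structure Bo (F : FusionSystem (⊤ : Subgroup (U K))) : Prop where
  sat : F.IsSaturated 2
  eQ : F.IsEssential 2 Qs
  eR : F.IsEssential 2 Rs

theorem Bo.push (H : Bo F) {γ : MulAut (U K)} (h : FIso F F' γ γ.symm) : Bo F' :=
  ⟨h.saturated H.sat, imX_chr γ Qs ▸ h.essential H.eQ, imX_chr γ Rs ▸ h.essential H.eR⟩

theorem Form.push (h2 : ∀ x : K, x = 0 ∨ x = 1) (hf : Form (AS F)) {γ : MulAut (U K)} (h : FIso F F' γ γ.symm) :
    Form (AS F') := fun φ hφ => by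
  obtain ⟨χ, h1, rfl⟩ := push_AS h hφ
  obtain ⟨g, a, b, f, rfl⟩ := hf χ h1
  obtain rfl : a = 1 := Units.ext ((h2 a).resolve_left a.ne_zero)
  obtain rfl : b = 1 := Units.ext ((h2 b).resolve_left b.ne_zero)
  obtain rfl : f = 1 := RingEquiv.ext fun x => by rcases h2 x with rfl | rfl <;> simp
  exact ⟨γ g, 1, 1, 1, MulEquiv.ext fun x => by simp [tf_one]⟩

theorem Bo.real (H : Bo F) (hf : Form (AS F)) : F.IsRealizable 2 := by
  have t : ∀ {F : FusionSystem (⊤ : Subgroup (U K))} (H : Bo F), Form (AS F) → _ := fun H hf =>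
    tor (sa_AS p2 H.sat) hf (lc_AS p2 H.sat H.eQ) (lc_AS p2 H.sat H.eR)
  by_cases big : ∃ x : K, x ≠ 0 ∧ x ≠ 1
  · obtain ⟨h1, h2, h3⟩ := t H hf
    exact real_of H.sat hf h1 (ω_mem_big big (sa_AS p2 H.sat) (lc_AS p2 H.sat H.eQ) h1 h2)
      (ψ_mem_big big (sa_AS p2 H.sat) (lc_AS p2 H.sat H.eR) h1 h3)
  have h2 : ∀ x : K, x = 0 ∨ x = 1 := fun x => by_contra fun h => big ⟨x, not_or.1 h⟩
  obtain ⟨γ, hγ⟩ := twoR h2 (sa_AS p2 H.sat) (lc_AS p2 H.sat H.eR) (t H hf).2.2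
  obtain ⟨F₁, e₁⟩ := exists_push' (F' := F) (γ⁻¹ : MulAut (U K))
  have H₁ := H.push e₁
  have f₁ := hf.push h2 e₁
  have p₁ : ψR K ∈ F₁.autGroup Rs := push_aut e₁ (by rwa [inv_inv])
  refine isRealizable_of_push e₁ ?_
  rcases twoQ h2 (sa_AS p2 H₁.sat) (lc_AS p2 H₁.sat H₁.eQ) (t H₁ f₁).2.1 with h | h
  · exact real_of H₁.sat f₁ (t H₁ f₁).1 h p₁
  obtain ⟨F₂, e₂⟩ := exists_push' (F' := F₁) ((γ0 h2)⁻¹ : MulAut (U K))
  have H₂ := H₁.push e₂
  have f₂ := f₁.push h2 e₂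
  exact isRealizable_of_push e₂ (real_of H₂.sat f₂ (t H₂ f₂).1 (push_aut e₂ (by rwa [inv_inv])) (push_aut e₂ (by
    rw [inv_inv]
    exact γ0_ψ h2 ((lc_AS p2 H₁.sat H₁.eR).Tn_le (sa_AS p2 H₁.sat)) p₁)))

theorem isRealizable_U (hF : F.IsSaturated 2) : F.IsRealizable 2 := by
  by_cases hR : F.IsEssential 2 Rs
  swap
  · refine isRealizable_of_uniq p2 hF (Q := Qs) (fun x hx => ?_)
      (fun E hE => (ess_QR hF hE).resolve_right fun e => hR (e ▸ hE))
      fun φ _ x hx => characteristic_iff_le_comap.1 chr_Qs φ hx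
    have a := hx (X3 1) ⟨rfl, rfl⟩
    simp only [U.ext_iff, UE] at a
    have y8 : x.y8 = 0 := σ_eq_zero.1 (by grind)
    exact ⟨y8, by grind⟩
  by_cases hQ : F.IsEssential 2 Qs
  swap
  · refine isRealizable_of_uniq p2 hF (Q := Rs) (fun x hx => ?_)
      (fun E hE => (ess_QR hF hE).resolve_left fun e => hQ (e ▸ hE))
      fun φ _ x hx => characteristic_iff_le_comap.1 chr_Rs φ hx
    have a := congrArg U.x4 (hx (X6 1) rfl)
    simp only [UE] at a
    rw [mem_Rs]; grind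
  obtain ⟨γ, hγ⟩ := exists_form (sa_AS p2 hF)
  obtain ⟨F₁, e⟩ := exists_push' (F' := F) γ
  exact isRealizable_of_push e (((⟨hF, hQ, hR⟩ : Bo F).push e).real fun φ hφ => hγ φ (push_AS e hφ))

end Cfsg.Agent.RFS
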