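import Cfsg.Agent.RFS.Es

/-!
Commutators, normal subgroups and involutions of `U K`.
-/

set_option autoImplicit false
set_option linter.unusedSectionVars false
set_option linter.unusedSimpArgs false
set_option maxRecDepth 20000

namespace Cfsg.Agent.RFS

open Subgroup Cfsg.Agent.Oct Cfsg.Agent.S2F Cfsg.Agent.Fus

variable {K : Type*} [Field K] [Tw K]

theorem cm_Ws_T {a : U K} (ha : a ∈ Ws) (b : U K) : cm a b ∈ (Zs : Subgroup (U K)) := by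
  rw [mem_Ws] at ha
  simp only [mem_Zs, cm, UE, ha] <;> grind

theorem cm_T_Ws (b : U K) {a : U K} (ha : a ∈ Ws) : cm b a ∈ (Zs : Subgroup (U K)) := by
  rw [mem_Ws] at ha
  simp only [mem_Zs, cm, UE, ha] <;> grind

theorem cm_Ys_T {a : U K} (ha : a ∈ Ys) (b : U K) : cm a b ∈ (Ws : Subgroup (U K)) := by
  rw [mem_Ys] at ha
  simp only [mem_Ws, cm, UE, ha] <;> grind

theorem cm_T_Ys (b : U K) {a : U K} (ha : a ∈ Ys) : cm b a ∈ (Ws : Subgroup (U K)) := by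
  rw [mem_Ys] at ha
  simp only [mem_Ws, cm, UE, ha] <;> grind

theorem cm_Z4_T {a : U K} (ha : a ∈ Z4) (b : U K) : cm a b ∈ (Ys : Subgroup (U K)) := by
  rw [mem_Z4] at ha
  simp only [mem_Ys, cm, UE, ha] <;> grind

theorem cm_T_Z4 (b : U K) {a : U K} (ha : a ∈ Z4) : cm b a ∈ (Ys : Subgroup (U K)) := by
  rw [mem_Z4] at ha
  simp only [mem_Ys, cm, UE, ha] <;> grind

theorem cm_Z5_T {a : U K} (ha : a ∈ Z5) (b : U K) : cm a b ∈ (Z4 : Subgroup (U K)) := by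
  rw [mem_Z5] at ha
  simp only [mem_Z4, cm, UE, ha] <;> grind

theorem cm_T_Z5 (b : U K) {a : U K} (ha : a ∈ Z5) : cm b a ∈ (Z4 : Subgroup (U K)) := by
  rw [mem_Z5] at ha
  simp only [mem_Z4, cm, UE, ha] <;> grind

theorem cm_Z6_T {a : U K} (ha : a ∈ Z6) (b : U K) : cm a b ∈ (Z5 : Subgroup (U K)) := by
  rw [mem_Z6] at ha
  simp only [mem_Z5, cm, UE, ha] <;> grind

theorem cm_T_Z6 (b : U K) {a : U K} (ha : a ∈ Z6) : cm b a ∈ (Z5 : Subgroup (U K)) := by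
  rw [mem_Z6] at ha
  simp only [mem_Z5, cm, UE, ha] <;> grind

theorem cm_Z7_T {a : U K} (ha : a ∈ Z7) (b : U K) : cm a b ∈ (Z6 : Subgroup (U K)) := by
  rw [mem_Z7] at ha
  simp only [mem_Z6, cm, UE, ha] <;> grind

theorem cm_T_Z7 (b : U K) {a : U K} (ha : a ∈ Z7) : cm b a ∈ (Z6 : Subgroup (U K)) := by
  rw [mem_Z7] at ha
  simp only [mem_Z6, cm, UE, ha] <;> grind

theorem cm_T_T (a : U K) (b : U K) : cm a b ∈ (Z7 : Subgroup (U K)) := by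
  simp only [mem_Z7, cm, UE] <;> grind

theorem cm_As_Qs {a : U K} (ha : a ∈ As) {b : U K} (hb : b ∈ Qs) : cm a b ∈ (Zs : Subgroup (U K)) := by
  rw [mem_As] at ha
  rw [mem_Qs] at hb
  simp only [mem_Zs, cm, UE, ha, hb] <;> grind

theorem cm_Qs_As {b : U K} (hb : b ∈ Qs) {a : U K} (ha : a ∈ As) : cm b a ∈ (Zs : Subgroup (U K)) := by
  rw [mem_As] at ha
  rw [mem_Qs] at hb
  simp only [mem_Zs, cm, UE, ha, hb] <;> grind

theorem cm_Qs_Qs {a : U K} (ha : a ∈ Qs) {b : U K} (hb : b ∈ Qs) : cm a b ∈ (As : Subgroup (U K)) := by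
  rw [mem_Qs] at ha
  rw [mem_Qs] at hb
  simp only [mem_As, cm, UE, ha, hb] <;> grind

theorem cm_F5_Rs {a : U K} (ha : a ∈ F5) {b : U K} (hb : b ∈ Rs) : cm a b ∈ (Ys : Subgroup (U K)) := by
  rw [mem_F5] at ha
  rw [mem_Rs] at hb
  simp only [mem_Ys, cm, UE, ha, hb] <;> grind

theorem cm_Rs_F5 {b : U K} (hb : b ∈ Rs) {a : U K} (ha : a ∈ F5) : cm b a ∈ (Ys : Subgroup (U K)) := by
  rw [mem_F5] at ha
  rw [mem_Rs] at hb
  simp only [mem_Ys, cm, UE, ha, hb] <;> grind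

theorem cm_P0_Rs {a : U K} (ha : a ∈ P0) {b : U K} (hb : b ∈ Rs) : cm a b ∈ (F5 : Subgroup (U K)) := by
  rw [mem_P0] at ha
  rw [mem_Rs] at hb
  simp only [mem_F5, cm, UE, ha, hb] <;> grind

theorem cm_Rs_P0 {b : U K} (hb : b ∈ Rs) {a : U K} (ha : a ∈ P0) : cm b a ∈ (F5 : Subgroup (U K)) := by
  rw [mem_P0] at ha
  rw [mem_Rs] at hb
  simp only [mem_F5, cm, UE, ha, hb] <;> grind

theorem cm_Rs_Rs {a : U K} (ha : a ∈ Rs) {b : U K} (hb : b ∈ Rs) : cm a b ∈ (P0 : Subgroup (U K)) := by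
  rw [mem_Rs] at ha
  rw [mem_Rs] at hb
  simp only [mem_P0, cm, UE, ha, hb] <;> grind

theorem cm_P0_P0 {a : U K} (ha : a ∈ P0) {b : U K} (hb : b ∈ P0) : cm a b ∈ (Ys : Subgroup (U K)) := by
  rw [mem_P0] at ha
  rw [mem_P0] at hb
  simp only [mem_Ys, cm, UE, ha, hb] <;> grind

theorem cm_F5_P0 {a : U K} (ha : a ∈ F5) {b : U K} (hb : b ∈ P0) : cm a b ∈ (Ws : Subgroup (U K)) := by
  rw [mem_F5] at ha
  rw [mem_P0] at hb
  simp only [mem_Ws, cm, UE, ha, hb] <;> grind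

theorem cm_P0_F5 {b : U K} (hb : b ∈ P0) {a : U K} (ha : a ∈ F5) : cm b a ∈ (Ws : Subgroup (U K)) := by
  rw [mem_F5] at ha
  rw [mem_P0] at hb
  simp only [mem_Ws, cm, UE, ha, hb] <;> grind

theorem cm_Z5_Z5 {a : U K} (ha : a ∈ Z5) {b : U K} (hb : b ∈ Z5) : cm a b ∈ (Zs : Subgroup (U K)) := by
  rw [mem_Z5] at ha
  rw [mem_Z5] at hb
  simp only [mem_Zs, cm, UE, ha, hb] <;> grind

theorem cm_Bs_D3 {a : U K} (ha : a ∈ Bs) {b : U K} (hb : b ∈ D3) : cm a b ∈ (V6 : Subgroup (U K)) := by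
  rw [mem_Bs] at ha
  rw [mem_D3] at hb
  simp only [mem_V6, cm, UE, ha, hb] <;> grind

theorem cm_D3_Bs {b : U K} (hb : b ∈ D3) {a : U K} (ha : a ∈ Bs) : cm b a ∈ (V6 : Subgroup (U K)) := by
  rw [mem_Bs] at ha
  rw [mem_D3] at hb
  simp only [mem_V6, cm, UE, ha, hb] <;> grind

theorem cm_Ps_Ps {a : U K} (ha : a ∈ Ps) {b : U K} (hb : b ∈ Ps) : cm a b ∈ (Zs : Subgroup (U K)) := by
  rw [mem_Ps] at ha
  rw [mem_Ps] at hb
  simp only [mem_Zs, cm, UE, ha, hb] <;> grind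

theorem com_Ws_Rs {a : U K} (ha : a ∈ Ws) {b : U K} (hb : b ∈ Rs) : a * b = b * a := by
  rw [mem_Ws] at ha
  rw [mem_Rs] at hb
  ext <;> simp only [UE, ha, hb] <;> grind

theorem com_Ys_P0 {a : U K} (ha : a ∈ Ys) {b : U K} (hb : b ∈ P0) : a * b = b * a := by
  rw [mem_Ys] at ha
  rw [mem_P0] at hb
  ext <;> simp only [UE, ha, hb] <;> grind

theorem com_As_Ps {a : U K} (ha : a ∈ As) {b : U K} (hb : b ∈ Ps) : a * b = b * a := by
  rw [mem_As] at ha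
  rw [mem_Ps] at hb
  ext <;> simp only [UE, ha, hb] <;> grind

theorem com_Z4_P7 {a : U K} (ha : a ∈ Z4) {b : U K} (hb : b ∈ P7) : a * b = b * a := by
  rw [mem_Z4] at ha
  rw [mem_P7] at hb
  ext <;> simp only [UE, ha, hb] <;> grind

theorem com_F5_F5 {a : U K} (ha : a ∈ F5) {b : U K} (hb : b ∈ F5) : a * b = b * a := by
  rw [mem_F5] at ha
  rw [mem_F5] at hb
  ext <;> simp only [UE, ha, hb] <;> grind

theorem com_As_As {a : U K} (ha : a ∈ As) {b : U K} (hb : b ∈ As) : a * b = b * a := by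
  rw [mem_As] at ha
  rw [mem_As] at hb
  ext <;> simp only [UE, ha, hb] <;> grind

theorem com_Bs_Bs {a : U K} (ha : a ∈ Bs) {b : U K} (hb : b ∈ Bs) : a * b = b * a := by
  rw [mem_Bs] at ha
  rw [mem_Bs] at hb
  ext <;> simp only [UE, ha, hb] <;> grind

instance nor_Zs : (Zs : Subgroup (U K)).Normal := ⟨fun a ha g => by
  rw [mem_Zs] at ha
  simp only [mem_Zs, UE, ha] <;> grind⟩

instance nor_Ws : (Ws : Subgroup (U K)).Normal := ⟨fun a ha g => by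
  rw [mem_Ws] at ha
  simp only [mem_Ws, UE, ha] <;> grind⟩

instance nor_Ys : (Ys : Subgroup (U K)).Normal := ⟨fun a ha g => by
  rw [mem_Ys] at ha
  simp only [mem_Ys, UE, ha] <;> grind⟩

instance nor_Z4 : (Z4 : Subgroup (U K)).Normal := ⟨fun a ha g => by
  rw [mem_Z4] at ha
  simp only [mem_Z4, UE, ha] <;> grind⟩

instance nor_Z5 : (Z5 : Subgroup (U K)).Normal := ⟨fun a ha g => by
  rw [mem_Z5] at ha
  simp only [mem_Z5, UE, ha] <;> grind⟩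

instance nor_Z6 : (Z6 : Subgroup (U K)).Normal := ⟨fun a ha g => by
  rw [mem_Z6] at ha
  simp only [mem_Z6, UE, ha] <;> grind⟩

instance nor_Z7 : (Z7 : Subgroup (U K)).Normal := ⟨fun a ha g => by
  rw [mem_Z7] at ha
  simp only [mem_Z7, UE, ha] <;> grind⟩

instance nor_As : (As : Subgroup (U K)).Normal := ⟨fun a ha g => by
  rw [mem_As] at ha
  simp only [mem_As, UE, ha] <;> grind⟩

instance nor_Ps : (Ps : Subgroup (U K)).Normal := ⟨fun a ha g => by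
  rw [mem_Ps] at ha
  simp only [mem_Ps, UE, ha] <;> grind⟩

instance nor_F5 : (F5 : Subgroup (U K)).Normal := ⟨fun a ha g => by
  rw [mem_F5] at ha
  simp only [mem_F5, UE, ha] <;> grind⟩

instance nor_P0 : (P0 : Subgroup (U K)).Normal := ⟨fun a ha g => by
  rw [mem_P0] at ha
  simp only [mem_P0, UE, ha] <;> grind⟩

instance nor_P7 : (P7 : Subgroup (U K)).Normal := ⟨fun a ha g => by
  rw [mem_P7] at ha
  simp only [mem_P7, UE, ha] <;> grind⟩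

instance nor_D2 : (D2 : Subgroup (U K)).Normal := ⟨fun a ha g => by
  rw [mem_D2] at ha
  simp only [mem_D2, UE, ha] <;> grind⟩

instance nor_Qs : (Qs : Subgroup (U K)).Normal := ⟨fun a ha g => by
  rw [mem_Qs] at ha
  simp only [mem_Qs, UE, ha] <;> grind⟩

instance nor_Rs : (Rs : Subgroup (U K)).Normal := ⟨fun a ha g => by
  rw [mem_Rs] at ha
  simp only [mem_Rs, UE, ha] <;> grind⟩

theorem sq_As {a : U K} (ha : a ∈ As) : a * a = 1 := by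
  rw [mem_As] at ha
  ext <;> simp only [UE, ha] <;> grind

theorem sq_Bs {a : U K} (ha : a ∈ Bs) : a * a = 1 := by
  rw [mem_Bs] at ha
  ext <;> simp only [UE, ha] <;> grind

theorem sq_F5 {a : U K} (ha : a ∈ F5) : a * a = 1 := by
  rw [mem_F5] at ha
  ext <;> simp only [UE, ha] <;> grind

theorem inv_y8 {y : U K} (h : y * y = 1) : y.y8 = 0 := by
  have e := congrArg U.x8 h
  simp only [UE] at e
  exact mul_σ_eq_zero e

theorem inv_x8 {y : U K} (h : y * y = 1) (h1 : y.x1 ≠ 0) : y.x8 = 0 := by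
  have e := congrArg U.y6 h
  simp only [UE, inv_y8 h] at e
  grind

theorem inv_P0 {y : U K} (h : y * y = 1) (h1 : y.x1 = 0) : y ∈ P0 := by
  have e := congrArg U.x2 h
  simp only [UE, inv_y8 h, h1] at e
  exact ⟨h1, mul_σ_eq_zero e, inv_y8 h⟩

theorem inv_y46 {y : U K} (h : y * y = 1) (h1 : y.x1 = 0) (h8 : y.x8 * y.x2 = 0) : y.y4 * y.y6 = 0 := by
  have e := congrArg U.x5 h
  simp only [UE, inv_y8 h, h1, (inv_P0 h h1).2.1] at e
  grind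

theorem inv_AF {y : U K} (h : y * y = 1) (h1 : y.x1 = 0) (h8 : y.x8 = 0) : y ∈ As ∨ y ∈ F5 := by
  have y8 := inv_y8 h
  have y2 := (inv_P0 h h1).2.1
  have e5 := inv_y46 h h1 (by rw [h8, zero_mul])
  have e4 := congrArg U.x4 h
  have e6 := congrArg U.x6 h
  simp only [UE, h1, h8, y8, y2] at e4 e6
  have y4 : y.y4 = 0 := by
    by_contra h
    have y6 : y.y6 = 0 := by grind
    simp only [UE, y6] at e4 e6
    exact h (mul_σ_eq_zero (by grind))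
  simp only [UE, y4] at e4 e6
  have y6 : y.y6 = 0 := mul_σ_eq_zero e6
  by_cases h7 : y.x7 = 0
  · exact .inl ⟨h1, y2, y4, y6, h7, y8, h8⟩
  · exact .inr ⟨h1, y2, by grind, y4, y6, y8, h8⟩

theorem inv_Z5 {y : U K} (h : y * y = 1) (h1 : y.x1 = 0) (h8 : y.x8 = 0) : y ∈ Z5 := by
  rcases inv_AF h h1 h8 with h | h
  · exact ⟨h.1, h.2.1, h.2.2.1, h.2.2.2.1, h.2.2.2.2.2⟩
  · exact ⟨h.1, h.2.1, h.2.2.2⟩

theorem inv_BF {y : U K} (h : y * y = 1) (hy : y ∈ D3) : y ∈ Bs ∨ y ∈ F5 := by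
  obtain ⟨h1, y2, x2⟩ := hy
  have y8 := inv_y8 h
  have e5 := inv_y46 h h1 (by rw [x2, mul_zero])
  have e4 := congrArg U.x4 h
  have e6 := congrArg U.x6 h
  simp only [UE, h1, x2, y8, y2] at e4 e6
  have y6 : y.y6 = 0 := by
    by_contra h
    have y4 : y.y4 = 0 := by grind
    simp only [UE, y4] at e4 e6
    exact h (mul_σ_eq_zero (by grind))
  simp only [UE, y6] at e4 e6
  have y4 : y.y4 = 0 := mul_σ_eq_zero e4
  by_cases h8 : y.x8 = 0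
  · exact .inr ⟨h1, y2, x2, y4, y6, y8, h8⟩
  · exact .inl ⟨h1, y2, x2, by grind, y4, y6, y8⟩

theorem nf8 {y : U K} (h : y * y = 1) (h8 : y.x8 ≠ 0) : ∃ g s, g * y * g⁻¹ = X8 y.x8 * X4 s := by
  obtain ⟨t, ht⟩ := exists_sol h8 y.y6
  have h2 : (X1 t * y * (X1 t)⁻¹).x8 = y.x8 := by simp only [UE]
  have h3 : X1 t * y * (X1 t)⁻¹ * (X1 t * y * (X1 t)⁻¹) = 1 := by
    calc _ = X1 t * (y * y) * (X1 t)⁻¹ := by group
      _ = 1 := by rw [h]; simp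
  obtain ⟨r, -, s, e⟩ := clsB (mem_Bs_of_sq h3 (h2 ▸ h8) (by simp only [UE, inv_y8 h]; grind)) (h2 ▸ h8)
  exact ⟨r * X1 t, s, by rw [← h2, ← e]; group⟩

variable [Finite K]

theorem nf7 {a : U K} (ha : a ∈ F5) (h : a.x7 ≠ 0) : ∃ g ∈ Qs, g * a * g⁻¹ = X7 a.x7 := by
  obtain ⟨t1, e1⟩ := exists_solσ h a.x3
  obtain ⟨t2, e2⟩ := exists_solσ h (X1 t1 * a * (X1 t1)⁻¹).x5
  obtain ⟨t3, e3⟩ := exists_sol h (Y2 t2 * X1 t1 * a * (Y2 t2 * X1 t1)⁻¹).x6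
  obtain ⟨t4, e4⟩ := exists_sol h (Y4 t3 * Y2 t2 * X1 t1 * a * (Y4 t3 * Y2 t2 * X1 t1)⁻¹).x4
  refine ⟨X2 t4 * Y4 t3 * Y2 t2 * X1 t1, by simp only [mem_Qs, UE, and_self], ?_⟩
  rw [mem_F5] at ha
  simp only [UE, ha] at e2 e3 e4
  ext <;> simp only [UE, ha] <;> grind

/-- Conjugation by `U₈` kills `y2` and `x7`. -/
theorem nf18 {a : U K} (ha : a ∈ Qs) (h : a.x1 ≠ 0) :
    ∃ g : U K, (g * a * g⁻¹).x1 = a.x1 ∧ (g * a * g⁻¹).y2 = 0 ∧ (g * a * g⁻¹).x7 = 0 := by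
  obtain ⟨t1, e1⟩ := exists_sol h a.y2
  obtain ⟨t, e⟩ := exists_solσ h (Y8 t1 * a * (Y8 t1)⁻¹).x7
  simp only [UE, ha.1, ha.2] at e
  exact ⟨X8 t * Y8 t1, by simp only [UE, ha.1, ha.2]; grind⟩

theorem nf1 {y : U K} (h : y * y = 1) (h1 : y.x1 ≠ 0) : ∃ g, g * y * g⁻¹ = X1 y.x1 := by
  obtain ⟨g, a1, a2, a7⟩ := nf18 ⟨inv_y8 h, inv_x8 h h1⟩ h1
  have h3 : g * y * g⁻¹ * (g * y * g⁻¹) = 1 := by
    calc _ = g * (y * y) * g⁻¹ := by group
      _ = 1 := by rw [h]; simp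
  suffices ∃ k, k * (g * y * g⁻¹) * k⁻¹ = X1 (g * y * g⁻¹).x1 by
    obtain ⟨k, hk⟩ := this
    exact ⟨k * g, by rw [← a1, ← hk]; group⟩
  rw [← a1] at h1
  generalize g * y * g⁻¹ = a at h3 h1 a2 a7
  have y8 := inv_y8 h3
  have x8 := inv_x8 h3 h1
  have e3 := congrArg U.x3 h3
  simp only [UE, y8, x8, a2, a7] at e3
  have y6 : a.y6 = 0 := σ_eq_zero.1 (by grind)
  have e2 := congrArg U.x2 h3
  simp only [UE, y8, x8, a2, a7, y6] at e2
  have y4 : a.y4 = 0 := by grind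
  have e4 := congrArg U.x4 h3
  simp only [UE, y8, x8, a2, a7, y6, y4] at e4
  have x6 : a.x6 = 0 := by grind
  obtain ⟨t1, e1⟩ := exists_solσ h1 a.x5
  obtain ⟨t2, e2⟩ := exists_solσ h1 (X7 t1 * a * (X7 t1)⁻¹).x3
  obtain ⟨t3, e3⟩ := exists_sol h1 (Y6 t2 * X7 t1 * a * (Y6 t2 * X7 t1)⁻¹).x2
  obtain ⟨t4, e4⟩ := exists_sol h1 (Y4 t3 * Y6 t2 * X7 t1 * a * (Y4 t3 * Y6 t2 * X7 t1)⁻¹).x4
  refine ⟨X6 t4 * Y4 t3 * Y6 t2 * X7 t1, ?_⟩
  simp only [UE, y8, x8, a2, a7, y6, y4, x6] at e2 e3 e4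
  ext <;> simp only [UE, y8, x8, a2, a7, y6, y4, x6] <;> grind

end Cfsg.Agent.RFS
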