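import Cfsg.Agent.RFS.Def

/-!
The kernels `OQ`, `OR` are `2`-groups.
Read `RFS/Def` (and the commutator table at the top of `RFS/Es`, the signatures of `RFS/Inv`, `RFS/Ker`).  Coordinates:
`simp only [mem_X, cm, UE, h..] <;> grind`; `afn_cm`, `homOn_afn`, `afn_res`, `afn_cQ`, `afn_cR`, `mem_OQ`, `mem_OR`, `decomp`.

-/

set_option autoImplicit false
set_option linter.unusedSectionVars false
set_option linter.unusedSimpArgs false
set_option maxRecDepth 20000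

namespace Cfsg.Agent.RFS

open Subgroup Cfsg.Agent.Oct Cfsg.Agent.S2F Cfsg.Agent.Fus

variable {K : Type*} [Field K] [Tw K] [Finite K] {A₀ : Subgroup (MulAut (U K))}
  {A : Subgroup (MulAut (Qs : Subgroup (U K)))} {B : Subgroup (MulAut (Rs : Subgroup (U K)))}

namespace KerA

theorem cm_QA {g v : U K} (hg : g ∈ Qs) (hv : v ∈ As) : cm g v = X4 (pr g v) := by
  rw [mem_As] at hv
  ext <;> simp only [cm, UE, hg.1, hg.2, hv, pr] <;> grind

theorem cm_RY {g v : U K} (hg : g ∈ Rs) (hv : v ∈ Ys) :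
    cm g v = X4 (g.y2 * v.x5) * X6 (g.y8 * v.x5) := by
  rw [mem_Ys] at hv
  rw [mem_Rs] at hg
  ext <;> simp only [cm, UE, hg, hv] <;> grind

theorem cm_PF {p f : U K} (hp : p ∈ P0) (hf : f ∈ F5) :
    cm p f = X4 (p.x2 * f.x7 + p.y6 * f.x3) * X6 (p.y4 * f.x7 + p.x8 * f.x3) := by
  rw [mem_P0] at hp
  rw [mem_F5] at hf
  ext <;> simp only [cm, UE, hp, hf] <;> grind

theorem cm_PP {p q : U K} (hp : p ∈ P0) (hq : q ∈ P0) :
    (cm p q).x5 = p.x2 * q.x8 + p.x8 * q.x2 + p.y4 * q.y6 + p.y6 * q.y4 := by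
  rw [mem_P0] at hp hq
  simp only [cm, UE, hp, hq]; grind

theorem cm_PR {p g : U K} (hp : p ∈ P0) (hg : g ∈ Rs) :
    (cm p g).x3 = p.x2 * g.y8 + p.y4 * g.y2 ∧ (cm p g).x7 = p.x8 * g.y2 + p.y6 * g.y8 := by
  rw [mem_P0] at hp
  rw [mem_Rs] at hg
  simp only [cm, UE, hp, hg]; grind

theorem cm_PQ {p g : U K} (hp : p ∈ Ps) (hg : g ∈ Qs) : (cm p g).x2 = p.y4 * g.x1 := by
  rw [mem_Ps] at hp
  simp only [cm, UE, hp, hg.1, hg.2]; grind

theorem sq_R {g : U K} (hg : g ∈ Rs) : (g * g).x2 = g.y2 * σ g.y2 ∧ (g * g).x8 = g.y8 * σ g.y8 ∧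
    (g * g).y4 = g.y8 * σ g.y2 ∧ (g * g).y6 = σ g.y8 * g.y2 := by
  rw [mem_Rs] at hg
  simp only [UE, hg]; grind

theorem ex_l2 (s : K) : ∃ κ : K, κ * σ κ = s := by
  by_cases h : s = 0
  · exact ⟨0, by rw [h, zero_mul]⟩
  · exact let ⟨κ, e⟩ := exists_l2 h; ⟨κ, e⟩

theorem pg_chain {E : Subgroup (U K)} {O : Subgroup (MulAut E)} (l : List (Subgroup (U K)))
    (h1 : ∀ i, Ch E (l.getD i ⊤))
    (h2 : ∀ α ∈ O, ∀ i < l.length + 1, ∀ x ∈ E, x ∈ l.getD i ⊤ →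
      x⁻¹ * afn α x ∈ (⊥ :: l).getD i ⊤) : IsPGroup 2 O := by
  have := Fact.mk Nat.prime_two
  refine AC.isPGroup_of_coprime fun α hα hc => AC.eq_one_of_chain (isPGroup_U.to_subgroup E) hc
    (fun i => ((⊥ :: l).getD i ⊤).subgroupOf E) (l.length + 1) (by simp) (by simp)
    (fun i _ x hx => ?_) fun i hi y hy => ?_
  · rw [mem_subgroupOf, ← afn_coe]
    rcases i with _ | i
    exacts [Ch.bot α x x.2 hx, h1 i α x x.2 hx]
  · have := h2 α hα i hi y y.2 hy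
    rwa [afn_coe] at this

end KerA

open KerA

/-- PROOF.  `As, Zs, Ps` are `Ch Qs`.  Put `c s = (α (X4 s)).x4`, `λ = c 1 ≠ 0`.  For `g ∈ Qs`, `v ∈ As`: `cm g v = X4 (pr g v)` (`comm_pr`)
and `pr (α g) = pr g` (`mem_OQ`), so `c (pr g v) = pr g (α v)`.  With `g = X1 d`, `v = X6 1`: `c d = λ d`; with `g = X1 1, X7 1, Y2 1, Y6 1`:
`(α v).xi = λ v.xi` for `i = 6, 2, 5, 3`.  For `p ∈ Ps`, `g ∈ Qs`: `(cm p g).x2 = p.y4 * g.x1`, so (`g = X1 1`) `(α p).y4 = λ p.y4`.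
`Y4 1 * Y4 1 = X4 1` and `(p * p).x4 = p.y4 σ p.y4` on `Ps` give `λ σ λ = λ`, so `λ = 1`. -/
theorem OQ_struct {α : MulAut (Qs : Subgroup (U K))} (h : α ∈ OQ K) :
    (∀ x ∈ Ps, x⁻¹ * afn α x ∈ As) ∧ (∀ x ∈ As, x⁻¹ * afn α x ∈ Zs) ∧ ∀ x ∈ Zs, afn α x = x := by
  have k := mem_OQ.1 h
  have aQ : ∀ {v : U K}, v ∈ As → v ∈ Qs := fun hv => ⟨hv.2.2.2.2.2.1, hv.2.2.2.2.2.2⟩
  have pQ : ∀ {v : U K}, v ∈ Ps → v ∈ Qs := fun hv => ⟨hv.2.2.2.2.1, hv.2.2.2.2.2⟩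
  have k1 : ∀ g ∈ Qs, ∀ v ∈ As, afn α (X4 (pr g v)) = X4 (pr g (afn α v)) := fun g hg v hv => by
    rw [← cm_QA hg hv, afn_cm α hg (aQ hv), cm_QA (afn_mem α hg) (chQ_As α v (aQ hv) hv)]
    simp only [pr, k g hg]
  obtain ⟨l, hl⟩ : ∃ l : K, ∀ d, afn α (X4 d) = X4 (d * l) := ⟨(afn α (X6 1)).x6, fun d => by
    simpa only [pr, UE] using k1 (X1 d) ⟨rfl, rfl⟩ (X6 1) (by simp only [mem_As, UE, and_self])⟩
  have k2 : ∀ v ∈ As, (afn α v).x6 = v.x6 * l ∧ (afn α v).x2 = v.x2 * l ∧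
      (afn α v).x5 = v.x5 * l ∧ (afn α v).x3 = v.x3 * l := fun v hv => by
    have a := congrArg U.x4 (k1 (X1 1) ⟨rfl, rfl⟩ v hv)
    have b := congrArg U.x4 (k1 (X7 1) ⟨rfl, rfl⟩ v hv)
    have c := congrArg U.x4 (k1 (Y2 1) ⟨rfl, rfl⟩ v hv)
    have d := congrArg U.x4 (k1 (Y6 1) ⟨rfl, rfl⟩ v hv)
    simp only [hl, pr, UE] at a b c d
    exact ⟨a.symm, b.symm, c.symm, d.symm⟩
  have k3 : ∀ p ∈ Ps, (afn α p).y4 = p.y4 * l := fun p hp => by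
    have g1 : X1 (1 : K) ∈ Qs := ⟨rfl, rfl⟩
    have a := (k2 _ (cm_Qs_Qs (pQ hp) g1)).2.1
    rw [afn_cm α (pQ hp) g1, cm_PQ (chQ_Ps α p (pQ hp) hp) (afn_mem α g1), cm_PQ hp g1,
      (k _ g1).1] at a
    simpa only [UE] using a
  have l1 : l = 1 := by
    have y : Y4 (1 : K) ∈ Ps := ⟨rfl, rfl, rfl, rfl, rfl, rfl⟩
    have a := congrArg U.x4 (homOn_afn α _ (pQ y) _ (pQ y))
    have b := mem_Ps.1 (chQ_Ps α _ (pQ y) y)
    have c := k3 _ y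
    rw [show Y4 (1 : K) * Y4 1 = X4 1 by ext <;> simp only [UE], hl] at a
    have l0 : l ≠ 0 := fun e => by
      have d := afn_inv_afn α (x := X4 1) ⟨rfl, rfl⟩
      rw [hl, e, show X4 (1 * 0 : K) = 1 by ext <;> simp only [UE], (homOn_afn _).map_one] at d
      simpa only [UE, zero_ne_one] using congrArg U.x4 d
    simp only [UE, b, c] at a
    exact σ_inj (by rw [map_one]; grind)
  subst l1
  refine ⟨fun x hx => ?_, fun x hx => ?_, fun x hx => by rw [eq_X4 hx, hl, mul_one]⟩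
  · have b := mem_Ps.1 (chQ_Ps α _ (pQ hx) hx)
    have c := k3 _ hx
    rw [mem_Ps] at hx
    simp only [mem_As, UE, b, c, hx]; grind
  · have b := mem_As.1 (chQ_As α _ (aQ hx) hx)
    have c := k2 _ hx
    rw [mem_As] at hx
    simp only [mem_Zs, UE, b, c, hx]; grind

/-- PROOF.  `Ws, Ys, F5, P0` are `Ch Rs`.  For `g ∈ Rs`, `v ∈ Ys`: `cm g v = X4 (g.y2 v.x5) * X6 (g.y8 v.x5)`.  With `λ = (α (X5 1)).x5`:
`α (X4 a) = X4 (λ a)`, `α (X6 a) = X6 (λ a)` (`g = Y2 a, Y8 a`), `(α v).x5 = λ v.x5`.  For `g ∈ Rs` the square has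
`x2 = y2 σ y2`, `x8 = y8 σ y8`, `y4 = y8 σ y2`, `y6 = σ y8 y2`; so (`exists_l2`) `α (X2 s) ∈ X2 s * F5`, `α (X8 s) ∈ X8 s * F5`.  On `P0`,
`(cm p p').x5 = x2 x8' + x8 x2' + y4 y6' + y6 y4'`, so `cm (X2 1) (X8 1)` gives `λ = 1`.  For `p ∈ P0`, `g ∈ Rs`: `cm p g ∈ F5` has
`x3 = p.x2 g.y8 + p.y4 g.y2`, `x7 = p.x8 g.y2 + p.y6 g.y8`; so `α` fixes `x3, x7` of `cm (X2 a) (Y8 1)` and `cm (X8 a) (Y2 1)`, which with `Ys`
generate `F5`.  For `p ∈ P0`, `f ∈ F5`: `cm p f = X4 (p.x2 f.x7 + p.y6 f.x3) * X6 (p.y4 f.x7 + p.x8 f.x3)` is fixed by `α`, and `α f` has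
the same `x3, x7`; `f = X3 1, X7 1` show that `α p` and `p` have the same `x2, y4, y6, x8`. -/
theorem OR_struct {α : MulAut (Rs : Subgroup (U K))} (h : α ∈ OR K) :
    (∀ x ∈ P0, x⁻¹ * afn α x ∈ F5) ∧ (∀ x ∈ F5, x⁻¹ * afn α x ∈ Ys) ∧ (∀ x ∈ Ys, x⁻¹ * afn α x ∈ Ws) ∧
      ∀ x ∈ Ws, afn α x = x := by
  have k := mem_OR.1 h
  have x5 : X5 (1 : K) ∈ Ys := by simp only [mem_Ys, UE, and_self]
  have k1 : ∀ g ∈ Rs, ∀ v ∈ Ys, afn α (X4 (g.y2 * v.x5) * X6 (g.y8 * v.x5)) =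
      X4 (g.y2 * (afn α v).x5) * X6 (g.y8 * (afn α v).x5) := fun g hg v hv => by
    rw [← cm_RY hg hv, afn_cm α hg hv.1, cm_RY (afn_mem α hg) (chR_Ys α v hv.1 hv), (k g hg).1,
      (k g hg).2]
  have z4 : X4 (0 : K) = 1 := by ext <;> simp only [UE]
  have z6 : X6 (0 : K) = 1 := by ext <;> simp only [UE]
  obtain ⟨l, h4, h6⟩ : ∃ l : K, (∀ d, afn α (X4 d) = X4 (d * l)) ∧ ∀ d, afn α (X6 d) = X6 (d * l) :=
    ⟨(afn α (X5 1)).x5, fun d => by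
      simpa only [UE, z6, mul_one] using k1 (Y2 d) rfl _ x5, fun d => by
      simpa only [UE, z4, one_mul] using k1 (Y8 d) rfl _ x5⟩
  have k2 : ∀ v ∈ Ys, (afn α v).x5 = v.x5 * l := fun v hv => by
    have a := k1 (Y2 1) rfl v hv
    simp only [UE, z6, mul_one, h4] at a
    simpa only [UE] using (congrArg U.x4 a).symm
  have a2 : ∀ s : K, (afn α (X2 s)).x2 = s ∧ (afn α (X2 s)).x8 = 0 ∧ (afn α (X2 s)).y4 = 0 ∧
      (afn α (X2 s)).y6 = 0 := fun s => by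
    obtain ⟨κ, rfl⟩ := ex_l2 s
    have y : Y2 κ ∈ Rs := rfl
    rw [show X2 (κ * σ κ) = Y2 κ * Y2 κ by ext <;> simp only [UE], homOn_afn α _ y _ y]
    simpa only [k _ y, UE] using sq_R (afn_mem α y)
  have a8 : ∀ s : K, (afn α (X8 s)).x2 = 0 ∧ (afn α (X8 s)).x8 = s ∧ (afn α (X8 s)).y4 = 0 ∧
      (afn α (X8 s)).y6 = 0 := fun s => by
    obtain ⟨κ, rfl⟩ := ex_l2 s
    have y : Y8 κ ∈ Rs := rfl
    rw [show X8 (κ * σ κ) = Y8 κ * Y8 κ by ext <;> simp only [UE], homOn_afn α _ y _ y]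
    simpa only [k _ y, UE] using sq_R (afn_mem α y)
  have p2 : ∀ s : K, X2 s ∈ P0 := fun _ => ⟨rfl, rfl, rfl⟩
  have p8 : ∀ s : K, X8 s ∈ P0 := fun _ => ⟨rfl, rfl, rfl⟩
  have cP : ∀ {p}, p ∈ P0 → afn α p ∈ P0 := fun hp => chR_P0 α _ hp.1 hp
  have cF : ∀ {p}, p ∈ F5 → afn α p ∈ F5 := fun hp => chR_F5 α _ hp.1 hp
  have l1 : l = 1 := by
    have a := k2 _ (cm_P0_P0 (p2 1) (p8 1))
    rw [afn_cm α (p2 1).1 (p8 1).1, cm_PP (cP (p2 1)) (cP (p8 1)), cm_PP (p2 1) (p8 1)] at a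
    simpa only [a2, a8, UE] using a.symm
  subst l1
  have kW : ∀ x ∈ Ws, afn α x = x := fun x hx => by
    rw [eq_X46 hx, homOn_afn α _ rfl _ rfl, h4, h6, mul_one, mul_one]
  have kF : ∀ f ∈ F5, (afn α f).x3 = f.x3 ∧ (afn α f).x7 = f.x7 := fun f hf => by
    have y8 : Y8 (1 : K) ∈ Rs := rfl
    have y2 : Y2 (1 : K) ∈ Rs := rfl
    have c3 := cm_P0_Rs (p2 f.x3) y8
    have c7 := cm_P0_Rs (p8 f.x7) y2
    have d3 := cm_PR (p2 f.x3) y8
    have d7 := cm_PR (p8 f.x7) y2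
    have e3 := cm_PR (cP (p2 f.x3)) (afn_mem α y8)
    have e7 := cm_PR (cP (p8 f.x7)) (afn_mem α y2)
    rw [← afn_cm α (p2 _).1 y8] at e3
    rw [← afn_cm α (p8 _).1 y2] at e7
    simp only [a2, a8, k _ y8, k _ y2, UE] at d3 d7 e3 e7
    generalize cm (X2 f.x3) (Y8 1) = u at c3 d3 e3
    generalize cm (X8 f.x7) (Y2 1) = w at c7 d7 e7
    have m : (u * w)⁻¹ * f ∈ Ys := by
      rw [mem_F5] at c3 c7 hf
      simp only [mem_Ys, UE, c3, c7, hf, d3, d7]; grind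
    have n := mem_Ys.1 (chR_Ys α _ m.1 m)
    have e : afn α f = afn α u * afn α w * afn α ((u * w)⁻¹ * f) := by
      rw [← homOn_afn α _ c3.1 _ c7.1, ← homOn_afn α _ (mul_mem c3 c7).1 _ m.1, mul_inv_cancel_left]
    have f3 := mem_F5.1 (cF c3)
    have f7 := mem_F5.1 (cF c7)
    generalize afn α ((u * w)⁻¹ * f) = y at n e
    rw [e]
    simp only [UE, f3, f7, n, e3, e7, and_self]
  refine ⟨fun x hx => ?_, fun x hx => ?_, fun x hx => ?_, kW⟩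
  · have q : ∀ f ∈ F5, cm (afn α x) (afn α f) = cm x f := fun f hf => by
      rw [← afn_cm α hx.1 hf.1, kW _ (cm_P0_F5 hx hf)]
    have f3 : X3 (1 : K) ∈ F5 := by simp only [mem_F5, UE, and_self]
    have f7 : X7 (1 : K) ∈ F5 := by simp only [mem_F5, UE, and_self]
    have a := q _ f3
    have b := q _ f7
    rw [cm_PF (cP hx) (cF f3), cm_PF hx f3] at a
    rw [cm_PF (cP hx) (cF f7), cm_PF hx f7] at b
    simp only [U.ext_iff, kF _ f3, kF _ f7, UE] at a b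
    have c := mem_P0.1 (cP hx)
    rw [mem_P0] at hx
    simp only [mem_F5, UE, a, b, c, hx]; grind
  · have b := mem_F5.1 (cF hx)
    have c := kF _ hx
    rw [mem_F5] at hx
    simp only [mem_Ys, UE, b, c, hx]; grind
  · have b := mem_Ys.1 (chR_Ys α _ hx.1 hx)
    have c := k2 _ hx
    rw [mem_Ys] at hx
    simp only [mem_Ws, UE, b, c, hx]; grind

/-- `AC.isPGroup_of_coprime` and `AC.eq_one_of_chain` (`Fus/AutCop`) with the chain `⊥, Zs, As, Ps, ⊤` (`subgroupOf Qs`). -/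
theorem isPGroup_OQ : IsPGroup 2 (OQ K) := by
  refine pg_chain [Zs, As, Ps] (fun i => ?_) fun α hα i hi x hx h => ?_
  · rcases i with _ | _ | _ | i
    exacts [chQ_Zs, chQ_As, chQ_Ps, Ch.top]
  · obtain ⟨h1, h2, h3⟩ := OQ_struct hα
    rcases i with _ | _ | _ | _ | i
    exacts [mem_bot.2 (by rw [h3 x h, inv_mul_cancel]), h2 x h, h1 x h, hα x hx, trivial]

theorem isPGroup_OR : IsPGroup 2 (OR K) := by
  refine pg_chain [Ws, Ys, F5, P0] (fun i => ?_) fun α hα i hi x hx h => ?_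
  · rcases i with _ | _ | _ | _ | i
    exacts [chR_Ws, chR_Ys, chR_F5, chR_P0, Ch.top]
  · obtain ⟨h1, h2, h3, h4⟩ := OR_struct hα
    rcases i with _ | _ | _ | _ | _ | i
    exacts [mem_bot.2 (by rw [h4 x h, inv_mul_cancel]), h3 x h, h2 x h, h1 x h, hα x hx, trivial]

theorem inn_le_OQ : Inn (Qs : Subgroup (U K)) ≤ OQ K := by
  intro α hα x hx
  obtain ⟨g, hg, e⟩ := mem_Inn.1 hα
  have := mem_As.1 (cm_Qs_Qs (inv_mem hx) hg)
  rw [e x hx, show x⁻¹ * (g * x * g⁻¹) = cm x⁻¹ g by rw [cm]; group]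
  simp only [mem_Ps, this, and_self]

theorem inn_le_OR : Inn (Rs : Subgroup (U K)) ≤ OR K := by
  intro α hα x hx
  obtain ⟨g, hg, e⟩ := mem_Inn.1 hα
  rw [e x hx, show x⁻¹ * (g * x * g⁻¹) = cm x⁻¹ g by rw [cm]; group]
  exact cm_Rs_Rs (inv_mem hx) hg

section Gen

variable {Ω : Type*} [Group Ω] {E : Subgroup Ω} [E.Characteristic] {C₀ : Subgroup (MulAut Ω)} {C : Subgroup (MulAut E)}

theorem inn_le_Tn : Inn E ≤ Tn E := by
  intro α hα
  obtain ⟨g, -, e⟩ := mem_Inn'.1 hα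
  exact ⟨g, e⟩

theorem Lc.Tn_le (h₀ : SA C₀) (L : Lc C₀ E C) : Tn E ≤ C := by
  rintro _ ⟨g, rfl⟩
  exact L.res _ (h₀.conj g)

/-- `φ (conj g) φ⁻¹ = conj (φ g)`. -/
theorem res_conj (φ : MulAut Ω) (g : Ω) : MulAut.characteristic E φ * MulAut.characteristic E (MulAut.conj g) *
    (MulAut.characteristic E φ)⁻¹ = MulAut.characteristic E (MulAut.conj (φ g)) := by
  rw [← map_inv, ← map_mul, ← map_mul]
  congr 1
  ext x
  simp

/-- For `g ∈ E`: `α (conj g) α⁻¹ = conj (α g)`. -/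
theorem aut_conj (α : MulAut E) {g : Ω} (hg : g ∈ E) : α * MulAut.characteristic E (MulAut.conj g) * α⁻¹ =
    MulAut.characteristic E (MulAut.conj (afn α g)) := by
  refine aut_ext fun x hx => ?_
  have h1 := afn_mem α⁻¹ hx
  rw [afn_mul _ _ hx, afn_mul _ _ h1, afn_res _ h1, afn_res _ hx, MulAut.conj_apply,
    (homOn_afn α).map_conj hg h1, afn_afn_inv _ hx, MulAut.conj_apply]

/-- Not every element of `C` is a restriction (`L.nn`, `res_conj`). -/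
theorem Lc.exists_not_res (L : Lc C₀ E C) : ∃ α ∈ C, ¬ ∃ φ ∈ C₀, MulAut.characteristic E φ = α := by
  by_contra c
  push Not at c
  refine L.nn fun α hα => ?_
  obtain ⟨φ, -, rfl⟩ := c α hα
  rintro _ ⟨g, rfl⟩
  exact ⟨φ g, (res_conj φ g).symm⟩

/-- `L.rad` for `C ⊓ O`. -/
theorem Lc.mem_inn (L : Lc C₀ E C) {O : Subgroup (MulAut E)} [O.Normal] (hO : IsPGroup 2 O) {α : MulAut E} (h : α ∈ C)
    (h' : α ∈ O) : α ∈ Inn E := by
  exact L.rad (C ⊓ O) (hO.to_le inf_le_right) inf_le_left (fun β hβ κ hκ =>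
    ⟨C.mul_mem (C.mul_mem hβ hκ.1) (C.inv_mem hβ), ‹O.Normal›.conj_mem κ hκ.2 β⟩) ⟨h, h'⟩

/-- A `2`-subgroup `N` between `Tn E` and `C` is `Tn E` (`SylIn.eq_of_le`), then `L.ext`. -/
theorem Lc.ext' (L : Lc C₀ E C) {N : Subgroup (MulAut E)} (hN : IsPGroup 2 N) (h1 : Tn E ≤ N) (h2 : N ≤ C)
    {α : MulAut E} (hα : α ∈ C) (h : ∀ t ∈ N, α * t * α⁻¹ ∈ N) : ∃ φ ∈ C₀, MulAut.characteristic E φ = α := by
  obtain rfl := L.syl.eq_of_le (h1.trans h2) hN h1 h2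
  exact L.ext α hα h

end Gen

/-- The number of elements of `H Φ` is odd.  PROOF.  Cauchy: let `τ = tf a b f`, `τ * τ = 1`.  By `tf_mul` and evaluation at `X1 t`,
`Y8 t`: `f * f = 1`, `a * f a = 1`, `b * f b = 1`.  `f = 1`: `f t = t ^ 2 ^ j` (`exists_frob`), so `f = s ^ (2 j)` for the automorphism `s = σ`
(`σσ`); `s` has odd order (`s t = t ^ 2 ^ k` gives `s = s ^ (2 k)`, `s ^ (2 k - 1) = 1`, or `k = 0` and `s = 1`), so `f` has odd order.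
Then `a ^ 2 = 1`, `a = 1` (`eq_one_of_pow_two_pow`). -/
theorem odd_TF : Odd (Nat.card (TF K)) := by
  have := Fact.mk Nat.prime_two
  have : Finite (MulAut (U K)) := Finite.of_injective _ DFunLike.coe_injective
  rw [← Nat.not_even_iff_odd, even_iff_two_dvd]
  intro hd
  obtain ⟨⟨_, a, b, f, rfl⟩, hτ⟩ := exists_prime_orderOf_dvd_card' 2 hd
  have h2 : tf a b f * tf a b f = 1 := by
    have := congrArg Subtype.val (pow_orderOf_eq_one (⟨tf a b f, a, b, f, rfl⟩ : TF K))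
    rwa [hτ, sq] at this
  rw [tf_mul] at h2
  have e1 : ∀ t, (a : K) * f a * f (f t) = t := fun t =>
    congrArg U.x1 (MulEquiv.congr_fun h2 (X1 t))
  have e2 : (b : K) * f b * f (f 1) = 1 := congrArg U.y8 (MulEquiv.congr_fun h2 (Y8 1))
  have e3 := e1 1
  simp only [map_one, mul_one] at e2 e3
  let s : K ≃+* K := RingEquiv.ofBijective (σ : K →+* K) (Finite.injective_iff_bijective.1 σ_inj)
  have sp : ∀ (g : K ≃+* K), ∃ j, g = s ^ (2 * j) := fun g => by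
    obtain ⟨j, hj⟩ := exists_frob g
    refine ⟨j, RingEquiv.ext fun t => (hj t).trans ?_⟩
    clear hj
    induction j with
    | zero => simp
    | succ j ih =>
      rw [pow_succ, pow_mul, ih, mul_add, add_comm, pow_add, RingAut.mul_apply, mul_one, sq s]
      exact (σσ _).symm
  have f1 : f = 1 := by
    obtain ⟨j, hj⟩ := sp f
    obtain ⟨k, hk⟩ := sp s
    have f2 : f ^ 2 = 1 := RingEquiv.ext fun t => by
      have := e1 t
      rwa [e3, one_mul] at this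
    rcases k with _ | k
    · rw [hj, hk]; simp
    · have s1 : s ^ (2 * k + 1) = 1 := mul_right_cancel (b := s) (by
        rw [← pow_succ, one_mul]; exact hk.symm)
      have f3 : f ^ (2 * k + 1) = 1 := by rw [hj, pow_right_comm, s1, one_pow]
      rwa [pow_succ, pow_mul, f2, one_pow, one_mul] at f3
  subst f1
  obtain rfl : a = 1 := Units.ext (eq_one_of_pow_two_pow (k := 1) ((sq _).trans e3))
  obtain rfl : b = 1 := Units.ext (eq_one_of_pow_two_pow (k := 1) ((sq _).trans e2))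
  rw [show (⟨tf 1 1 1, 1, 1, 1, rfl⟩ : TF K) = 1 from Subtype.ext tf_one, orderOf_one] at hτ
  exact absurd hτ (by norm_num)

theorem TH_le : TH K ≤ TF K := fun _ ⟨a, b, h⟩ => ⟨a, b, 1, h⟩

/-- `H Φ` acts faithfully on `Q/Ps`, modulo conjugations.  Evaluate `x1` at `X1 t` and `y2` at `Y2 1`. -/
theorem faith_Q {g : U K} {a b a' b' : Kˣ} {f f' : K ≃+* K}
    (h : (rQ (MulAut.conj g * tf a b f))⁻¹ * rQ (tf a' b' f') ∈ OQ K) : a = a' ∧ b = b' ∧ f = f' := by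
  have k := mem_OQ.1 h
  generalize hβ : (rQ (MulAut.conj g * tf a b f))⁻¹ * rQ (tf a' b' f') = β at k
  have e : ∀ x ∈ Qs, tf a' b' f' x = g * tf a b f (afn β x) * g⁻¹ := fun x hx => by
    rw [← afn_res (E := Qs) _ hx, show MulAut.characteristic Qs (tf a' b' f') =
      rQ (MulAut.conj g * tf a b f) * β by rw [← hβ, mul_inv_cancel_left], afn_mul _ _ hx,
      afn_res _ (afn_mem β hx)]
    rfl
  have e1 : ∀ t, (a' : K) * f' t = a * f t := fun t => by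
    have := congrArg U.x1 (e (X1 t) ⟨rfl, rfl⟩)
    simp only [UE, tf_apply, tfn, k (X1 t) ⟨rfl, rfl⟩] at this
    grind
  obtain rfl : a = a' := Units.ext (by simpa using (e1 1).symm)
  refine ⟨rfl, Units.ext ?_, RingEquiv.ext fun t => (mul_left_cancel₀ a.ne_zero (e1 t)).symm⟩
  have := congrArg U.y2 (e (Y2 1) ⟨rfl, rfl⟩)
  have m := afn_mem β (x := Y2 1) ⟨rfl, rfl⟩
  simp only [UE, tf_apply, tfn, k (Y2 1) ⟨rfl, rfl⟩, m.1, m.2] at this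
  exact mul_left_cancel₀ a.ne_zero (by grind)

end Cfsg.Agent.RFS
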