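import Cfsg.Agent.RFS.Ker

/-!
The action on the ovoid in `Q / Ps`; `P7` is the point `∞`, `P1 = ω P7` the point `0`.
Read `RFS/Def` (and the commutator table at the top of `RFS/Es`, the signatures of `RFS/Inv`, `RFS/Ker`).  Coordinates:
`simp only [mem_X, cm, UE, h..] <;> grind`; `afn_cm`, `homOn_afn`, `afn_res`, `afn_cQ`, `afn_cR`, `mem_OQ`, `mem_OR`, `decomp`.

-/

set_option autoImplicit false
set_option linter.unusedSectionVars false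
set_option linter.unusedSimpArgs false
set_option maxRecDepth 20000

namespace Cfsg.Agent.RFS

open Subgroup Cfsg.Agent.Oct Cfsg.Agent.S2F Cfsg.Agent.Fus

variable {K : Type*} [Field K] [Tw K] [Finite K] {A₀ : Subgroup (MulAut (U K))}
  {A : Subgroup (MulAut (Qs : Subgroup (U K)))} {B : Subgroup (MulAut (Rs : Subgroup (U K)))}

/-- An automorphism mapping the finite subgroup `P` into itself has an inverse with the same property. -/
theorem inv_pres {Ω : Type*} [Group Ω] [Finite Ω] {E P : Subgroup Ω} (hP : P ≤ E) {α : MulAut E}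
    (h : ∀ x ∈ P, afn α x ∈ P) : ∀ x ∈ P, afn α⁻¹ x ∈ P := by
  intro x hx
  obtain ⟨y, e⟩ := (Finite.injective_iff_surjective (f := fun y : P => (⟨afn α y, h y y.2⟩ : P))).1
    (fun y z e => Subtype.ext (by
      rw [← afn_inv_afn α (hP y.2), show afn α y = afn α z from congrArg Subtype.val e, afn_inv_afn α (hP z.2)])) ⟨x, hx⟩
  rw [← show afn α y = x from congrArg Subtype.val e, afn_inv_afn α (hP y.2)]
  exact y.2

namespace OvQ

section Gen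

variable {Ω : Type*} [Group Ω] {E M L N : Subgroup Ω} {α β : MulAut E}

theorem comm (α : MulAut E) {x y : Ω} (hx : x ∈ E) (hy : y ∈ E) (h : x * y = y * x) :
    afn α x * afn α y = afn α y * afn α x := by
  rw [← homOn_afn α _ hx _ hy, h, homOn_afn α _ hy _ hx]

variable [Finite Ω]

/-- The automorphisms acting trivially on `M / L`. -/
def Sp (E : Subgroup Ω) (h1 : L ≤ M) (h2 : M ≤ E) : Subgroup (MulAut E) where
  carrier := {α | ∀ x ∈ M, x⁻¹ * afn α x ∈ L}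
  one_mem' x _ := by simp [afn_one]
  mul_mem' {α β} hα hβ x hx := by
    have := mul_mem (hβ x hx) (hα _ ((mul_mem_cancel_left (inv_mem hx)).1 (h1 (hβ x hx))))
    rwa [mul_assoc, mul_inv_cancel_left, ← afn_mul _ _ (h2 hx)] at this
  inv_mem' {α} hα x hx := by
    have := inv_mem (hα _ (inv_pres h2 (fun y hy => (mul_mem_cancel_left (inv_mem hy)).1 (h1 (hα y hy))) x hx))
    rwa [afn_afn_inv _ (h2 hx), mul_inv_rev, inv_inv] at this

theorem Sp_conj {h1 : L ≤ M} {h2 : M ≤ E} (hL : ∀ x ∈ L, afn α x ∈ L) (hM : ∀ x ∈ M, afn α x ∈ M)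
    (hβ : β ∈ Sp E h1 h2) : α * β * α⁻¹ ∈ Sp E h1 h2 := fun x hx => by
  have a := inv_pres h2 hM x hx
  have b := h2 a
  have := hL _ (hβ _ a)
  rwa [homOn_afn α _ (inv_mem b) _ (afn_mem β b), (homOn_afn α).map_inv b, afn_afn_inv _ (h2 hx), ← afn_mul _ _ b,
    ← afn_mul _ _ (h2 hx)] at this

theorem Sp_sq (h1 : L ≤ E) (h2 : M ≤ E) (a : ∀ x ∈ M, x⁻¹ * afn β x ∈ L) (b : ∀ x ∈ L, x⁻¹ * afn β x ∈ N)
    (c : ∀ x ∈ L, x * x ∈ N) : ∀ x ∈ M, x⁻¹ * afn (β * β) x ∈ N := fun x hx => by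
  have := mul_mem (c _ (a x hx)) (b _ (a x hx))
  rwa [mul_assoc, mul_inv_cancel_left, homOn_afn β _ (inv_mem (h2 hx)) _ (afn_mem β (h2 hx)),
    (homOn_afn β).map_inv (h2 hx), mul_assoc, mul_inv_cancel_left, ← afn_mul _ _ (h2 hx)] at this

end Gen

theorem P7Q : (P7 : Subgroup (U K)) ≤ Qs := fun _ h => ⟨h.2.2.2.1, h.2.2.2.2⟩
theorem P1Q : (P1 : Subgroup (U K)) ≤ Qs := fun _ h => ⟨h.2.2.2.1, h.2.2.2.2⟩
theorem D2Q : (D2 : Subgroup (U K)) ≤ Qs := fun _ h => h.2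
theorem Z6Q : (Z6 : Subgroup (U K)) ≤ Qs := fun _ h => h.2.2
theorem PsQ : (Ps : Subgroup (U K)) ≤ Qs := fun _ h => h.2.2.2.2
theorem AsQ : (As : Subgroup (U K)) ≤ Qs := fun _ h => h.2.2.2.2.2
theorem Z6D : (Z6 : Subgroup (U K)) ≤ D2 := fun _ h => ⟨h.1, h.2.2⟩
theorem P7Z : (P7 : Subgroup (U K)) ≤ Z6 := fun _ h => ⟨h.1, h.2.1, h.2.2.2⟩
theorem PsP : (Ps : Subgroup (U K)) ≤ P7 := fun _ h => ⟨h.1, h.2.1, h.2.2.1, h.2.2.2.2⟩
theorem X7P : (X7 1 : U K) ∈ P7 := ⟨rfl, rfl, rfl, rfl, rfl⟩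

theorem sqQ {x : U K} (h : x ∈ Qs) : x * x ∈ Ps := by
  simp only [mem_Ps, UE, h.1, h.2]; grind

theorem Z4_of {v : U K} (h : v ∈ As) (c : X7 1 * v = v * X7 1) : v ∈ Z4 := by
  have := congrArg U.x4 c
  rw [mem_As] at h
  simp only [UE, h] at this
  simp only [mem_Z4, h]
  grind

theorem ω17 {x : U K} (h : x ∈ P1) : ω x ∈ P7 := ⟨h.2.2.1, h.2.1, h.1, rfl, rfl⟩

theorem not_Ps (α : MulAut (Qs : Subgroup (U K))) : afn α (X7 1) ∉ Ps := fun h => by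
  have := (chQ_Ps α⁻¹ _ (PsQ h) h).2.2.2.1
  rw [afn_inv_afn α (P7Q X7P)] at this
  exact one_ne_zero this

theorem ω_pres {α : MulAut (Qs : Subgroup (U K))} (h : ∀ x ∈ P7, afn α x ∈ P1) :
    ∀ x ∈ P7, afn (ωQ K * α) x ∈ P7 := fun x hx => by
  rw [afn_mul _ _ (P7Q hx), afn_ωQ (P1Q (h x hx))]
  exact ω17 (h x hx)

theorem afn_c (g : U K) (α : MulAut (Qs : Subgroup (U K))) {x : U K} (hx : x ∈ Qs) :
    afn (cQ g * α) x = g * afn α x * g⁻¹ := by rw [afn_mul _ _ hx, afn_cQ _ (afn_mem α hx)]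

end OvQ

open OvQ

/-- PROOF (use `inv_pres` at each step).  `Z4 = {v ∈ As | v` commutes with `P7}`; `Ws = [Ps, P7]` is generated by the `cm (Y4 s) (X7 1) = X6 s`,
`cm (X2 s) (X7 1) = X4 s`; `D2 = C_Q(Ws)`; `Z6 = {g ∈ D2 | g * g ∈ Z4}` (`(g * g).x2 = y2 σ y2`). -/
theorem flagQ {α : MulAut (Qs : Subgroup (U K))} (h : ∀ x ∈ P7, afn α x ∈ P7) :
    (∀ x ∈ D2, afn α x ∈ D2) ∧ ∀ x ∈ Z6, afn α x ∈ Z6 := by
  have h' := inv_pres P7Q h _ X7P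
  have z4 : ∀ v ∈ Z4, afn α v ∈ Z4 := fun v hv => by
    have a : v ∈ As := by rw [mem_Z4] at hv; simp only [mem_As, hv, and_self]
    have c := comm α (P7Q h') (AsQ a) (com_Z4_P7 hv h').symm
    rw [afn_afn_inv α (P7Q X7P)] at c
    exact Z4_of (chQ_As α v (AsQ a) a) c
  have d2 : ∀ x ∈ D2, afn α x ∈ D2 := fun x hx => by
    have y4 : (Y4 1 : U K) ∈ Ps := ⟨rfl, rfl, rfl, rfl, rfl, rfl⟩
    have a := chQ_Ps α⁻¹ _ (PsQ y4) y4
    have w : cm (afn α⁻¹ (Y4 1)) (afn α⁻¹ (X7 1)) ∈ Ws := by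
      rw [mem_Ps] at a
      rw [mem_P7] at h'
      simp only [mem_Ws, cm, UE, a, h']; grind
    have c := comm α (cm_mem (PsQ a) (P7Q h')) (D2Q hx) (com_Ws_Rs w hx.1)
    rw [afn_cm α (PsQ a) (P7Q h'), afn_afn_inv α (PsQ y4), afn_afn_inv α (P7Q X7P)] at c
    have q := afn_mem α (D2Q hx)
    have := congrArg U.x4 c
    simp only [cm, UE, q.1, q.2] at this
    exact ⟨by grind, q⟩
  refine ⟨d2, fun x hx => ?_⟩
  have a := d2 x (Z6D hx)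
  have b := (z4 (x * x) (by rw [mem_Z6] at hx; simp only [mem_Z4, UE, hx]; grind)).2.2.1
  rw [homOn_afn α _ (Z6Q hx) _ (Z6Q hx)] at b
  simp only [UE, a.1, a.2.1, a.2.2] at b
  exact ⟨a.1, mul_σ_eq_zero (by grind), a.2⟩

/-- PROOF.  `N = {β ∈ A | ∀ x ∈ Qs, x⁻¹ β x ∈ D2 ∧ (x ∈ D2 → x⁻¹ β x ∈ Z6) ∧ (x ∈ Z6 → x⁻¹ β x ∈ P7) ∧ (x ∈ P7 → x⁻¹ β x ∈ Ps)}` is a subgroup
containing `Tn Qs` and normalised by `α` (`flagQ` for `α`, `α⁻¹`; see `AC.stabPairs` inside the stabiliser of the flag, or the proof of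
`Ker`).  It is a `2`-group: `β ^ 4 ∈ OQ K` (`β ^ 2` is trivial on `Q/Z6` and `Z6/Ps`, as `Q/Ps` is elementary abelian), or use
`AC.isPGroup_of_coprime` and `AC.le_fix₁_sup_of_chain`.  `Lc.ext'`. -/
theorem extQ (h₀ : SA A₀) (L : Lc A₀ Qs A) {α : MulAut (Qs : Subgroup (U K))} (hα : α ∈ A)
    (h : ∀ x ∈ P7, afn α x ∈ P7) : ∃ φ ∈ A₀, rQ φ = α := by
  obtain ⟨d, z⟩ := flagQ h
  refine L.ext' (N := A ⊓ (Sp Qs D2Q le_rfl ⊓ Sp Qs Z6D D2Q) ⊓ (Sp Qs P7Z Z6Q ⊓ Sp Qs PsP P7Q)) ?_ ?_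
    (inf_le_left.trans inf_le_left) hα fun t ht => ⟨⟨A.mul_mem (A.mul_mem hα ht.1.1) (A.inv_mem hα),
      Sp_conj d (fun _ => afn_mem α) ht.1.2.1, Sp_conj z d ht.1.2.2⟩, Sp_conj h z ht.2.1,
      Sp_conj (fun x hx => chQ_Ps α x (PsQ hx) hx) h ht.2.2⟩
  · rintro ⟨β, ⟨-, a, b⟩, c, e⟩
    obtain ⟨k, hk⟩ := isPGroup_OQ (K := K) ⟨β * β * (β * β), Sp_sq Z6Q le_rfl
      (Sp_sq D2Q le_rfl a b fun x hx => P7Z (PsP (sqQ (D2Q hx))))
      (Sp_sq P7Q Z6Q c e fun x hx => sqQ (P7Q hx)) fun x hx => sqQ (Z6Q hx)⟩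
    refine ⟨2 + k, Subtype.ext ?_⟩
    have : (β * β * (β * β)) ^ 2 ^ k = 1 := congrArg Subtype.val hk
    rw [← pow_two, ← pow_two, ← pow_mul, ← pow_mul] at this
    exact (congrArg (β ^ ·) (by ring)).trans this
  · rintro _ ⟨g, rfl⟩
    refine ⟨⟨L.res _ (h₀.conj g), fun x hx => ?_, fun x hx => ?_⟩, fun x hx => ?_, fun x hx => ?_⟩
    · rw [MonoidHom.comp_apply, afn_cQ g hx]
      simp only [mem_D2, UE, hx.1, hx.2]; grind
    · rw [MonoidHom.comp_apply, afn_cQ g (D2Q hx)]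
      rw [mem_D2] at hx
      simp only [mem_Z6, UE, hx]; grind
    · rw [MonoidHom.comp_apply, afn_cQ g (Z6Q hx)]
      rw [mem_Z6] at hx
      simp only [mem_P7, UE, hx]; grind
    · rw [MonoidHom.comp_apply, afn_cQ g (P7Q hx)]
      rw [mem_P7] at hx
      simp only [mem_Ps, UE, hx]; grind

/-- PROOF.  `y = α (X7 1)` is an involution of `Qs \ Ps`.  For `x ∈ P7`, `x` commutes with every `v ∈ As` that commutes with `X7 1`
(such `v` lie in `Z4`), so `α x` commutes with every `v ∈ As` that commutes with `y` (`chQ_As` for `α⁻¹`).  If `y.x1 = 0`, `y ∈ F5`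
(`inv_AF`): test `X3 1, X5 1, X6 1`.  Otherwise `g y g⁻¹ = X1 d` (`nf1`): test the `g⁻¹`-conjugates of `X2 1, X3 1, X5 1`. -/
theorem ptQ (α : MulAut (Qs : Subgroup (U K))) :
    (∀ x ∈ P7, afn α x ∈ P7) ∨ ∃ g, ∀ x ∈ P7, g * afn α x * g⁻¹ ∈ P1 := by
  have q7 := P7Q (X7P (K := K))
  have yQ := afn_mem α q7
  have y2 := afn_sq α q7 (by ext <;> simp only [UE])
  have key : ∀ x ∈ P7, ∀ v ∈ As, afn α (X7 1) * v = v * afn α (X7 1) → afn α x * v = v * afn α x :=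
    fun x hx v hv c => by
      have a := chQ_As α⁻¹ v (AsQ hv) hv
      have b := comm α⁻¹ yQ (AsQ hv) c
      rw [afn_inv_afn α q7] at b
      have d := comm α (P7Q hx) (AsQ a) (com_Z4_P7 (Z4_of a b) hx).symm
      rwa [afn_afn_inv α (AsQ hv)] at d
  have np := not_Ps α
  generalize afn α (X7 1) = y at yQ y2 key np
  by_cases h1 : y.x1 = 0
  · have f := (inv_AF y2 h1 yQ.2).resolve_left fun a => np ⟨a.1, a.2.1, a.2.2.2⟩
    refine .inl fun x hx => ?_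
    have q := afn_mem α (P7Q hx)
    have a := congrArg U.x4 (key x hx (X3 1) ⟨rfl, rfl, rfl, rfl, rfl, rfl, rfl⟩
      (com_F5_F5 f ⟨rfl, rfl, rfl, rfl, rfl, rfl, rfl⟩))
    have b := congrArg U.x4 (key x hx (X5 1) ⟨rfl, rfl, rfl, rfl, rfl, rfl, rfl⟩
      (com_F5_F5 f ⟨rfl, rfl, rfl, rfl, rfl, rfl, rfl⟩))
    have c := congrArg U.x4 (key x hx (X6 1) ⟨rfl, rfl, rfl, rfl, rfl, rfl, rfl⟩
      (com_F5_F5 f ⟨rfl, rfl, rfl, rfl, rfl, rfl, rfl⟩))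
    simp only [UE, q.1, q.2] at a b c
    simp only [mem_P7, q.1, q.2]
    grind
  · obtain ⟨g, hg⟩ := nf1 y2 h1
    refine .inr ⟨g, fun x hx => ?_⟩
    have q := nor_Qs.conj_mem _ (afn_mem α (P7Q hx)) g
    have k : ∀ w ∈ As, X1 y.x1 * w = w * X1 y.x1 → g * afn α x * g⁻¹ * w = w * (g * afn α x * g⁻¹) :=
      fun w hw c => by
        have := key x hx _ (nor_As.conj_mem' w hw g) (by
          rw [← hg] at c
          calc _ = g⁻¹ * (g * y * g⁻¹ * w) * g := by group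
            _ = _ := by rw [c]; group)
        calc _ = g * (afn α x * (g⁻¹ * w * g)) * g⁻¹ := by group
          _ = _ := by rw [this]; group
    have a := congrArg U.x4 (k (X2 1) ⟨rfl, rfl, rfl, rfl, rfl, rfl, rfl⟩ (by ext <;> simp only [UE]))
    have b := congrArg U.x4 (k (X3 1) ⟨rfl, rfl, rfl, rfl, rfl, rfl, rfl⟩ (by ext <;> simp only [UE]))
    have c := congrArg U.x4 (k (X5 1) ⟨rfl, rfl, rfl, rfl, rfl, rfl, rfl⟩ (by ext <;> simp only [UE]))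
    generalize g * afn α x * g⁻¹ = u at q a b c
    simp only [UE, q.1, q.2] at a b c
    simp only [mem_P1, q.1, q.2]
    grind

/-- `ω` interchanges `P1` and `P7`; in the second case of `ptQ` apply `extQ` to `ωQ K * cQ g * α`. -/
theorem genQ (h₀ : SA A₀) (L : Lc A₀ Qs A) (hω : ωQ K ∈ A) {α : MulAut (Qs : Subgroup (U K))} (hα : α ∈ A) :
    ∃ φ ∈ A₀, α = rQ φ ∨ ∃ g, α = cQ g * ωQ K * rQ φ := by
  rcases ptQ α with h | ⟨g, h⟩
  · obtain ⟨φ, a, b⟩ := extQ h₀ L hα h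
    exact ⟨φ, a, .inl b.symm⟩
  · obtain ⟨φ, a, b⟩ := extQ h₀ L (mul_mem hω (mul_mem (L.res _ (h₀.conj g)) hα))
      (ω_pres fun x hx => (afn_c g α (P7Q hx)).symm ▸ h x hx)
    refine ⟨φ, a, .inr ⟨g⁻¹, ?_⟩⟩
    rw [b, mul_assoc, ← mul_assoc (ωQ K), ωQ_sq, one_mul, cQ, map_inv, map_inv, inv_mul_cancel_left]

/-- PROOF.  `Lc.exists_not_res`, `extQ`, `ptQ` give `a = cQ g * α ∈ A` mapping `P7` into `P1`.  `ωQ K * a` preserves `P7`, so does its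
inverse, so `a⁻¹` maps `P1` into `P7`.  `a⁻¹` does not preserve `P7` (else `a (X7 1) ∈ P1 ∩ P7 = Ps`), so `ptQ` gives `g'`, and
`cQ g' * a⁻¹` is the required element (`P7` is normal). -/
theorem swapQ (h₀ : SA A₀) (L : Lc A₀ Qs A) : ∃ α ∈ A, (∀ x ∈ P7, afn α x ∈ P1) ∧ ∀ x ∈ P1, afn α x ∈ P7 := by
  obtain ⟨α, hα, n⟩ := L.exists_not_res
  obtain ⟨g, h⟩ := (ptQ α).resolve_left fun h => n (extQ h₀ L hα h)
  have ha : cQ g * α ∈ A := mul_mem (L.res _ (h₀.conj g)) hα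
  have h1 : ∀ x ∈ P7, afn (cQ g * α) x ∈ P1 := fun x hx => (afn_c g α (P7Q hx)).symm ▸ h x hx
  generalize cQ g * α = a at ha h1
  have h2 : ∀ x ∈ P1, afn a⁻¹ x ∈ P7 := fun x hx => by
    have := inv_pres P7Q (ω_pres h1) _ (ω17 hx)
    rwa [mul_inv_rev, ωQ_inv, afn_mul _ _ (ω_mem x), afn_ωQ (ω_mem x), ω_ω (P1Q hx)] at this
  obtain ⟨k, h3⟩ := (ptQ a⁻¹).resolve_left fun h3 => by
    have b := inv_pres P7Q h3 _ X7P
    have c := h1 _ X7P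
    rw [inv_inv] at b
    exact not_Ps a ⟨b.1, c.1, c.2⟩
  exact ⟨cQ k * a⁻¹, mul_mem (L.res _ (h₀.conj k)) (inv_mem ha), fun x hx => (afn_c k _ (P7Q hx)).symm ▸ h3 x hx,
    fun x hx => (afn_c k _ (P1Q hx)).symm ▸ nor_P7.conj_mem _ (h2 x hx) k⟩

end Cfsg.Agent.RFS
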