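import Cfsg.Agent.RFS.Def
import Cfsg.Agent.Comp.Basic

/-! `q = 2`: a bit-sliced model of `U K`; bit `i` of the coordinates describes the `i`-th element. -/

set_option autoImplicit false
set_option linter.unusedSectionVars false
set_option linter.unusedSimpArgs false
set_option maxRecDepth 20000

namespace Cfsg.Agent.RFS.TwoC

open Subgroup Cfsg.Agent.Oct Cfsg.Agent.S2F Cfsg.Agent.Comp

/-- families of elements -/
structure BV where
  (x1 y2 x2 x3 y4 x4 x5 y6 x6 x7 y8 x8 : ℕ)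

/-- the product -/
noncomputable def mulB (a b : BV) : BV :=
  BV.rec (motive := fun _ => BV) (fun ax1 ay2 ax2 ax3 ay4 ax4 ax5 ay6 ax6 ax7 ay8 ax8 =>
  BV.rec (motive := fun _ => BV) (fun bx1 by2 bx2 bx3 by4 bx4 bx5 by6 bx6 bx7 by8 bx8 =>
    force (Nat.xor ax1 bx1) fun cx1 =>
    force (Nat.xor (Nat.xor ay2 by2) (Nat.land ay8 bx1)) fun cy2 =>
    force (Nat.xor (Nat.xor (Nat.xor (Nat.xor (Nat.xor (Nat.xor (Nat.xor ax2 bx2) (Nat.land ay2 by2)) (Nat.land ay4 bx1)) (Nat.land ay6 bx1))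
      (Nat.land (Nat.land ax8 bx1) bx1)) (Nat.land (Nat.land ay2 ay8) bx1)) (Nat.land (Nat.land ay8 bx1) by2)) fun cx2 =>
    force (Nat.xor (Nat.xor (Nat.xor (Nat.xor (Nat.xor (Nat.xor (Nat.xor (Nat.xor (Nat.xor (Nat.xor (Nat.xor ax3 bx3) (Nat.land ax7 bx1)) (Nat.land
      ay4 by2)) (Nat.land ay6 bx1)) (Nat.land ay8 bx2)) (Nat.land (Nat.land ax8 bx1) by2)) (Nat.land (Nat.land ax8 bx1) bx1)) (Nat.land (Nat.land ay4
      ay8) bx1)) (Nat.land (Nat.land ay8 by2) by2)) (Nat.land (Nat.land (Nat.land ax8 ay8) bx1) bx1)) (Nat.land (Nat.land (Nat.land ay8 ay8) bx1)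
      bx1)) fun cx3 =>
    force (Nat.xor (Nat.xor (Nat.xor ay4 by4) (Nat.land ax8 bx1)) (Nat.land ay8 by2)) fun cy4 =>
    force (Nat.xor (Nat.xor (Nat.xor (Nat.xor (Nat.xor (Nat.xor (Nat.xor (Nat.xor (Nat.xor (Nat.xor (Nat.xor (Nat.xor (Nat.xor (Nat.xor (Nat.xor
      (Nat.xor (Nat.xor (Nat.xor (Nat.xor (Nat.xor (Nat.xor (Nat.xor (Nat.xor (Nat.xor (Nat.xor (Nat.xor (Nat.xor (Nat.xor (Nat.xor (Nat.xor (Nat.xor
      (Nat.xor (Nat.xor (Nat.xor (Nat.xor (Nat.xor (Nat.xor (Nat.xor (Nat.xor (Nat.xor (Nat.xor (Nat.xor (Nat.xor ax4 bx4) (Nat.land ax5 by2))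
      (Nat.land ax6 bx1)) (Nat.land ax7 bx2)) (Nat.land ax8 bx2)) (Nat.land ay4 by4)) (Nat.land ay6 bx3)) (Nat.land ay8 bx3)) (Nat.land (Nat.land ax5
      ay8) bx1)) (Nat.land (Nat.land ax7 ay6) bx1)) (Nat.land (Nat.land ax7 by2) by2)) (Nat.land (Nat.land ax7 bx1) by2)) (Nat.land (Nat.land ax8 bx1)
      bx3)) (Nat.land (Nat.land ax8 bx1) by4)) (Nat.land (Nat.land ax8 bx2) by2)) (Nat.land (Nat.land ax8 bx1) bx2)) (Nat.land (Nat.land ay6 ay8)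
      bx2)) (Nat.land (Nat.land ay8 by2) by4)) (Nat.land (Nat.land ay8 bx3) by2)) (Nat.land (Nat.land (Nat.land ax7 ax8) bx1) bx1)) (Nat.land
      (Nat.land (Nat.land ax7 ay8) bx1) by2)) (Nat.land (Nat.land ax7 ay8) bx1)) (Nat.land (Nat.land (Nat.land ax8 ay6) bx1) by2)) (Nat.land (Nat.land
      ax8 by2) by2)) (Nat.land (Nat.land ax8 ay4) bx1)) (Nat.land (Nat.land (Nat.land ax8 ay6) bx1) bx1)) (Nat.land (Nat.land (Nat.land ax8 bx1) by2)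
      by2)) (Nat.land (Nat.land ay4 ay8) by2)) (Nat.land (Nat.land (Nat.land ay6 ay8) by2) by2)) (Nat.land (Nat.land (Nat.land ay8 ay8) bx1) bx3))
      (Nat.land (Nat.land (Nat.land ay8 ay8) bx2) by2)) (Nat.land (Nat.land (Nat.land (Nat.land ax7 ay8) ay8) bx1) bx1)) (Nat.land (Nat.land (Nat.land
      ax8 ax8) bx1) bx1)) (Nat.land (Nat.land (Nat.land (Nat.land ax8 ay6) ay8) bx1) bx1)) (Nat.land (Nat.land (Nat.land ax8 ay8) bx1) by2)) (Nat.land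
      (Nat.land (Nat.land ax8 bx1) bx1) by2)) (Nat.land (Nat.land (Nat.land (Nat.land ax8 ay8) bx1) bx1) by2)) (Nat.land (Nat.land (Nat.land ay8 ay8)
      by2) by2)) (Nat.land (Nat.land (Nat.land ax8 ay8) bx1) bx1)) (Nat.land (Nat.land (Nat.land (Nat.land ax8 ay8) ay8) bx1) bx1)) (Nat.land
      (Nat.land (Nat.land (Nat.land ay6 ay8) ay8) bx1) bx1)) (Nat.land (Nat.land (Nat.land (Nat.land ay8 ay8) bx1) bx1) by2)) (Nat.land (Nat.land
      (Nat.land ay8 ay8) bx1) bx1)) fun cx4 =>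
    force (Nat.xor (Nat.xor (Nat.xor (Nat.xor (Nat.xor (Nat.xor (Nat.xor (Nat.xor (Nat.xor (Nat.xor (Nat.xor (Nat.xor (Nat.xor (Nat.xor (Nat.xor
      (Nat.xor (Nat.xor ax5 bx5) (Nat.land ax7 by2)) (Nat.land ax7 bx1)) (Nat.land ax8 bx2)) (Nat.land ay6 by4)) (Nat.land ay8 bx3)) (Nat.land
      (Nat.land ax7 ay8) bx1)) (Nat.land (Nat.land ax8 ay6) bx1)) (Nat.land (Nat.land ax8 bx1) by4)) (Nat.land (Nat.land ax8 bx1) by2)) (Nat.land
      (Nat.land ay6 ay8) by2)) (Nat.land (Nat.land ay8 ay8) bx2)) (Nat.land (Nat.land ay8 by2) by4)) (Nat.land (Nat.land ax8 bx1) bx1)) (Nat.land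
      (Nat.land (Nat.land ax8 ay8) bx1) bx1)) (Nat.land (Nat.land (Nat.land ay8 ay8) bx1) by4)) (Nat.land (Nat.land (Nat.land ay8 ay8) bx1) bx1)) fun
      cx5 =>
    force (Nat.xor (Nat.xor (Nat.xor (Nat.xor ay6 by6) (Nat.land ax8 bx1)) (Nat.land ay8 by2)) (Nat.land (Nat.land ay8 ay8) bx1)) fun cy6 =>
    force (Nat.xor (Nat.xor (Nat.xor (Nat.xor (Nat.xor (Nat.xor (Nat.xor (Nat.xor (Nat.xor (Nat.xor (Nat.xor (Nat.xor (Nat.xor (Nat.xor (Nat.xor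
      (Nat.xor (Nat.xor (Nat.xor (Nat.xor (Nat.xor (Nat.xor (Nat.xor (Nat.xor (Nat.xor (Nat.xor (Nat.xor (Nat.xor (Nat.xor (Nat.xor (Nat.xor ax6 bx6)
      (Nat.land ax7 by4)) (Nat.land ax7 by2)) (Nat.land ax8 bx3)) (Nat.land ax8 bx2)) (Nat.land ay6 by6)) (Nat.land ay8 bx5)) (Nat.land (Nat.land ax7
      ax8) bx1)) (Nat.land (Nat.land ax7 ay8) by2)) (Nat.land (Nat.land ax7 ay8) bx1)) (Nat.land (Nat.land ax8 ay8) bx2)) (Nat.land (Nat.land ax8 bx1)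
      by6)) (Nat.land (Nat.land ax8 by2) by4)) (Nat.land (Nat.land ax8 ay6) bx1)) (Nat.land (Nat.land ax8 bx1) by4)) (Nat.land (Nat.land ax8 by2)
      by2)) (Nat.land (Nat.land ay8 by2) by6)) (Nat.land (Nat.land (Nat.land ax8 ay8) bx1) by4)) (Nat.land (Nat.land ax8 bx1) by2)) (Nat.land
      (Nat.land (Nat.land ax8 ay8) bx1) by2)) (Nat.land (Nat.land (Nat.land ax8 ay8) bx1) by2)) (Nat.land (Nat.land ay6 ay8) by2)) (Nat.land (Nat.land
      (Nat.land ay8 ay8) bx1) by6)) (Nat.land (Nat.land ay8 ay8) bx2)) (Nat.land (Nat.land (Nat.land ax8 ay8) bx1) bx1)) (Nat.land (Nat.land (Nat.land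
      (Nat.land ax8 ay8) ay8) bx1) bx1)) (Nat.land (Nat.land (Nat.land ay6 ay8) ay8) bx1)) (Nat.land (Nat.land (Nat.land ay8 ay8) bx1) by4)) (Nat.land
      (Nat.land (Nat.land ay8 ay8) bx1) by2)) (Nat.land (Nat.land (Nat.land ay8 ay8) bx1) bx1)) fun cx6 =>
    force (Nat.xor (Nat.xor (Nat.xor (Nat.xor (Nat.xor (Nat.xor ax7 bx7) (Nat.land ax8 by2)) (Nat.land ax8 bx1)) (Nat.land ay8 by6)) (Nat.land
      (Nat.land ax8 ay8) bx1)) (Nat.land (Nat.land ay8 ay8) bx1)) fun cx7 =>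
    force (Nat.xor ay8 by8) fun cy8 =>
    force (Nat.xor (Nat.xor ax8 bx8) (Nat.land ay8 by8)) fun cx8 =>
    ⟨cx1, cy2, cx2, cx3, cy4, cx4, cx5, cy6, cx6, cx7, cy8, cx8⟩) b) a

/-- the inverse -/
noncomputable def invB (a : BV) : BV :=
  BV.rec (motive := fun _ => BV) (fun ax1 ay2 ax2 ax3 ay4 ax4 ax5 ay6 ax6 ax7 ay8 ax8 =>
    force ax1 fun cx1 =>
    force (Nat.xor ay2 (Nat.land ax1 ay8)) fun cy2 =>
    force (Nat.xor (Nat.xor (Nat.xor (Nat.xor (Nat.xor (Nat.xor ax2 (Nat.land ax1 ay4)) (Nat.land ax1 ay6)) (Nat.land ay2 ay2)) (Nat.land (Nat.land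
      ax1 ax1) ax8)) (Nat.land (Nat.land ax1 ay2) ay8)) (Nat.land (Nat.land (Nat.land ax1 ax1) ay8) ay8)) fun cx2 =>
    force (Nat.xor (Nat.xor (Nat.xor (Nat.xor (Nat.xor (Nat.xor (Nat.xor (Nat.xor (Nat.xor (Nat.xor (Nat.xor ax3 (Nat.land ax1 ay6)) (Nat.land ax1
      ax7)) (Nat.land ax2 ay8)) (Nat.land ay2 ay4)) (Nat.land (Nat.land ax1 ax1) ax8)) (Nat.land (Nat.land ax1 ay4) ay8)) (Nat.land (Nat.land ax1 ax8)
      ay2)) (Nat.land (Nat.land ax1 ay6) ay8)) (Nat.land (Nat.land (Nat.land ax1 ax1) ax8) ay8)) (Nat.land (Nat.land (Nat.land ax1 ay2) ay8) ay8))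
      (Nat.land (Nat.land (Nat.land ax1 ax1) ay8) ay8)) fun cx3 =>
    force (Nat.xor (Nat.xor (Nat.xor ay4 (Nat.land ax1 ax8)) (Nat.land ay2 ay8)) (Nat.land (Nat.land ax1 ay8) ay8)) fun cy4 =>
    force (Nat.xor (Nat.xor (Nat.xor (Nat.xor (Nat.xor (Nat.xor (Nat.xor (Nat.xor (Nat.xor (Nat.xor (Nat.xor (Nat.xor (Nat.xor (Nat.xor (Nat.xor
      (Nat.xor (Nat.xor (Nat.xor (Nat.xor (Nat.xor (Nat.xor (Nat.xor (Nat.xor (Nat.xor (Nat.xor (Nat.xor (Nat.xor (Nat.xor (Nat.xor (Nat.xor (Nat.xor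
      (Nat.xor (Nat.xor (Nat.xor (Nat.xor (Nat.xor (Nat.xor (Nat.xor (Nat.xor (Nat.xor ax4 (Nat.land ax1 ax6)) (Nat.land ax2 ax7)) (Nat.land ax2 ax8))
      (Nat.land ax3 ay6)) (Nat.land ax3 ay8)) (Nat.land ax5 ay2)) (Nat.land ay4 ay4)) (Nat.land (Nat.land ax1 ax2) ax8)) (Nat.land (Nat.land ax1 ax3)
      ax8)) (Nat.land (Nat.land ax1 ax7) ay4)) (Nat.land (Nat.land ax1 ax7) ay2)) (Nat.land (Nat.land ax1 ay6) ay6)) (Nat.land (Nat.land ax1 ax7)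
      ay6)) (Nat.land (Nat.land ax2 ax8) ay2)) (Nat.land (Nat.land ax2 ay8) ay8)) (Nat.land (Nat.land ax3 ay2) ay8)) (Nat.land (Nat.land ay2 ay4)
      ay6)) (Nat.land (Nat.land (Nat.land ax1 ax1) ax7) ax8)) (Nat.land (Nat.land (Nat.land ax1 ax1) ax8) ay6)) (Nat.land (Nat.land (Nat.land ax1 ay2)
      ay6) ay8)) (Nat.land (Nat.land ax1 ax7) ay8)) (Nat.land (Nat.land ax1 ax8) ay4)) (Nat.land (Nat.land (Nat.land ax1 ax7) ay2) ay8)) (Nat.land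
      (Nat.land (Nat.land ax1 ax8) ay2) ay6)) (Nat.land (Nat.land ax1 ay6) ay8)) (Nat.land (Nat.land ax8 ay2) ay2)) (Nat.land (Nat.land ay2 ay4) ay8))
      (Nat.land (Nat.land (Nat.land ax1 ax1) ax8) ay2)) (Nat.land (Nat.land (Nat.land (Nat.land ax1 ax1) ax8) ay2) ay8)) (Nat.land (Nat.land (Nat.land
      ax1 ax2) ay8) ay8)) (Nat.land (Nat.land (Nat.land ax1 ax1) ax8) ax8)) (Nat.land (Nat.land (Nat.land ax1 ay6) ay8) ay8)) (Nat.land (Nat.land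
      (Nat.land ax1 ax8) ay2) ay8)) (Nat.land (Nat.land (Nat.land ay2 ay2) ay8) ay8)) (Nat.land (Nat.land (Nat.land (Nat.land ax1 ax1) ay6) ay8) ay8))
      (Nat.land (Nat.land (Nat.land ax1 ax1) ax8) ay8)) (Nat.land (Nat.land (Nat.land ax1 ay4) ay8) ay8)) (Nat.land (Nat.land (Nat.land ax1 ay2) ay8)
      ay8)) (Nat.land (Nat.land (Nat.land (Nat.land ax1 ax1) ay2) ay8) ay8)) (Nat.land (Nat.land (Nat.land (Nat.land ax1 ax1) ax8) ay8) ay8)) fun cx4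
      =>
    force (Nat.xor (Nat.xor (Nat.xor (Nat.xor (Nat.xor (Nat.xor (Nat.xor (Nat.xor (Nat.xor (Nat.xor (Nat.xor (Nat.xor (Nat.xor (Nat.xor ax5 (Nat.land
      ax1 ax7)) (Nat.land ax2 ax8)) (Nat.land ax3 ay8)) (Nat.land ax7 ay2)) (Nat.land ay4 ay6)) (Nat.land (Nat.land ax1 ax8) ay2)) (Nat.land (Nat.land
      ax1 ay6) ay8)) (Nat.land (Nat.land ax1 ax7) ay8)) (Nat.land (Nat.land ax1 ax8) ay6)) (Nat.land (Nat.land ax8 ay2) ay2)) (Nat.land (Nat.land ax1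
      ax1) ax8)) (Nat.land (Nat.land (Nat.land ax1 ax1) ax8) ay8)) (Nat.land (Nat.land (Nat.land ax1 ay2) ay8) ay8)) (Nat.land (Nat.land (Nat.land ax1
      ax1) ay8) ay8)) fun cx5 =>
    force (Nat.xor (Nat.xor ay6 (Nat.land ax1 ax8)) (Nat.land ay2 ay8)) fun cy6 =>
    force (Nat.xor (Nat.xor (Nat.xor (Nat.xor (Nat.xor (Nat.xor (Nat.xor (Nat.xor (Nat.xor (Nat.xor (Nat.xor (Nat.xor (Nat.xor (Nat.xor (Nat.xor
      (Nat.xor (Nat.xor (Nat.xor (Nat.xor (Nat.xor (Nat.xor (Nat.xor (Nat.xor (Nat.xor (Nat.xor (Nat.xor (Nat.xor (Nat.xor ax6 (Nat.land ax2 ax8))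
      (Nat.land ax3 ax8)) (Nat.land ax5 ay8)) (Nat.land ax7 ay4)) (Nat.land ax7 ay2)) (Nat.land ay6 ay6)) (Nat.land (Nat.land ax1 ax7) ay8)) (Nat.land
      (Nat.land ax1 ax7) ax8)) (Nat.land (Nat.land ax1 ax8) ay6)) (Nat.land (Nat.land ax2 ax8) ay8)) (Nat.land (Nat.land ax3 ay8) ay8)) (Nat.land
      (Nat.land ax7 ay2) ay8)) (Nat.land (Nat.land ay2 ay6) ay8)) (Nat.land (Nat.land ay4 ay6) ay8)) (Nat.land (Nat.land (Nat.land ax1 ax8) ay2) ay8))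
      (Nat.land (Nat.land (Nat.land ax1 ay6) ay8) ay8)) (Nat.land (Nat.land (Nat.land ax1 ax7) ay8) ay8)) (Nat.land (Nat.land (Nat.land ax1 ax8) ay6)
      ay8)) (Nat.land (Nat.land ax1 ax8) ay2)) (Nat.land (Nat.land (Nat.land ax1 ax8) ay2) ay8)) (Nat.land (Nat.land ax2 ay8) ay8)) (Nat.land
      (Nat.land (Nat.land ax8 ay2) ay2) ay8)) (Nat.land (Nat.land (Nat.land ax1 ax1) ax8) ay8)) (Nat.land (Nat.land (Nat.land (Nat.land ax1 ax1) ax8)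
      ay8) ay8)) (Nat.land (Nat.land (Nat.land ax1 ay6) ay8) ay8)) (Nat.land (Nat.land (Nat.land ax1 ay2) ay8) ay8)) (Nat.land (Nat.land (Nat.land ax1
      ay2) ay8) ay8)) (Nat.land (Nat.land (Nat.land ax1 ax1) ay8) ay8)) fun cx6 =>
    force (Nat.xor (Nat.xor (Nat.xor (Nat.xor (Nat.xor (Nat.xor ax7 (Nat.land ax1 ax8)) (Nat.land ax8 ay2)) (Nat.land ay6 ay8)) (Nat.land (Nat.land
      ax1 ax8) ay8)) (Nat.land (Nat.land ay2 ay8) ay8)) (Nat.land (Nat.land ax1 ay8) ay8)) fun cx7 =>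
    force ay8 fun cy8 =>
    force (Nat.xor ax8 (Nat.land ay8 ay8)) fun cx8 =>
    ⟨cx1, cy2, cx2, cx3, cy4, cx4, cx5, cy6, cx6, cx7, cy8, cx8⟩) a

/-- the places where two families differ -/
noncomputable def neB (a b : BV) : ℕ :=
  BV.rec (motive := fun _ => ℕ) (fun ax1 ay2 ax2 ax3 ay4 ax4 ax5 ay6 ax6 ax7 ay8 ax8 =>
  BV.rec (motive := fun _ => ℕ) (fun bx1 by2 bx2 bx3 by4 bx4 bx5 by6 bx6 bx7 by8 bx8 =>
    Nat.lor (Nat.xor ax1 bx1) (Nat.lor (Nat.xor ay2 by2) (Nat.lor (Nat.xor ax2 bx2) (Nat.lor (Nat.xor ax3 bx3) (Nat.lor (Nat.xor ay4 by4) (Nat.lor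
      (Nat.xor ax4 bx4) (Nat.lor (Nat.xor ax5 bx5) (Nat.lor (Nat.xor ay6 by6) (Nat.lor (Nat.xor ax6 bx6) (Nat.lor (Nat.xor ax7 bx7) (Nat.lor (Nat.xor
      ay8 by8) (Nat.xor ax8 bx8)))))))))))) b) a

/-- the reflection -/
noncomputable def psiB (a : BV) : BV :=
  BV.rec (motive := fun _ => BV) (fun _ ay2 ax2 ax3 ay4 ax4 ax5 ay6 ax6 ax7 ay8 ax8 =>
    (mulB (mulB (mulB (mulB (mulB (mulB (mulB (mulB (mulB (mulB ⟨0, 0, 0, 0, 0, 0, 0, 0, 0, 0, ay2, 0⟩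
      ⟨0, 0, 0, 0, 0, 0, 0, 0, 0, 0, 0, ax2⟩)
      ⟨0, 0, 0, 0, 0, 0, 0, 0, 0, ax3, 0, 0⟩)
      ⟨0, 0, 0, 0, 0, 0, 0, ay4, 0, 0, 0, 0⟩)
      ⟨0, 0, 0, 0, 0, 0, 0, 0, ax4, 0, 0, 0⟩)
      ⟨0, 0, 0, 0, 0, 0, ax5, 0, 0, 0, 0, 0⟩)
      ⟨0, 0, 0, 0, ay6, 0, 0, 0, 0, 0, 0, 0⟩)
      ⟨0, 0, 0, 0, 0, ax6, 0, 0, 0, 0, 0, 0⟩)
      ⟨0, 0, 0, ax7, 0, 0, 0, 0, 0, 0, 0, 0⟩)
      ⟨0, ay8, 0, 0, 0, 0, 0, 0, 0, 0, 0, 0⟩)
      ⟨0, 0, ax8, 0, 0, 0, 0, 0, 0, 0, 0, 0⟩)) a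

/-- the automorphism `g0` -/
noncomputable def g0B (a : BV) : BV :=
  BV.rec (motive := fun _ => BV) (fun ax1 ay2 ax2 ax3 ay4 ax4 ax5 ay6 ax6 ax7 ay8 ax8 =>
    ⟨ax1, ay2, ax2, ax3, ay4, Nat.xor (Nat.xor ax4 (Nat.land ax1 ay2)) ay8, Nat.xor ax5 ax1, ay6,
      Nat.xor (Nat.xor ax6 ay2) ay8, ax7, ay8, ax8⟩) a

/-- a constant bit -/
noncomputable def sel (m k j : ℕ) : ℕ := Bool.rec (motive := fun _ => ℕ) 0 m (k.testBit j)

/-- a constant family -/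
noncomputable def cB (m k : ℕ) : BV :=
  ⟨sel m k 0, sel m k 1, sel m k 2, sel m k 3, sel m k 4, sel m k 5, sel m k 6, sel m k 7, sel m k 8, sel m k 9, sel m k 10, sel m k 11⟩

/-- the automorphism of order three -/
noncomputable def rhoB (m : ℕ) (a : BV) : BV := psiB (mulB (mulB (cB m 1) a) (invB (cB m 1)))

/-- all indices -/
def M : ℕ := nat_lit 0xffffffffffffffffffffffffffffffffffffffffffffffffffffffffffffffffffffffffffffffffffffffffffffffffffffffffffffffffffffffffffffffff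
/-- a variable -/
def V0 : ℕ := nat_lit 0xaaaaaaaaaaaaaaaaaaaaaaaaaaaaaaaaaaaaaaaaaaaaaaaaaaaaaaaaaaaaaaaaaaaaaaaaaaaaaaaaaaaaaaaaaaaaaaaaaaaaaaaaaaaaaaaaaaaaaaaaaaaaaaaa
/-- a variable -/
def V1 : ℕ := nat_lit 0xcccccccccccccccccccccccccccccccccccccccccccccccccccccccccccccccccccccccccccccccccccccccccccccccccccccccccccccccccccccccccccccccc
/-- a variable -/
def V2 : ℕ := nat_lit 0xf0f0f0f0f0f0f0f0f0f0f0f0f0f0f0f0f0f0f0f0f0f0f0f0f0f0f0f0f0f0f0f0f0f0f0f0f0f0f0f0f0f0f0f0f0f0f0f0f0f0f0f0f0f0f0f0f0f0f0f0f0f0f0f0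
/-- a variable -/
def V3 : ℕ := nat_lit 0xff00ff00ff00ff00ff00ff00ff00ff00ff00ff00ff00ff00ff00ff00ff00ff00ff00ff00ff00ff00ff00ff00ff00ff00ff00ff00ff00ff00ff00ff00ff00ff00
/-- a variable -/
def V4 : ℕ := nat_lit 0xffff0000ffff0000ffff0000ffff0000ffff0000ffff0000ffff0000ffff0000ffff0000ffff0000ffff0000ffff0000ffff0000ffff0000ffff0000ffff0000
/-- a variable -/
def V5 : ℕ := nat_lit 0xffffffff00000000ffffffff00000000ffffffff00000000ffffffff00000000ffffffff00000000ffffffff00000000ffffffff00000000ffffffff00000000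
/-- a variable -/
def V6 : ℕ := nat_lit 0xffffffffffffffff0000000000000000ffffffffffffffff0000000000000000ffffffffffffffff0000000000000000ffffffffffffffff0000000000000000
/-- a variable -/
def V7 : ℕ := nat_lit 0xffffffffffffffffffffffffffffffff00000000000000000000000000000000ffffffffffffffffffffffffffffffff00000000000000000000000000000000
/-- a variable -/
def V8 : ℕ := nat_lit 0xffffffffffffffffffffffffffffffffffffffffffffffffffffffffffffffff0000000000000000000000000000000000000000000000000000000000000000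

/-- the general element with given `y2`, `y8` -/
def gen (p q : ℕ) : BV := ⟨0, p, V0, V1, V2, V3, V4, V5, V6, V7, q, V8⟩

theorem idx : ∀ b0 b1 b2 b3 b4 b5 b6 b7 b8 : Bool,
    let i := b0.toNat + 2 * b1.toNat + 4 * b2.toNat + 8 * b3.toNat + 16 * b4.toNat + 32 * b5.toNat + 64 * b6.toNat +
      128 * b7.toNat + 256 * b8.toNat
    M.testBit i = true ∧ V0.testBit i = b0 ∧ V1.testBit i = b1 ∧ V2.testBit i = b2 ∧ V3.testBit i = b3 ∧
      V4.testBit i = b4 ∧ V5.testBit i = b5 ∧ V6.testBit i = b6 ∧ V7.testBit i = b7 ∧ V8.testBit i = b8 := by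
  decide +kernel

variable {K : Type*} [Field K] [Tw K]

/-- a bit as an element of the field -/
def bt (K : Type*) [Field K] (i n : ℕ) : K := bif n.testBit i then 1 else 0

variable {i m k : ℕ}

theorem bt_xor (a b : ℕ) : bt K i (Nat.xor a b) = bt K i a + bt K i b := by
  simp only [bt, Nat.xor_eq, Nat.testBit_xor]
  cases a.testBit i <;> cases b.testBit i <;> simp [CharTwo.add_self_eq_zero]

theorem bt_land (a b : ℕ) : bt K i (Nat.land a b) = bt K i a * bt K i b := by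
  simp only [bt, Nat.land_eq, Nat.testBit_and]
  cases a.testBit i <;> cases b.testBit i <;> simp

theorem σ_bt (a : ℕ) : σ (bt K i a) = bt K i a := by
  unfold bt; cases a.testBit i <;> simp

theorem bt_two (a : ℕ) : bt K i a ^ 2 = bt K i a := by
  unfold bt; cases a.testBit i <;> simp

theorem bt_three (a : ℕ) : bt K i a ^ 3 = bt K i a := by
  unfold bt; cases a.testBit i <;> simp

theorem bt_zero : bt K i 0 = 0 := by simp [bt]

theorem bt_eq {a b : ℕ} : bt K i a = bt K i b ↔ (Nat.xor a b).testBit i = false := by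
  simp only [bt, Nat.xor_eq, Nat.testBit_xor]
  cases a.testBit i <;> cases b.testBit i <;> simp

theorem bt_sel (h : m.testBit i = true) (j : ℕ) : bt K i (sel m k j) = bt K j k := by
  unfold sel bt; cases k.testBit j <;> simp [h]

/-- the `i`-th member -/
def ev (K : Type*) [Field K] (i : ℕ) (a : BV) : U K :=
  ⟨bt K i a.x1, bt K i a.y2, bt K i a.x2, bt K i a.x3, bt K i a.y4, bt K i a.x4, bt K i a.x5, bt K i a.y6, bt K i a.x6, bt K i a.x7, bt K i a.y8, bt K i a.x8⟩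

/-- the element with a given code -/
def cU (K : Type*) [Field K] (k : ℕ) : U K :=
  ⟨bt K 0 k, bt K 1 k, bt K 2 k, bt K 3 k, bt K 4 k, bt K 5 k, bt K 6 k, bt K 7 k, bt K 8 k, bt K 9 k, bt K 10 k, bt K 11 k⟩

theorem ev_mul (a b : BV) : ev K i (mulB a b) = ev K i a * ev K i b := by
  cases a; cases b
  ext <;> simp only [mulB, force_eq, ev, UE, bt_xor, bt_land, σ_bt, bt_two, bt_three]

theorem ev_inv (a : BV) : ev K i (invB a) = (ev K i a)⁻¹ := by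
  cases a
  ext <;> simp only [invB, force_eq, ev, UE, bt_xor, bt_land, σ_bt, bt_two, bt_three]

theorem ev_ne {a b : BV} : (neB a b).testBit i = false ↔ ev K i a = ev K i b := by
  cases a; cases b
  simp only [neB, ev, U.mk.injEq, bt_eq, Nat.lor_eq, Nat.testBit_or, Bool.or_eq_false_iff]

theorem ev_psi (a : BV) : ev K i (psiB a) = ψ (ev K i a) := by
  cases a
  simp only [psiB, ev_mul, ψ]
  simp only [ev, bt_zero]
  rfl

theorem ev_g0 (a : BV) : ev K i (g0B a) = g0 (ev K i a) := by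
  cases a
  simp only [g0B, g0, ev, bt_xor, bt_land]

theorem ev_cB (h : m.testBit i = true) (k : ℕ) : ev K i (cB m k) = cU K k := by
  simp only [cB, ev, cU, bt_sel h]

/-- the automorphism of order three -/
def rho (u : U K) : U K := ψ (X1 1 * u * (X1 1)⁻¹)

theorem ev_rho (h : m.testBit i = true) (a : BV) : ev K i (rhoB m a) = rho (ev K i a) := by
  rw [rhoB, ev_psi, ev_mul, ev_mul, ev_inv, ev_cB h]; rfl

theorem ex_gen (h2 : ∀ x : K, x = 0 ∨ x = 1) {u : U K} (h : u.x1 = 0) :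
    ∃ i, M.testBit i = true ∧ ∀ p q, u.y2 = bt K i p → u.y8 = bt K i q → u = ev K i (gen p q) := by
  have e : ∀ x : K, ∃ b : Bool, x = bif b then 1 else 0 := fun x =>
    (h2 x).elim (fun e => ⟨false, e⟩) fun e => ⟨true, e⟩
  choose f hf using e
  obtain ⟨h0, e0, e1, e2, e3, e4, e5, e6, e7, e8⟩ :=
    idx (f u.x2) (f u.x3) (f u.y4) (f u.x4) (f u.x5) (f u.y6) (f u.x6) (f u.x7) (f u.x8)
  have k : ∀ {x : K} {n j : ℕ}, n.testBit j = f x → x = bt K j n := fun {x n j} e => by rw [bt, e, ← hf]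
  exact ⟨_, h0, fun p q hp hq => U.ext (h.trans bt_zero.symm) hp (k e0) (k e1) (k e2) (k e3) (k e4) (k e5) (k e6)
    (k e7) hq (k e8)⟩

end Cfsg.Agent.RFS.TwoC
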