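import Cfsg.Agent.RFS.Ker
import Cfsg.Agent.RFS.TwoCa

/-!
`q = 2`: the centraliser in `OR` of an automorphism of order three (a kernel computation).
-/

set_option autoImplicit false
set_option linter.unusedSectionVars false
set_option linter.unusedSimpArgs false
set_option maxRecDepth 20000

namespace Cfsg.Agent.RFS

open Subgroup Cfsg.Agent.Oct Cfsg.Agent.S2F Cfsg.Agent.Fus Cfsg.Agent.Comp

namespace TwoC

/-- relations between the generators -/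
def Rel {G : Type*} [Group G] (a b c d : G) : Prop :=
  a * a * a * a = 1 ∧ d = c * b⁻¹ * c * a⁻¹ * c ∧ c * a * c⁻¹ = a⁻¹ * b * a⁻¹ * b * b * a⁻¹ * b ∧
    c * b * c⁻¹ = a * b * a⁻¹ * b⁻¹ * a⁻¹ * b * a

theorem Rel.map {G G' : Type*} [Group G] [Group G'] (f : G →* G') {a b c d : G} (h : Rel a b c d) :
    Rel (f a) (f b) (f c) (f d) :=
  ⟨by simpa only [map_mul, map_one] using congrArg f h.1, by simpa only [map_mul, map_inv] using congrArg f h.2.1,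
    by simpa only [map_mul, map_inv] using congrArg f h.2.2.1,
    by simpa only [map_mul, map_inv] using congrArg f h.2.2.2⟩

local infixl:70 " ⬝ " => mulB
local postfix:max "ⁱ" => invB

/-- the places where a relation fails -/
noncomputable def relB (a b c d : BV) : ℕ :=
  Nat.lor (neB (a ⬝ a ⬝ a ⬝ a) (cB 0 0)) (Nat.lor (neB d (c ⬝ bⁱ ⬝ c ⬝ aⁱ ⬝ c))
    (Nat.lor (neB (c ⬝ a ⬝ cⁱ) (aⁱ ⬝ b ⬝ aⁱ ⬝ b ⬝ b ⬝ aⁱ ⬝ b)) (neB (c ⬝ b ⬝ cⁱ) (a ⬝ b ⬝ aⁱ ⬝ bⁱ ⬝ aⁱ ⬝ b ⬝ a))))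

/-- the places where `(a, b, c)` is not the conjugate of `(a', b', c')` by `r` -/
noncomputable def cjB (a b c r a' b' c' : BV) : ℕ :=
  Nat.lor (neB a (r ⬝ a' ⬝ rⁱ)) (Nat.lor (neB b (r ⬝ b' ⬝ rⁱ)) (neB c (r ⬝ c' ⬝ rⁱ)))

/-- the fixed points in `P0` -/
def L : List ℕ := [0, 64, 984, 920, 2980, 2396, 2332, 3044]

/-- intersection over a list -/
noncomputable def meet (l : List ℕ) (f : ℕ → ℕ) : ℕ :=
  List.rec (motive := fun _ => ℕ) M (fun r _ ih => Nat.land (f r) ih) l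

theorem meet_bit {l : List ℕ} {f : ℕ → ℕ} {D i : ℕ} (h : Nat.lor (meet l f) D = D) (hi : M.testBit i = true)
    (hD : D.testBit i = false) : ∃ r ∈ l, (f r).testBit i = false := by
  have e := congrArg (·.testBit i) h
  simp only [Nat.lor_eq, Nat.testBit_or, hD, Bool.or_false] at e
  clear h
  induction l with
  | nil => exact absurd (hi.symm.trans e) (by decide)
  | cons r l ih =>
    change (f r &&& meet l f).testBit i = false at e
    rw [Nat.testBit_and, Bool.and_eq_false_iff] at e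
    exact e.elim (fun e => ⟨r, List.mem_cons_self, e⟩) fun e =>
      let ⟨s, hs, e⟩ := ih e; ⟨s, List.mem_cons_of_mem _ hs, e⟩

theorem chk1 : Nat.lor (meet L fun r => neB (gen 0 0) (cB M r)) (neB (rhoB M (gen 0 0)) (gen 0 0)) =
    neB (rhoB M (gen 0 0)) (gen 0 0) := by decide +kernel

theorem chk2 : ∀ y ∈ L, Nat.lor (meet L fun r => Nat.land
    (cjB (rhoB M (gen M 0)) (gen M 0) (cB M y) (cB M r) (cB M 1024) (cB M 2) (cB M 2980))
    (cjB (rhoB M (gen M 0)) (gen M 0) (cB M y) (cB M r) (g0B (cB M 1024)) (g0B (cB M 2)) (g0B (cB M 2980))))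
    (relB (rhoB M (gen M 0)) (gen M 0) (cB M y) (rhoB M (rhoB M (gen M 0)))) =
    relB (rhoB M (gen M 0)) (gen M 0) (cB M y) (rhoB M (rhoB M (gen M 0))) := by decide +kernel

theorem chk3 : let a := cB 1 1024; let b := cB 1 2; let c := cB 1 2980
    (relB a b c (rhoB 1 a)).testBit 0 = false ∧ (neB (rhoB 1 b) a).testBit 0 = false ∧
    (neB (rhoB 1 c) c).testBit 0 = false ∧
    (neB (cB 1 4) (b ⬝ b)).testBit 0 = false ∧ (neB (cB 1 8) (a ⬝ bⁱ ⬝ c ⬝ b ⬝ aⁱ ⬝ cⁱ)).testBit 0 = false ∧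
    (neB (cB 1 16) (a ⬝ bⁱ ⬝ c ⬝ a ⬝ bⁱ)).testBit 0 = false ∧
    (neB (cB 1 32) (b ⬝ c ⬝ c ⬝ bⁱ ⬝ c ⬝ c)).testBit 0 = false ∧ (neB (cB 1 64) (c ⬝ c)).testBit 0 = false ∧
    (neB (cB 1 128) (a ⬝ a ⬝ bⁱ ⬝ c ⬝ bⁱ)).testBit 0 = false ∧
    (neB (cB 1 256) (a ⬝ c ⬝ c ⬝ aⁱ ⬝ c ⬝ c)).testBit 0 = false ∧
    (neB (cB 1 512) (bⁱ ⬝ cⁱ ⬝ b ⬝ cⁱ)).testBit 0 = false ∧ (neB (cB 1 2048) (a ⬝ a)).testBit 0 = false := by
  decide +kernel

theorem L_ev : ∀ r ∈ L, r.testBit 0 = false := by decide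

variable {K : Type*} [Field K] [Tw K] {i : ℕ}

theorem ev_rel {a b c d : BV} :
    (relB a b c d).testBit i = false ↔ Rel (ev K i a) (ev K i b) (ev K i c) (ev K i d) := by
  have e : ev K i (cB 0 0) = 1 := by
    simp only [cB, ev, sel, Nat.zero_testBit, bt_zero]; rfl
  simp only [relB, Nat.lor_eq, Nat.testBit_or, Bool.or_eq_false_iff, ev_ne (K := K), ev_mul, ev_inv, e, Rel]

theorem ev_cj {a b c r a' b' c' : BV} (h : (cjB a b c r a' b' c').testBit i = false) :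
    ev K i a = ev K i r * ev K i a' * (ev K i r)⁻¹ ∧ ev K i b = ev K i r * ev K i b' * (ev K i r)⁻¹ ∧
      ev K i c = ev K i r * ev K i c' * (ev K i r)⁻¹ := by
  simpa only [cjB, Nat.lor_eq, Nat.testBit_or, Bool.or_eq_false_iff, ev_ne (K := K), ev_mul, ev_inv] using h

theorem facts : let a := cU K 1024; let b := cU K 2; let c := cU K 2980
    Rel a b c (rho a) ∧ rho b = a ∧ rho c = c ∧ X2 1 = b * b ∧ X3 1 = a * b⁻¹ * c * b * a⁻¹ * c⁻¹ ∧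
    Y4 1 = a * b⁻¹ * c * a * b⁻¹ ∧ X4 1 = b * c * c * b⁻¹ * c * c ∧ X5 1 = c * c ∧ Y6 1 = a * a * b⁻¹ * c * b⁻¹ ∧
    X6 1 = a * c * c * a⁻¹ * c * c ∧ X7 1 = b⁻¹ * c⁻¹ * b * c⁻¹ ∧ X8 1 = a * a := by
  have h := chk3
  have o : (1 : ℕ).testBit 0 = true := rfl
  simp only [ev_rel (K := K), ev_ne (K := K), ev_mul, ev_inv, ev_rho o, ev_cB o] at h
  exact h

theorem le_of_gen (h2 : ∀ x : K, x = 0 ∨ x = 1) {T : Subgroup (U K)} (a : cU K 1024 ∈ T) (b : cU K 2 ∈ T)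
    (c : cU K 2980 ∈ T) : Rs ≤ T := fun u hu => by
  obtain ⟨-, -, -, e1, e2, e3, e4, e5, e6, e7, e8, e9⟩ := facts (K := K)
  have k : ∀ f : K → U K, f 0 = 1 → f 1 ∈ T → ∀ x, f x ∈ T := fun f h0 h1 x => by
    rcases h2 x with rfl | rfl
    exacts [h0 ▸ one_mem _, h1]
  have a' := inv_mem a
  have b' := inv_mem b
  have c' := inv_mem c
  rw [decomp u, show u.x1 = 0 from hu, X1_zero, one_mul]
  refine mul_mem (mul_mem (mul_mem (mul_mem (mul_mem (mul_mem (mul_mem (mul_mem (mul_mem (mul_mem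
    (k Y2 rfl b _) (k X2 rfl ?_ _)) (k X3 rfl ?_ _)) (k Y4 rfl ?_ _)) (k X4 rfl ?_ _)) (k X5 rfl ?_ _))
    (k Y6 rfl ?_ _)) (k X6 rfl ?_ _)) (k X7 rfl ?_ _)) (k Y8 rfl a _)) (k X8 rfl ?_ _)
  all_goals
    simp only [e1, e2, e3, e4, e5, e6, e7, e8, e9]
    repeat' first | assumption | refine mul_mem ?_ ?_

theorem aut_eq (h2 : ∀ x : K, x = 0 ∨ x = 1) {α β : MulAut (Rs : Subgroup (U K))}
    (h : afn α (cU K 1024) = afn β (cU K 1024) ∧ afn α (cU K 2) = afn β (cU K 2) ∧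
      afn α (cU K 2980) = afn β (cU K 2980)) : α = β := by
  have m : ∀ {x : U K} (hx : x ∈ Rs), x ∈ (α.toMonoidHom.eqLocus β.toMonoidHom).map Rs.subtype ↔
      afn α x = afn β x := fun {x} hx => by
    rw [afn_apply _ hx, afn_apply _ hx, ← Subtype.ext_iff]
    exact mem_map_iff_mem (x := ⟨x, hx⟩) Rs.subtype_injective
  exact aut_ext fun x hx => (m hx).1 (le_of_gen h2 ((m rfl).2 h.1) ((m rfl).2 h.2.1) ((m rfl).2 h.2.2) hx)

end TwoC

open TwoC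

variable {K : Type*} [Field K] [Tw K] [Finite K] {A₀ : Subgroup (MulAut (U K))}
  {A : Subgroup (MulAut (Qs : Subgroup (U K)))} {B : Subgroup (MulAut (Rs : Subgroup (U K)))}

/-- `R` is generated by `A = Y8 1`, `B = Y2 1`, `C` with `ρ B = A`, `ρ C = C`; the images under `c` satisfy the same
relations, and a kernel computation lists the solutions. -/
theorem twoC (h2 : ∀ x : K, x = 0 ∨ x = 1) {c : MulAut (Rs : Subgroup (U K))} (hc : c ∈ OR K)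
    (h : c * (ψR K * cR (X1 1)) = ψR K * cR (X1 1) * c) : ∃ r ∈ Rs, c = cR r ∨ c = cR r * rR (γ0 h2) := by
  have hρ : ∀ x ∈ Rs, afn (ψR K * cR (X1 1)) x = rho x := fun x hx => by
    rw [afn_mul _ _ hx, afn_cR _ hx, afn_ψR ((nor_Rs (K := K)).conj_mem _ hx _)]; rfl
  have cρ : ∀ x ∈ Rs, afn c (rho x) = rho (afn c x) := fun x hx => by
    rw [← hρ x hx, ← afn_mul _ _ hx, h, afn_mul _ _ hx, hρ _ (afn_mem c hx)]
  have mA : cU K 1024 ∈ Rs := rfl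
  have mB : cU K 2 ∈ Rs := rfl
  have mC : cU K 2980 ∈ Rs := rfl
  have mD : rho (cU K 1024) ∈ Rs := ψ_mem _
  obtain ⟨r0, e1, e2, -⟩ := facts (K := K)
  have r1 : Rel (afn c (cU K 1024)) (afn c (cU K 2)) (afn c (cU K 2980)) (afn c (rho (cU K 1024))) := by
    rw [afn_apply _ mA, afn_apply _ mB, afn_apply _ mC, afn_apply _ mD]
    exact Rel.map (Rs.subtype.comp c.toMonoidHom) (a := ⟨_, mA⟩) (b := ⟨_, mB⟩) (c := ⟨_, mC⟩) (d := ⟨_, mD⟩)
      ⟨Subtype.ext r0.1, Subtype.ext r0.2.1, Subtype.ext r0.2.2.1, Subtype.ext r0.2.2.2⟩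
  have e3 : afn c (cU K 1024) = rho (afn c (cU K 2)) := by rw [← cρ _ mB, e1]
  rw [cρ _ mA, e3] at r1
  obtain ⟨y, hy, e4⟩ : ∃ y ∈ L, afn c (cU K 2980) = cU K y := by
    obtain ⟨i, hi, e⟩ := ex_gen h2 (afn_mem c mC)
    have e := e 0 0 ((mem_OR.1 hc _ mC).1.trans bt_zero.symm) ((mem_OR.1 hc _ mC).2.trans bt_zero.symm)
    obtain ⟨y, hy, e'⟩ := meet_bit chk1 hi ((ev_ne (K := K)).2 (by rw [ev_rho hi, ← e, ← cρ _ mC, e2]))
    exact ⟨y, hy, by rw [e, (ev_ne (K := K)).1 e', ev_cB hi]⟩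
  obtain ⟨i, hi, e⟩ := ex_gen h2 (afn_mem c mB)
  have e := e M 0 ((mem_OR.1 hc _ mB).1.trans (by rw [bt, hi]; rfl)) ((mem_OR.1 hc _ mB).2.trans bt_zero.symm)
  obtain ⟨r, hr, e'⟩ := meet_bit (chk2 y hy) hi ((ev_rel (K := K)).2 (by
    simpa only [ev_rho hi, ev_cB hi, ← e, ← e4] using r1))
  have mr : cU K r ∈ Rs := by rw [mem_Rs, cU, bt, L_ev r hr]; rfl
  rw [Nat.land_eq, Nat.testBit_and, Bool.and_eq_false_iff] at e'
  refine ⟨_, mr, e'.imp (fun e' => aut_eq h2 ?_) fun e' => aut_eq h2 ?_⟩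
  · have := ev_cj (K := K) e'
    simp only [ev_rho hi, ev_cB hi, ← e, ← e4, ← e3] at this
    rwa [afn_cR _ mA, afn_cR _ mB, afn_cR _ mC]
  · have := ev_cj (K := K) e'
    have g : ∀ x ∈ Rs, afn (cR (cU K r) * rR (γ0 h2)) x = cU K r * g0 x * (cU K r)⁻¹ := fun x hx => by
      rw [afn_mul _ _ hx, afn_cR _ (afn_mem _ hx), afn_res _ hx]; rfl
    simp only [ev_rho hi, ev_g0, ev_cB hi, ← e, ← e4, ← e3] at this
    rwa [g _ mA, g _ mB, g _ mC]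

end Cfsg.Agent.RFS
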